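import Cfsg.Agent.GenA.BaerTrick
import Cfsg.Agent.Lib.Coprime.Generation
import Mathlib.GroupTheory.SpecificGroups.Cyclic

/-!
Elementary tools for the Klinger–Mason theorem: elementary abelian subgroups, the Baer sum on a
`p`-group of class two and exponent `p`, and eigenvectors of commuting involutions.
-/

set_option autoImplicit false

namespace Cfsg.Agent.KlingerMason

open scoped commutatorElement

variable {G : Type*} [Group G] {p : ℕ}

/-- An elementary abelian `p`-subgroup. -/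
structure EA (p : ℕ) (A : Subgroup G) : Prop where
  comm : ∀ a ∈ A, ∀ b ∈ A, a * b = b * a
  pow : ∀ a ∈ A, a ^ p = 1

theorem EA.le {A B : Subgroup G} (h : EA p A) (hBA : B ≤ A) : EA p B :=
  ⟨fun a ha b hb => h.comm a (hBA ha) b (hBA hb), fun a ha => h.pow a (hBA ha)⟩

theorem EA.isMulCommutative {A : Subgroup G} (h : EA p A) : IsMulCommutative A :=
  ⟨⟨fun a b => Subtype.ext (h.comm a a.2 b b.2)⟩⟩

theorem EA.isPGroup {A : Subgroup G} (h : EA p A) : IsPGroup p A := fun a =>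
  ⟨1, Subtype.ext (by simpa using h.pow a a.2)⟩

theorem EA.le_centralizer {A B : Subgroup G} (h : EA p A) (hBA : B ≤ A) :
    A ≤ Subgroup.centralizer (B : Set G) := fun a ha b hb => h.comm b (hBA hb) a ha

theorem commute_conj {g x : G} (h : Commute g x) : g * x * g⁻¹ = x := by
  rw [h.eq, mul_inv_cancel_right]

theorem commute_of_conj {g x : G} (h : g * x * g⁻¹ = x) : Commute g x :=
  mul_inv_eq_iff_eq_mul.mp h

theorem zpowers_le_centralizer {v : G} {E : Subgroup G} (h : ∀ e ∈ E, e * v = v * e) :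
    Subgroup.zpowers v ≤ Subgroup.centralizer (E : Set G) :=
  Subgroup.zpowers_le.mpr fun e he => h e he

theorem le_normalizer_of_le_centralizer {A B : Subgroup G}
    (h : A ≤ Subgroup.centralizer (B : Set G)) : A ≤ Subgroup.normalizer (B : Set G) :=
  h.trans (Subgroup.centralizer_le_normalizer _)

theorem EA.sup {A B : Subgroup G} (hA : EA p A) (hB : EA p B)
    (hc : B ≤ Subgroup.centralizer (A : Set G)) : EA p (A ⊔ B) := by
  have hdec : ∀ x ∈ A ⊔ B, ∃ a ∈ A, ∃ b ∈ B, x = a * b := fun x hx => by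
    have h2 : x ∈ (↑(A ⊔ B) : Set G) := hx
    rw [Subgroup.coe_mul_of_right_le_normalizer_left A B (le_normalizer_of_le_centralizer hc)] at h2
    obtain ⟨a, ha, b, hb, rfl⟩ := h2
    exact ⟨a, ha, b, hb, rfl⟩
  refine ⟨fun x hx y hy => ?_, fun x hx => ?_⟩
  · obtain ⟨a, ha, b, hb, rfl⟩ := hdec x hx
    obtain ⟨a', ha', b', hb', rfl⟩ := hdec y hy
    have h1 : Commute b a' := (hc hb a' ha').symm
    have h2 : Commute a b' := hc hb' a ha
    calc a * b * (a' * b') = a * (b * a') * b' := by group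
      _ = (a * a') * (b * b') := by rw [h1.eq]; group
      _ = (a' * a) * (b' * b) := by rw [hA.comm a ha a' ha', hB.comm b hb b' hb']
      _ = a' * (a * b') * b := by group
      _ = _ := by rw [h2.eq]; group
  · obtain ⟨a, ha, b, hb, rfl⟩ := hdec x hx
    rw [(show Commute a b from hc hb a ha).mul_pow, hA.pow a ha, hB.pow b hb, one_mul]

theorem card_sup {A B : Subgroup G} [Finite G] (hc : B ≤ Subgroup.centralizer (A : Set G))
    (hd : A ⊓ B = ⊥) : Nat.card ↥(A ⊔ B) = Nat.card A * Nat.card B :=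
  Coprime.card_sup_of_disjoint (le_normalizer_of_le_centralizer hc) (disjoint_iff.mpr hd)

theorem EA.zpowers [Fact p.Prime] {v : G} (hv : v ^ p = 1) : EA p (Subgroup.zpowers v) := by
  refine ⟨fun a ha b hb => ?_, fun a ha => ?_⟩
  · obtain ⟨i, rfl⟩ := Subgroup.mem_zpowers_iff.mp ha
    obtain ⟨j, rfl⟩ := Subgroup.mem_zpowers_iff.mp hb
    exact ((Commute.refl v).zpow_zpow i j).eq
  · obtain ⟨i, rfl⟩ := Subgroup.mem_zpowers_iff.mp ha
    rw [← zpow_natCast, ← zpow_mul, mul_comm, zpow_mul, zpow_natCast, hv, one_zpow]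

theorem inf_zpowers_eq_bot [hp : Fact p.Prime] {v : G} {E : Subgroup G} (hv : v ^ p = 1) (hvE : v ∉ E) :
    E ⊓ Subgroup.zpowers v = ⊥ := by
  rw [eq_bot_iff]
  rintro x ⟨hxE, hx⟩
  obtain ⟨i, rfl⟩ := Subgroup.mem_zpowers_iff.mp hx
  by_contra hne
  rw [Subgroup.mem_bot] at hne
  have hv1 : v ≠ 1 := fun h => hne (by rw [h, one_zpow])
  have hord : orderOf v = p := orderOf_eq_prime hv hv1
  have hcop : ¬ (p : ℤ) ∣ i := fun h => hne (orderOf_dvd_iff_zpow_eq_one.mp (hord ▸ h))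
  have hbez : IsCoprime i (p : ℤ) := by
    refine Int.isCoprime_iff_gcd_eq_one.mpr ?_
    exact (Nat.coprime_comm.mp (hp.out.coprime_iff_not_dvd.mpr fun h => hcop (Int.natCast_dvd.mpr h)))
  obtain ⟨r, s, hrs⟩ := hbez
  refine hvE ?_
  have : v = (v ^ i) ^ r * (v ^ (p : ℤ)) ^ s := by
    rw [← zpow_mul, ← zpow_mul, ← zpow_add, show i * r + (p : ℤ) * s = 1 by linarith, zpow_one]
  rw [this, zpow_natCast, hv, one_zpow, mul_one]
  exact E.zpow_mem hxE r

theorem EA.sup_zpowers [Finite G] [Fact p.Prime] {E : Subgroup G} (hE : EA p E) {v : G}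
    (hv : v ^ p = 1) (hc : ∀ e ∈ E, e * v = v * e) (hvE : v ∉ E) :
    EA p (E ⊔ Subgroup.zpowers v) ∧ Nat.card ↥(E ⊔ Subgroup.zpowers v) = Nat.card E * p := by
  refine ⟨hE.sup (EA.zpowers hv) (zpowers_le_centralizer hc), ?_⟩
  rw [card_sup (zpowers_le_centralizer hc) (inf_zpowers_eq_bot hv hvE), Nat.card_zpowers,
    orderOf_eq_prime hv fun h => hvE (h ▸ E.one_mem)]

/-- `B` is a hyperplane of `A`. -/
def Hyp (p : ℕ) (A B : Subgroup G) : Prop := B ≤ A ∧ Nat.card B * p = Nat.card A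

theorem Hyp.sup_eq [Finite G] [Fact p.Prime] {A B : Subgroup G} (hA : EA p A) (hB : Hyp p A B)
    {a : G} (ha : a ∈ A) (haB : a ∉ B) : B ⊔ Subgroup.zpowers a = A := by
  refine Subgroup.eq_of_le_of_card_ge (sup_le hB.1 (Subgroup.zpowers_le.mpr ha)) (ge_of_eq ?_)
  rw [((hA.le hB.1).sup_zpowers (hA.pow a ha) (fun e he => hA.comm e (hB.1 he) a ha) haB).2, hB.2]

theorem Hyp.centralizes [Finite G] [Fact p.Prime] {A B : Subgroup G} (hA : EA p A) (hB : Hyp p A B)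
    {a x : G} (ha : a ∈ A) (haB : a ∉ B) (hx : x ∈ Subgroup.centralizer (B : Set G))
    (hax : a * x = x * a) : x ∈ Subgroup.centralizer (A : Set G) := by
  have hle : A ≤ Subgroup.centralizer {x} := by
    rw [← hB.sup_eq hA ha haB, sup_le_iff, Subgroup.zpowers_le]
    exact ⟨fun b hb => Subgroup.mem_centralizer_singleton_iff.mpr (hx b hb),
      Subgroup.mem_centralizer_singleton_iff.mpr hax⟩
  exact fun b hb => Subgroup.mem_centralizer_singleton_iff.mp (hle hb)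

theorem Hyp.exists_notMem [Finite G] [hp : Fact p.Prime] {A B : Subgroup G} (hB : Hyp p A B) :
    ∃ a ∈ A, a ∉ B := by
  by_contra! h
  have heq : B = A := le_antisymm hB.1 h
  have h2 := hB.2
  rw [heq] at h2
  have := hp.out.one_lt
  have hpos : 0 < Nat.card A := Nat.card_pos
  nlinarith

theorem Hyp.card_le_inf_mul [Finite G] {A B D : Subgroup G} (hB : Hyp p A B) (hD : D ≤ A) :
    Nat.card D ≤ Nat.card ↥(D ⊓ B) * p := by
  have h2 : B.relIndex A = p := by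
    have h := Subgroup.relIndex_mul_relIndex ⊥ B A bot_le hB.1
    rw [Subgroup.relIndex_bot_left, Subgroup.relIndex_bot_left, ← hB.2] at h
    exact Nat.eq_of_mul_eq_mul_left Nat.card_pos h
  have hp0 : p ≠ 0 := fun h0 => by
    have h := hB.2
    rw [h0, mul_zero] at h
    exact Nat.card_pos.ne' h.symm
  have h1 : (D ⊓ B).relIndex D ≤ p := by
    rw [inf_comm, Subgroup.inf_relIndex_right, ← h2]
    exact Subgroup.relIndex_le_of_le_right hD (by rw [h2]; exact hp0)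
  have h3 := Subgroup.relIndex_mul_relIndex ⊥ (D ⊓ B) D bot_le inf_le_left
  rw [Subgroup.relIndex_bot_left, Subgroup.relIndex_bot_left] at h3
  rw [← h3]
  exact Nat.mul_le_mul_left _ h1

/-- In the centralizers of hyperplanes one generates a coprime group. -/
theorem le_of_hyperplanes [Finite G] [hp : Fact p.Prime] {A K S : Subgroup G} (hA : EA p A)
    (hA1 : A ≠ ⊥) (hAK : A ≤ Subgroup.normalizer (K : Set G))
    (hcop : (Nat.card K).Coprime p)
    (h : ∀ B, Hyp p A B → K ⊓ Subgroup.centralizer (B : Set G) ≤ S) : K ≤ S := by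
  have hpp := hp.out
  obtain ⟨k, hk⟩ := IsPGroup.iff_card.mp hA.isPGroup
  have hk0 : k ≠ 0 := fun e => hA1 (Subgroup.card_eq_one.mp (by rw [hk, e, pow_zero]))
  suffices ∀ n : ℕ, ∀ B : Subgroup G, B ≤ A → Nat.card B * p ≤ Nat.card A → Nat.card A ≤ Nat.card B + n →
      K ⊓ Subgroup.centralizer (B : Set G) ≤ S by
    refine le_trans (le_inf le_rfl ?_) (this (Nat.card A) ⊥ bot_le ?_ (Nat.le_add_left _ _))
    · intro x _ b hb
      rw [Subgroup.mem_bot.mp hb, one_mul, mul_one]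
    · rw [Subgroup.card_bot, one_mul, hk]
      exact Nat.le_self_pow hk0 p
  intro n
  induction n with
  | zero =>
    intro B hB h1 h2
    have hpos : 0 < Nat.card B := Nat.card_pos
    have := hpp.one_lt
    nlinarith
  | succ n ih =>
    intro B hB h1 h2
    rcases eq_or_lt_of_le h1 with h1' | h1'
    · exact h B ⟨hB, h1'⟩
    obtain ⟨a1, ha1, ha1B⟩ : ∃ a1 ∈ A, a1 ∉ B := by
      by_contra! hc
      have heq : B = A := le_antisymm hB hc
      rw [heq] at h1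
      have hpos : 0 < Nat.card A := Nat.card_pos
      have := hpp.one_lt
      nlinarith
    obtain ⟨hE1, hcard1⟩ := (hA.le hB).sup_zpowers (hA.pow a1 ha1)
      (fun e he => hA.comm e (hB he) a1 ha1) ha1B
    obtain ⟨a2, ha2, ha2B⟩ : ∃ a2 ∈ A, a2 ∉ B ⊔ Subgroup.zpowers a1 := by
      by_contra! hc
      have heq : B ⊔ Subgroup.zpowers a1 = A :=
        le_antisymm (sup_le hB (Subgroup.zpowers_le.mpr ha1)) hc
      rw [heq] at hcard1
      omega
    have hz2 : a2 ∉ Subgroup.zpowers a1 := fun h' => ha2B (Subgroup.mem_sup_right h')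
    obtain ⟨hA1E, hA1c⟩ := (EA.zpowers (hA.pow a1 ha1)).sup_zpowers (hA.pow a2 ha2)
      (fun e he => hA.comm e (Subgroup.zpowers_le.mpr ha1 he) a2 ha2) hz2
    set A1 := Subgroup.zpowers a1 ⊔ Subgroup.zpowers a2 with hA1def
    have hA1A : A1 ≤ A := sup_le (Subgroup.zpowers_le.mpr ha1) (Subgroup.zpowers_le.mpr ha2)
    have ha11 : a1 ≠ 1 := fun e => ha1B (e ▸ B.one_mem)
    rw [Nat.card_zpowers, orderOf_eq_prime (hA.pow a1 ha1) ha11] at hA1c
    have := hA1E.isMulCommutative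
    have hncyc : ¬ IsCyclic A1 := by
      intro hcy
      obtain ⟨g, hg⟩ := hcy.exists_generator
      have hord : orderOf g = Nat.card A1 := orderOf_eq_card_of_forall_mem_zpowers hg
      have hdvd : orderOf g ∣ p := orderOf_dvd_of_pow_eq_one (Subtype.ext (by simpa using hA1E.pow g g.2))
      rw [hord, hA1c] at hdvd
      have hle := Nat.le_of_dvd hpp.pos hdvd
      have := hpp.one_lt
      nlinarith
    set KB := K ⊓ Subgroup.centralizer (B : Set G) with hKB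
    have hAKB : A1 ≤ Subgroup.normalizer (KB : Set G) := by
      rw [Subgroup.le_normalizer_iff]
      intro g hg x hx
      refine ⟨(Subgroup.le_normalizer_iff.mp hAK) g (hA1A hg) x hx.1, fun b hb => ?_⟩
      have hgb : Commute g b := hA.comm g (hA1A hg) b (hB hb)
      have hxb : Commute x b := (hx.2 b hb).symm
      exact (((hgb.mul_left hxb).mul_left hgb.inv_left).symm).eq
    have hcop1 : (Nat.card A1).Coprime (Nat.card KB) := by
      rw [hA1c]
      have := hcop.coprime_dvd_left (Subgroup.card_dvd_of_le (inf_le_left : KB ≤ K))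
      exact (Nat.Coprime.mul_right this this).symm
    rw [← Coprime.fixedGen_eq hncyc hAKB hcop1]
    refine iSup₂_le fun a ha => ?_
    obtain ⟨haA1, ha1'⟩ := ha
    have haA : a ∈ A := hA1A haA1
    -- `a` lies outside `B`
    have haB : a ∉ B := by
      intro haB
      have h2 : a ∈ (↑A1 : Set G) := haA1
      rw [hA1def, Subgroup.coe_mul_of_right_le_normalizer_left _ _ (le_normalizer_of_le_centralizer
        (zpowers_le_centralizer fun e he => hA.comm e (Subgroup.zpowers_le.mpr ha1 he) a2 ha2))] at h2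
      obtain ⟨x, hx, y, hy, rfl⟩ := h2
      have hy2 : y ∈ B ⊔ Subgroup.zpowers a1 := by
        have : x⁻¹ * (x * y) ∈ B ⊔ Subgroup.zpowers a1 :=
          mul_mem (inv_mem (Subgroup.mem_sup_right hx)) (Subgroup.mem_sup_left haB)
        simpa using this
      have hy1 : y = 1 := by
        have : y ∈ (B ⊔ Subgroup.zpowers a1) ⊓ Subgroup.zpowers a2 := ⟨hy2, hy⟩
        rwa [inf_zpowers_eq_bot (hA.pow a2 ha2) ha2B, Subgroup.mem_bot] at this
      subst hy1
      simp only [mul_one] at haB ha1'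
      have : x ∈ B ⊓ Subgroup.zpowers a1 := ⟨haB, hx⟩
      rw [inf_zpowers_eq_bot (hA.pow a1 ha1) ha1B, Subgroup.mem_bot] at this
      exact ha1' this
    obtain ⟨hE, hc⟩ := (hA.le hB).sup_zpowers (hA.pow a haA) (fun e he => hA.comm e (hB he) a haA) haB
    refine le_trans ?_ (ih _ (sup_le hB (Subgroup.zpowers_le.mpr haA)) ?_ ?_)
    · rintro x ⟨⟨hxK, hxB⟩, hxa⟩
      refine ⟨hxK, fun b hb => ?_⟩
      have hle : B ⊔ Subgroup.zpowers a ≤ Subgroup.centralizer {x} := by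
        rw [sup_le_iff, Subgroup.zpowers_le]
        exact ⟨fun b hb => Subgroup.mem_centralizer_singleton_iff.mpr (hxB b hb),
          Subgroup.mem_centralizer_singleton_iff.mpr (Subgroup.mem_centralizer_singleton_iff.mp hxa).symm⟩
      exact Subgroup.mem_centralizer_singleton_iff.mp (hle hb)
    · rw [hc]
      obtain ⟨i, hi⟩ := IsPGroup.iff_card.mp (hA.le hB).isPGroup
      rw [hi, hk] at h1' ⊢
      rw [← pow_succ, ← pow_succ]
      refine Nat.pow_le_pow_right hpp.pos ?_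
      rw [← pow_succ] at h1'
      have := (Nat.pow_lt_pow_iff_right hpp.one_lt).mp h1'
      omega
    · rw [hc]
      have hpos : 0 < Nat.card B := Nat.card_pos
      have := hpp.two_le
      nlinarith

/-! ### The Baer sum -/

/-- A subgroup of exponent `p` and class at most two. -/
structure Dp (p : ℕ) (D : Subgroup G) : Prop where
  pow : ∀ x ∈ D, x ^ p = 1
  cen : ∀ x ∈ D, ∀ y ∈ D, ∀ z ∈ D, ⁅x, y⁆ * z = z * ⁅x, y⁆

/-- The Baer sum. -/
def badd (p : ℕ) (x y : G) : G := x * y * ⁅y, x⁆ ^ ((p + 1) / 2)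

theorem badd_conj (g x y : G) :
    g * badd p x y * g⁻¹ = badd p (g * x * g⁻¹) (g * y * g⁻¹) := by
  unfold badd
  have h : (MulAut.conj g) (x * y * ⁅y, x⁆ ^ ((p + 1) / 2)) =
      (MulAut.conj g) x * (MulAut.conj g) y * ⁅(MulAut.conj g) y, (MulAut.conj g) x⁆ ^ ((p + 1) / 2) := by
    rw [map_mul, map_mul, map_pow, map_commutatorElement]
  simpa only [MulAut.conj_apply] using h

theorem badd_mem {D : Subgroup G} {x y : G} (hx : x ∈ D) (hy : y ∈ D) : badd p x y ∈ D :=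
  mul_mem (mul_mem hx hy) (pow_mem (by
    rw [commutatorElement_def]
    exact mul_mem (mul_mem (mul_mem hy hx) (inv_mem hy)) (inv_mem hx)) _)

theorem Dp.baer {D : Subgroup G} (hD : Dp p D) (hp : Odd p) :
    (∀ x ∈ D, ∀ y ∈ D, badd p x y = badd p y x) ∧
      (∀ x ∈ D, ∀ y ∈ D, (badd p x y)⁻¹ = badd p x⁻¹ y⁻¹) ∧
      (∀ x ∈ D, ∀ y ∈ D, badd p x y = 1 → y = x⁻¹) ∧
      ∀ x ∈ D, ∀ y ∈ D, badd p (badd p x y) (badd p x y⁻¹) = x * x := by
  have hcen : ∀ a b : D, ⁅a, b⁆ ∈ Subgroup.center D := fun a b => by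
    rw [Subgroup.mem_center_iff]
    intro z
    refine Subtype.ext ?_
    exact (hD.cen a a.2 b b.2 z z.2).symm
  have hh : ∀ a b : D, ⁅a, b⁆ ^ (2 * ((p + 1) / 2)) = ⁅a, b⁆ := fun a b => by
    obtain ⟨k, hk⟩ := hp
    rw [show 2 * ((p + 1) / 2) = p + 1 by omega, pow_succ,
      show ⁅a, b⁆ ^ p = 1 from Subtype.ext (by simpa using hD.pow _ (⁅a, b⁆ : D).2), one_mul]
  letI := GenA.BaerTrick.baerGroup hcen ((p + 1) / 2) hh
  have key : ∀ a b : GenA.BaerTrick.Baer D, ((a * b).val : G) = badd p (a.val : G) (b.val : G) :=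
    fun a b => rfl
  refine ⟨fun x hx y hy => ?_, fun x hx y hy => ?_, fun x hx y hy h => ?_, fun x hx y hy => ?_⟩
  · have h := key ⟨⟨x, hx⟩⟩ ⟨⟨y, hy⟩⟩
    rw [mul_comm] at h
    exact h.symm.trans (key ⟨⟨y, hy⟩⟩ ⟨⟨x, hx⟩⟩)
  · have h : ((⟨⟨x, hx⟩⟩ * ⟨⟨y, hy⟩⟩ : GenA.BaerTrick.Baer D))⁻¹ =
        (⟨⟨x, hx⟩⟩ : GenA.BaerTrick.Baer D)⁻¹ * (⟨⟨y, hy⟩⟩ : GenA.BaerTrick.Baer D)⁻¹ := mul_inv _ _
    exact (congrArg (fun z : GenA.BaerTrick.Baer D => (z.val : G)) h).trans (key _ _)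
  · have h1 : (⟨⟨x, hx⟩⟩ * ⟨⟨y, hy⟩⟩ : GenA.BaerTrick.Baer D) = 1 :=
      GenA.BaerTrick.Baer.ext (Subtype.ext h)
    exact congrArg (fun z : GenA.BaerTrick.Baer D => (z.val : G)) (eq_inv_of_mul_eq_one_right h1)
  · have h : (⟨⟨x, hx⟩⟩ * ⟨⟨y, hy⟩⟩) * (⟨⟨x, hx⟩⟩ * (⟨⟨y, hy⟩⟩)⁻¹) =
        (⟨⟨x, hx⟩⟩ * ⟨⟨x, hx⟩⟩ : GenA.BaerTrick.Baer D) := by
      rw [mul_mul_mul_comm, mul_inv_cancel, mul_one]
    refine (congrArg (fun z : GenA.BaerTrick.Baer D => (z.val : G)) h).trans ?_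
    refine (key _ _).trans ?_
    simp [badd, commutatorElement_self]

theorem Dp.eq_one_of_sq {D : Subgroup G} (hD : Dp p D) (hp : Odd p) {x : G} (hx : x ∈ D)
    (h : x = x⁻¹) : x = 1 := by
  obtain ⟨k, hk⟩ := hp
  have h2 : x * x = 1 := by nth_rw 2 [h]; exact mul_inv_cancel x
  have := hD.pow x hx
  rw [hk, pow_succ, pow_mul, sq, h2, one_pow, one_mul] at this
  exact this

theorem Dp.mem_of_sq {D K : Subgroup G} (hD : Dp p D) (hp : Odd p) {x : G} (hx : x ∈ D)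
    (h : x * x ∈ K) : x ∈ K := by
  obtain ⟨k, hk⟩ := hp
  have h1 : x = (x * x) ^ (k + 1) := by
    rw [← sq, ← pow_mul, show 2 * (k + 1) = p + 1 by omega, pow_succ, hD.pow x hx, one_mul]
  exact h1 ▸ pow_mem h _

/-- `t` fixes `v`. -/
def Fx (t v : G) : Prop := t * v * t⁻¹ = v

/-- `t` inverts `v`. -/
def Ng (t v : G) : Prop := t * v * t⁻¹ = v⁻¹

theorem Dp.not_both {D : Subgroup G} (hD : Dp p D) (hp : Odd p) {t v : G} (hv : v ∈ D)
    (h1 : Fx t v) (h2 : Ng t v) : v = 1 :=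
  hD.eq_one_of_sq hp hv (h1.symm.trans h2)

theorem inv_conj {t : G} (ht : t * t = 1) (x : G) : t * (t * x * t⁻¹) * t⁻¹ = x := by
  calc t * (t * x * t⁻¹) * t⁻¹ = t * t * x * (t * t)⁻¹ := by group
    _ = x := by rw [ht, inv_one, one_mul, mul_one]

theorem conj_comm {s t : G} (h : s * t = t * s) (x : G) :
    s * (t * x * t⁻¹) * s⁻¹ = t * (s * x * s⁻¹) * t⁻¹ := by
  calc s * (t * x * t⁻¹) * s⁻¹ = s * t * x * (s * t)⁻¹ := by group
    _ = t * s * x * (t * s)⁻¹ := by rw [h]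
    _ = _ := by group

/-- The two eigencomponents of `v` for an involution `t`. -/
theorem Dp.split {D : Subgroup G} (hD : Dp p D) (hp : Odd p) {t v : G} (ht : t * t = 1)
    (hv : v ∈ D) (htv : t * v * t⁻¹ ∈ D) :
    ∃ f ∈ D, ∃ i ∈ D, Fx t f ∧ Ng t i ∧ (f = 1 → Ng t v) ∧ (i = 1 → Fx t v) ∧
      badd p f i = v * v ∧
      ∀ s : G, s * t = t * s → (Fx s v → Fx s f ∧ Fx s i) ∧ (Ng s v → Ng s f ∧ Ng s i) := by
  obtain ⟨hcomm, hinv, hone, hrec⟩ := hD.baer hp
  refine ⟨badd p v (t * v * t⁻¹), badd_mem hv htv, badd p v (t * v * t⁻¹)⁻¹,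
    badd_mem hv (inv_mem htv), ?_, ?_, fun h => hone _ hv _ htv h, fun h => ?_,
    hrec _ hv _ htv, fun s hs => ⟨fun h => ?_, fun h => ?_⟩⟩
  · rw [Fx, badd_conj, inv_conj ht, hcomm _ htv _ hv]
  · rw [Ng, badd_conj, ← conj_inv, inv_conj ht, hinv _ hv _ (inv_mem htv), inv_inv,
      hcomm _ htv _ (inv_mem hv)]
  · exact inv_injective (hone _ hv _ (inv_mem htv) h)
  · constructor
    · rw [Fx, badd_conj, conj_comm hs, h]
    · rw [Fx, badd_conj, ← conj_inv, conj_comm hs, h]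
  · constructor
    · rw [Ng, badd_conj, conj_comm hs, h, ← conj_inv, hinv _ hv _ htv]
    · rw [Ng, badd_conj, ← conj_inv, conj_comm hs, h, ← conj_inv, hinv _ hv _ (inv_mem htv)]

theorem Dp.exists_fix {D : Subgroup G} (hD : Dp p D) (hp : Odd p) {t v : G} (ht : t * t = 1)
    (hv : v ∈ D) (htv : t * v * t⁻¹ ∈ D) (hn : ¬ Ng t v) :
    ∃ f ∈ D, f ≠ 1 ∧ Fx t f ∧
      ∀ s : G, s * t = t * s → (Fx s v → Fx s f) ∧ (Ng s v → Ng s f) := by
  obtain ⟨f, hf, i, -, h1, -, h3, -, -, h6⟩ := hD.split hp ht hv htv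
  exact ⟨f, hf, fun h => hn (h3 h), h1,
    fun s hs => ⟨fun h => ((h6 s hs).1 h).1, fun h => ((h6 s hs).2 h).1⟩⟩

theorem Dp.exists_neg {D : Subgroup G} (hD : Dp p D) (hp : Odd p) {t v : G} (ht : t * t = 1)
    (hv : v ∈ D) (htv : t * v * t⁻¹ ∈ D) (hn : ¬ Fx t v) :
    ∃ i ∈ D, i ≠ 1 ∧ Ng t i ∧
      ∀ s : G, s * t = t * s → (Fx s v → Fx s i) ∧ (Ng s v → Ng s i) := by
  obtain ⟨f, -, i, hi, -, h2, -, h4, -, h6⟩ := hD.split hp ht hv htv
  exact ⟨i, hi, fun h => hn (h4 h), h2,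
    fun s hs => ⟨fun h => ((h6 s hs).1 h).2, fun h => ((h6 s hs).2 h).2⟩⟩

/-- An eigenvector for an elementary abelian `2`-group acting nontrivially. -/
theorem Dp.exists_eigen [Finite G] {D : Subgroup G} (hD : Dp p D) (hp : Odd p) {U : Subgroup G}
    (hU : EA 2 U) (hUD : ∀ g ∈ U, ∀ d ∈ D, g * d * g⁻¹ ∈ D) {g₀ d : G} (hg₀ : g₀ ∈ U) (hd : d ∈ D)
    (hne : g₀ * d * g₀⁻¹ ≠ d) :
    ∃ v ∈ D, v ≠ 1 ∧ Ng g₀ v ∧ ∀ g ∈ U, Fx g v ∨ Ng g v := by
  classical
  have hinv : ∀ g ∈ U, g * g = 1 := fun g hg => sq g ▸ hU.pow g hg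
  suffices ∀ s : Finset G, (∀ g ∈ s, g ∈ U) →
      ∃ v ∈ D, v ≠ 1 ∧ Ng g₀ v ∧ ∀ g ∈ s, Fx g v ∨ Ng g v by
    obtain ⟨v, h1, h2, h3, h4⟩ := this (Set.toFinite (U : Set G)).toFinset (by simp)
    exact ⟨v, h1, h2, h3, fun g hg => h4 g (by simpa using hg)⟩
  intro s
  induction s using Finset.induction_on with
  | empty =>
    intro _
    obtain ⟨i, hi, hi1, hin, -⟩ := hD.exists_neg hp (hinv _ hg₀) hd (hUD _ hg₀ _ hd) hne
    exact ⟨i, hi, hi1, hin, by simp⟩
  | insert g s _ ih =>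
    intro hs
    obtain ⟨v, hv, hv1, hvn, hvs⟩ := ih fun x hx => hs x (Finset.mem_insert_of_mem hx)
    have hg : g ∈ U := hs g (Finset.mem_insert_self g s)
    by_cases hn : Ng g v
    · exact ⟨v, hv, hv1, hvn, fun x hx => (Finset.mem_insert.mp hx).elim (fun e => e ▸ Or.inr hn)
        (hvs x)⟩
    · obtain ⟨f, hf, hf1, hff, hfs⟩ := hD.exists_fix hp (hinv g hg) hv (hUD g hg v hv) hn
      refine ⟨f, hf, hf1, (hfs g₀ (hU.comm g₀ hg₀ g hg)).2 hvn, fun x hx => ?_⟩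
      rcases Finset.mem_insert.mp hx with rfl | hx'
      · exact Or.inl hff
      · have := hfs x (hU.comm x (hs x hx) g hg)
        exact (hvs x hx').imp this.1 this.2

/-- Signs multiply. -/
theorem Fx.mul {g h v : G} (hg : Fx g v) (hh : Fx h v) : Fx (g * h) v := by
  unfold Fx at *
  calc g * h * v * (g * h)⁻¹ = g * (h * v * h⁻¹) * g⁻¹ := by group
    _ = v := by rw [hh, hg]

theorem Fx.mul_ng {g h v : G} (hg : Fx g v) (hh : Ng h v) : Ng (g * h) v := by
  unfold Fx Ng at *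
  calc g * h * v * (g * h)⁻¹ = g * (h * v * h⁻¹) * g⁻¹ := by group
    _ = (g * v * g⁻¹)⁻¹ := by rw [hh, conj_inv]
    _ = v⁻¹ := by rw [hg]

theorem Ng.mul_fx {g h v : G} (hg : Ng g v) (hh : Fx h v) : Ng (g * h) v := by
  unfold Fx Ng at *
  calc g * h * v * (g * h)⁻¹ = g * (h * v * h⁻¹) * g⁻¹ := by group
    _ = v⁻¹ := by rw [hh, hg]

theorem Ng.mul {g h v : G} (hg : Ng g v) (hh : Ng h v) : Fx (g * h) v := by
  unfold Fx Ng at *
  calc g * h * v * (g * h)⁻¹ = g * (h * v * h⁻¹) * g⁻¹ := by group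
    _ = (g * v * g⁻¹)⁻¹ := by rw [hh, conj_inv]
    _ = v := by rw [hg, inv_inv]

theorem Fx.commute {g v : G} (hg : Fx g v) : g * v = v * g := (commute_of_conj hg).eq

end Cfsg.Agent.KlingerMason
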