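import Mathlib

/-!
Linear algebra in characteristic two for the Klinger–Mason theorem.
-/

set_option autoImplicit false

namespace Cfsg.Agent.KlingerMason.Module2

/-- The key identity: `(i - 1) ^ 3 = 0`. -/
theorem cube_eq_zero {R : Type*} [Ring R] (h2 : (1 : R) + 1 = 0) {i j l a z : R}
    (ha3 : a * a * a = 1) (ha : 1 + a + a * a = 0) (hi : a * i = j * a) (hj : a * j = l * a)
    (hii : i * i = z) (hll : l * l = z) (hzz : z * z = 1) (hza : a * z = z * a)
    (hzi : i * z = z * i) (hprod : i * j * l = 1) (hja : 1 + j * a + j * a * (j * a) = 0) :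
    (i + 1) * (i + 1) * (i + 1) = 0 := by
  have dbl : ∀ x : R, x + x = 0 := fun x => by rw [← two_mul, ← one_add_one_eq_two, h2, zero_mul]
  have mv : ∀ x y : R, x + y = 0 → x = y := fun x y h => add_right_cancel (h.trans (dbl y).symm)
  have haa : a * a = a + 1 := by
    have := mv (1 + a) (a * a) ha
    rw [← this, add_comm]
  have hjl : j * l = i * z := by
    calc j * l = i * z * i * (j * l) := by
          rw [show i * z * i = 1 by rw [hzi, mul_assoc, hii, hzz], one_mul]
      _ = i * z * (i * j * l) := by simp only [mul_assoc]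
      _ = i * z := by rw [hprod, mul_one]
  have hij : i * j = l * z := by
    calc i * j = i * j * (l * (l * z)) := by rw [← mul_assoc l l z, hll, hzz, mul_one]
      _ = i * j * l * (l * z) := by simp only [mul_assoc]
      _ = l * z := by rw [hprod, one_mul]
  have e1 : j * a * (j * a) = i * z * (a * a) := by
    calc j * a * (j * a) = j * (a * j) * a := by simp only [mul_assoc]
      _ = j * (l * a) * a := by rw [hj]
      _ = j * l * (a * a) := by simp only [mul_assoc]
      _ = _ := by rw [hjl]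
  have hJ : (i * z + 1) * a = j + 1 := by
    have h0 : a + j * (a * a) + i * z = 0 := by
      have : (1 + j * a + i * z * (a * a)) * a = 0 := by rw [← e1, hja, zero_mul]
      calc a + j * (a * a) + i * z = a + j * (a * a) + i * z * (a * a * a) := by rw [ha3, mul_one]
        _ = (1 + j * a + i * z * (a * a)) * a := by noncomm_ring
        _ = 0 := this
    have h1 : i * z = a + j * (a * a) := (mv _ _ h0).symm
    calc (i * z + 1) * a = (a + j * (a * a) + 1) * a := by rw [h1]
      _ = a * a + j * (a * a * a) + a := by noncomm_ring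
      _ = a + 1 + j + a := by rw [ha3, mul_one, haa]
      _ = j + 1 + (a + a) := by abel
      _ = j + 1 := by rw [dbl, add_zero]
  have hL : (j * z + 1) * a = l + 1 := by
    have h1 : (j * z + 1) * a * a = (l + 1) * a := by
      calc (j * z + 1) * a * a = (j * (z * a) + a) * a := by noncomm_ring
        _ = (j * (a * z) + a) * a := by rw [hza]
        _ = (j * a * z + a) * a := by simp only [mul_assoc]
        _ = (a * i * z + a) * a := by rw [hi]
        _ = a * ((i * z + 1) * a) := by noncomm_ring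
        _ = a * j + a := by rw [hJ, mul_add, mul_one]
        _ = (l + 1) * a := by rw [hj, add_mul, one_mul]
    calc (j * z + 1) * a = (j * z + 1) * a * (a * a * a) := by rw [ha3, mul_one]
      _ = (j * z + 1) * a * a * (a * a) := by simp only [mul_assoc]
      _ = (l + 1) * a * (a * a) := by rw [h1]
      _ = (l + 1) * (a * a * a) := by simp only [mul_assoc]
      _ = l + 1 := by rw [ha3, mul_one]
  have hj' : j = (i * z + 1) * a + 1 := by rw [hJ, add_assoc, h2, add_zero]
  have hl' : l = (j * z + 1) * a + 1 := by rw [hL, add_assoc, h2, add_zero]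
  have hA : (i + 1) * (j + 1) = (i * z + i) * a := by
    calc (i + 1) * (j + 1) = (i * i * z + i + (i * z + 1)) * a := by rw [← hJ]; noncomm_ring
      _ = (i * z + i + (1 + 1)) * a := by rw [hii, hzz]; congr 1; abel
      _ = _ := by rw [h2, add_zero]
  have hlz : l * z = (j + z) * a + z := by
    calc l * z = ((j * z + 1) * a + 1) * z := by rw [← hl']
      _ = (j * z + 1) * (a * z) + z := by noncomm_ring
      _ = (j * z + 1) * (z * a) + z := by rw [hza]
      _ = (j * (z * z) + z) * a + z := by noncomm_ring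
      _ = _ := by rw [hzz, mul_one]
  have hB : (i + 1) * (j + 1) =
      ((i * z + 1) * a + 1 + z) * a + z + i + (i * z + 1) * a + 1 + 1 := by
    calc (i + 1) * (j + 1) = i * j + i + j + 1 := by noncomm_ring
      _ = (j + z) * a + z + i + j + 1 := by rw [hij, hlz]
      _ = _ := by rw [hj']; abel
  have hkey : (i + 1) * (z + 1) * (a * a) = 0 := by
    have h3 := (hA.symm.trans hB)
    have h4 : (i * z + i) * a +
        (((i * z + 1) * a + 1 + z) * a + z + i + (i * z + 1) * a + 1 + 1) = 0 := by rw [← h3, dbl]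
    calc (i + 1) * (z + 1) * (a * a)
        = (i * z + 1) * (a * a) + z * (a * a) + i * (a * a) := by noncomm_ring
      _ = (i * z + 1) * (a * a) + z * (a + 1) + i * (a + 1) +
          ((i * z * a + a + 1) + (i * z * a + a + 1)) := by rw [dbl, add_zero, haa]
      _ = (i * z + i) * a +
          (((i * z + 1) * a + 1 + z) * a + z + i + (i * z + 1) * a + 1 + 1) := by noncomm_ring
      _ = 0 := h4
  have hsq : (i + 1) * (i + 1) = z + 1 := by
    calc (i + 1) * (i + 1) = i * i + 1 + (i + i) := by noncomm_ring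
      _ = z + 1 := by rw [hii, dbl, add_zero]
  calc (i + 1) * (i + 1) * (i + 1) = (i + 1) * (z + 1) := by rw [mul_assoc, hsq]
    _ = (i + 1) * (z + 1) * (a * a * a) := by rw [ha3, mul_one]
    _ = (i + 1) * (z + 1) * (a * a) * a := by simp only [mul_assoc]
    _ = 0 := by rw [hkey, zero_mul]

theorem card_eq_ker_mul_range {M N : Type*} [AddCommGroup M] [AddCommGroup N] (f : M →+ N) :
    Nat.card M = Nat.card f.ker * Nat.card f.range := by
  have h := f.ker.card_mul_index
  rw [AddSubgroup.index_ker] at h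
  exact h.symm

theorem card_cube_le {M : Type*} [AddCommGroup M] [Finite M] (f : M →+ M)
    (h : ∀ x, f (f (f x)) = 0) : Nat.card (f.comp f).range ^ 3 ≤ Nat.card M := by
  set S := (f.comp f).range
  have h1 : Nat.card S ≤ Nat.card f.ker := by
    refine AddSubgroup.card_le_of_le ?_
    rintro _ ⟨x, rfl⟩
    exact h x
  let g := f.comp f.range.subtype
  have h2 : Nat.card f.range = Nat.card g.ker * Nat.card g.range := card_eq_ker_mul_range g
  have h3 : Nat.card S ≤ Nat.card g.range := by
    refine AddSubgroup.card_le_of_le ?_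
    rintro _ ⟨x, rfl⟩
    exact ⟨⟨f x, x, rfl⟩, rfl⟩
  have h4 : Nat.card S ≤ Nat.card g.ker := by
    refine Nat.card_le_card_of_injective (fun s => ⟨⟨(s : M), ?_⟩, ?_⟩) fun a b e =>
      Subtype.ext (congrArg (fun t : g.ker => ((t : f.range) : M)) e)
    · obtain ⟨x, hx⟩ := s.2
      exact ⟨f x, hx⟩
    · obtain ⟨x, hx⟩ := s.2
      show f (s : M) = 0
      rw [← hx]; exact h x
  rw [card_eq_ker_mul_range f, h2]
  calc Nat.card S ^ 3 = Nat.card S * (Nat.card S * Nat.card S) := by ring
    _ ≤ _ := Nat.mul_le_mul h1 (Nat.mul_le_mul h4 h3)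

theorem fix_step {M : Type*} [AddCommGroup M] [Finite M] (h2 : ∀ m : M, m + m = 0) (f x : M →+ M)
    (hff : ∀ m, f (f m) = m) (hx3 : ∀ m, x (x (x m)) = m) (hfx : ∀ m, f (x m) = x (x (f m)))
    (N : AddSubgroup M) (hNx : ∀ m ∈ N, x m ∈ N) :
    Nat.card {m : M // m ∈ N ∧ f m = m} ^ 2 * Nat.card {m : M // m ∈ N ∧ x m = m} ≤
      Nat.card N * Nat.card {m : M // m ∈ N ∧ x m = m ∧ f m = m} ^ 2 := by
  let P : M → M := fun m => m + x m + x (x m)
  have hxP : ∀ m, x (P m) = P m := fun m => by simp only [P, map_add, hx3]; abel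
  have hPN : ∀ m ∈ N, P m ∈ N := fun m hm => N.add_mem (N.add_mem hm (hNx m hm)) (hNx _ (hNx m hm))
  have hfxx : ∀ m, f (x (x m)) = x (f m) := fun m => by rw [hfx, hfx, hx3]
  have hfP : ∀ m, f m = m → f (P m) = P m := fun m hm => by
    simp only [P, map_add]
    rw [hfxx, hfx, hm]
    abel
  have hPfix : ∀ m, x m = m → P m = m := fun m hm => by
    simp only [P, hm, h2, zero_add]
  have hPadd : ∀ a b, P (a + b) = P a + P b := fun a b => by simp only [P, map_add]; abel
  set FK := {m : M // m ∈ N ∧ f m = m ∧ P m = 0}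
  set F1 := {m : M // m ∈ N ∧ x m = m ∧ f m = m}
  set K0 := {m : M // m ∈ N ∧ P m = 0}
  set M1 := {m : M // m ∈ N ∧ x m = m}
  have hA : Nat.card {m : M // m ∈ N ∧ f m = m} ≤ Nat.card FK * Nat.card F1 := by
    rw [← Nat.card_prod]
    refine Nat.card_le_card_of_injective (fun m => (⟨(m : M) + P m, N.add_mem m.2.1 (hPN _ m.2.1), ?_, ?_⟩,
      ⟨P m, hPN _ m.2.1, hxP _, hfP _ m.2.2⟩)) fun a b e => ?_
    · rw [map_add, m.2.2, hfP _ m.2.2]
    · rw [hPadd, hPfix _ (hxP _), h2]
    · obtain ⟨e1, e2⟩ := Prod.mk.inj e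
      have e1' := Subtype.mk.inj e1
      have e2' := Subtype.mk.inj e2
      rw [e2'] at e1'
      exact Subtype.ext (add_right_cancel e1')
  have hB : Nat.card FK * Nat.card FK ≤ Nat.card K0 := by
    rw [← Nat.card_prod]
    refine Nat.card_le_card_of_injective
      (fun q => ⟨(q.1 : M) + x q.2, N.add_mem q.1.2.1 (hNx _ q.2.2.1), ?_⟩) fun a b e => ?_
    · rw [hPadd, q.1.2.2.2, zero_add]
      refine Eq.trans ?_ q.2.2.2.2
      simp only [P, hx3]; abel
    · have e' := Subtype.mk.inj e
      set d1 := (a.1 : M) - b.1 with hd1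
      set d2 := (a.2 : M) - b.2 with hd2
      have h0 : d1 + x d2 = 0 := by
        rw [hd1, hd2, map_sub, sub_add_sub_comm, e', sub_self]
      have f1 : f d1 = d1 := by rw [hd1, map_sub, a.1.2.2.1, b.1.2.2.1]
      have f2 : f d2 = d2 := by rw [hd2, map_sub, a.2.2.2.1, b.2.2.2.1]
      have h1 : d1 + x (x d2) = 0 := by
        have := congrArg f h0
        rwa [map_add, map_zero, f1, hfx, f2] at this
      have hP2 : d2 + x d2 + x (x d2) = 0 := by
        have ha := a.2.2.2.2
        have hb := b.2.2.2.2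
        simp only [P] at ha hb
        rw [hd2]
        simp only [map_sub]
        calc _ = ((a.2 : M) + x a.2 + x (x a.2)) - ((b.2 : M) + x b.2 + x (x b.2)) := by abel
          _ = 0 := by rw [ha, hb, sub_zero]
      have hxx : x d2 + x (x d2) = 0 := by
        calc x d2 + x (x d2) = (d1 + x d2) + (d1 + x (x d2)) - (d1 + d1) := by abel
          _ = 0 := by rw [h0, h1, h2 d1]; simp
      have hd20 : d2 = 0 := by
        rw [add_assoc, hxx, add_zero] at hP2
        exact hP2
      rw [hd20, map_zero, add_zero] at h0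
      exact Prod.ext (Subtype.ext (sub_eq_zero.mp h0)) (Subtype.ext (sub_eq_zero.mp hd20))
  have hC : Nat.card K0 * Nat.card M1 ≤ Nat.card N := by
    rw [← Nat.card_prod]
    refine Nat.card_le_card_of_injective (fun q => ⟨(q.1 : M) + q.2, N.add_mem q.1.2.1 q.2.2.1⟩)
      fun a b e => ?_
    have e' := Subtype.mk.inj e
    have h2' := congrArg P e'
    rw [hPadd, hPadd, a.1.2.2, b.1.2.2, zero_add, zero_add, hPfix _ a.2.2.2, hPfix _ b.2.2.2] at h2'
    exact Prod.ext (Subtype.ext (by rw [h2'] at e'; exact add_right_cancel e')) (Subtype.ext h2')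
  calc _ ≤ (Nat.card FK * Nat.card F1) ^ 2 * Nat.card M1 :=
        Nat.mul_le_mul_right _ (Nat.pow_le_pow_left hA 2)
    _ = (Nat.card FK * Nat.card FK) * Nat.card M1 * Nat.card F1 ^ 2 := by ring
    _ ≤ _ := Nat.mul_le_mul_right _ (le_trans (Nat.mul_le_mul_right _ hB) hC)

theorem fix_bound {M : Type*} [AddCommGroup M] [Finite M] (h2 : ∀ m : M, m + m = 0) (f x y : M →+ M)
    (hff : ∀ m, f (f m) = m) (hx3 : ∀ m, x (x (x m)) = m) (hy3 : ∀ m, y (y (y m)) = m)
    (hxy : ∀ m, x (y m) = y (x m)) (hfx : ∀ m, f (x m) = x (x (f m)))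
    (hfy : ∀ m, f (y m) = y (y (f m))) :
    Nat.card {m : M // f m = m} ^ 2 ≤ Nat.card M * Nat.card {m : M // x m = m ∧ y m = m} := by
  let M1 : AddSubgroup M :=
    { carrier := {m | x m = m}
      zero_mem' := map_zero x
      add_mem' := fun {a b} ha hb => by
        show x (a + b) = a + b
        rw [map_add, show x a = a from ha, show x b = b from hb]
      neg_mem' := fun {a} ha => by show x (-a) = -a; rw [map_neg, show x a = a from ha] }
  have s1 := fix_step h2 f x hff hx3 hfx ⊤ (fun _ _ => trivial)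
  have s2 := fix_step h2 f y hff hy3 hfy M1 (fun m hm => by
    show x (y m) = y m
    rw [hxy, show x m = m from hm])
  have c0 : Nat.card (⊤ : AddSubgroup M) = Nat.card M := AddSubgroup.card_top
  have c1 : Nat.card {m : M // m ∈ (⊤ : AddSubgroup M) ∧ f m = m} = Nat.card {m : M // f m = m} :=
    Nat.card_congr (Equiv.subtypeEquivRight fun m => by simp)
  have c2 : Nat.card {m : M // m ∈ (⊤ : AddSubgroup M) ∧ x m = m} = Nat.card M1 :=
    Nat.card_congr (Equiv.subtypeEquivRight fun m => by simp [M1])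
  have c3 : Nat.card {m : M // m ∈ (⊤ : AddSubgroup M) ∧ x m = m ∧ f m = m} =
      Nat.card {m : M // m ∈ M1 ∧ f m = m} :=
    Nat.card_congr (Equiv.subtypeEquivRight fun m => by simp [M1])
  have c4 : Nat.card {m : M // m ∈ M1 ∧ y m = m} = Nat.card {m : M // x m = m ∧ y m = m} :=
    Nat.card_congr (Equiv.subtypeEquivRight fun m => by simp [M1])
  rw [c0, c1, c2, c3] at s1
  rw [c4] at s2
  set m2 := Nat.card {m : M // x m = m ∧ y m = m}
  have hle : Nat.card {m : M // m ∈ M1 ∧ y m = m ∧ f m = m} ≤ m2 := by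
    refine Nat.card_le_card_of_injective (fun m => ⟨(m : M), m.2.1, m.2.2.1⟩) fun a b e =>
      Subtype.ext (Subtype.mk.inj e)
  have hm1 : 0 < Nat.card M1 := Nat.card_pos
  have hm2 : 0 < m2 := by
    haveI : Nonempty {m : M // x m = m ∧ y m = m} := ⟨⟨0, map_zero x, map_zero y⟩⟩
    exact Nat.card_pos
  have h3 : Nat.card {m : M // m ∈ M1 ∧ f m = m} ^ 2 ≤ Nat.card M1 * m2 := by
    refine Nat.le_of_mul_le_mul_right (s2.trans ?_) hm2
    calc _ ≤ Nat.card M1 * m2 ^ 2 := Nat.mul_le_mul_left _ (Nat.pow_le_pow_left hle 2)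
      _ = _ := by ring
  refine Nat.le_of_mul_le_mul_right (s1.trans ?_) hm1
  calc _ ≤ Nat.card M * (Nat.card M1 * m2) := Nat.mul_le_mul_left _ h3
    _ = _ := by ring

theorem card_le_64 {a b c : ℕ} (ha : 0 < a) (h1 : b * c = a) (h2 : c ^ 3 ≤ a) (h3 : b ^ 2 ≤ a * 4) :
    a ≤ 64 := by
  have h4 : a ^ 3 ≤ b ^ 3 * a := by
    calc a ^ 3 = b ^ 3 * c ^ 3 := by rw [← h1]; ring
      _ ≤ _ := Nat.mul_le_mul_left _ h2
  have h5 : a ^ 2 ≤ b ^ 3 := Nat.le_of_mul_le_mul_right (by rw [← pow_succ]; exact h4) ha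
  have h6 : a ^ 4 ≤ 64 * a ^ 3 := by
    calc a ^ 4 = (a ^ 2) ^ 2 := by ring
      _ ≤ (b ^ 3) ^ 2 := Nat.pow_le_pow_left h5 2
      _ = (b ^ 2) ^ 3 := by ring
      _ ≤ (a * 4) ^ 3 := Nat.pow_le_pow_left h3 3
      _ = 64 * a ^ 3 := by ring
  rw [show a ^ 4 = a * a ^ 3 by ring] at h6
  exact Nat.le_of_mul_le_mul_right h6 (pow_pos ha 3)

end Cfsg.Agent.KlingerMason.Module2
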