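import Cfsg.Agent.Lib.KlingerMason.Second
import Cfsg.Agent.Lib.KlingerMason.Module

/-!
The end of the Klinger–Mason argument for `p = 3`: the module `O₂(C(w)) / Z(O₂(C(w)))`.
-/

set_option autoImplicit false

namespace Cfsg.Agent.KlingerMason

open scoped commutatorElement

variable {G : Type*} [Group G] {m : ℕ} {u w : G} {A Q P C D V : Subgroup G}

/-- A `3`-element of `C V` fixing a coset of the centre fixes the element. -/
theorem Sec.fixed_coset [Finite G] (K : Ctx G 3 m) (h : Sec m u w C D V Q P) {g x : G}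
    (hg : g ∈ C ⊔ V) (hx : x ∈ Q)
    (hF : x⁻¹ * (g * x * g⁻¹) ∈ Subgroup.centralizer ((C ⊔ V : Subgroup G) : Set G)) :
    g * x = x * g := by
  have := Fact.mk K.prime
  set f := x⁻¹ * (g * x * g⁻¹) with hf
  have hfQ : f ∈ Q := mul_mem (inv_mem hx) ((Subgroup.le_normalizer_iff.mp h.data.AQ) g hg x hx)
  have e1 : g * x * g⁻¹ = x * f := by rw [hf, mul_inv_cancel_left]
  have e2 : g * f * g⁻¹ = f := commute_conj (hF g hg)
  have hpow : ∀ n : ℕ, g ^ n * x * (g ^ n)⁻¹ = x * f ^ n := by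
    intro n
    induction n with
    | zero => simp
    | succ n ih =>
      calc g ^ (n + 1) * x * (g ^ (n + 1))⁻¹ = g * (g ^ n * x * (g ^ n)⁻¹) * g⁻¹ := by
            rw [pow_succ']; group
        _ = (g * x * g⁻¹) * (g * f ^ n * g⁻¹) := by rw [ih]; group
        _ = _ := by rw [e1, ← conj_pow, e2, pow_succ', mul_assoc]
  have h3 := hpow 3
  rw [h.data.pr.ea.pow g hg, inv_one, one_mul, mul_one, left_eq_mul] at h3
  have hf1 : f = 1 := orderOf_eq_one_iff.mp (Nat.eq_one_of_dvd_coprimes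
    (two_elt_coprime K.ne_two h.data.Qtwo hfQ) dvd_rfl (orderOf_dvd_of_pow_eq_one h3))
  rw [hf1, mul_one] at e1
  exact mul_inv_eq_iff_eq_mul.mp e1

/-- A generic element of `C` acts without fixed points on `Q` modulo its centre. -/
theorem Sec.generic_fixed [Finite G] (K : Ctx G 3 m) (h : Sec m u w C D V Q P) {a x : G} (ha : a ∈ C)
    (hgen : ∀ B, Lam 3 w (C ⊔ V) P B → a ∉ B) (hx : x ∈ Q) (hax : a * x = x * a) :
    x ∈ Subgroup.centralizer ((C ⊔ V : Subgroup G) : Set G) := by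
  have := Fact.mk K.prime
  have haA : a ∈ C ⊔ V := Subgroup.mem_sup_left ha
  have hZa : Subgroup.zpowers a ≤ C ⊔ V := Subgroup.zpowers_le.mpr haA
  obtain ⟨c, hc, g, hg, rfl⟩ := h.decomp K hx
  have hga : g ∈ Subgroup.centralizer (Subgroup.zpowers a : Set G) := by
    rw [Subgroup.zpowers_eq_closure, Subgroup.centralizer_closure, Subgroup.mem_centralizer_singleton_iff]
    have h1 : Commute a c := hc.2 a haA
    have h2 := h1.inv_right.mul_right (show Commute a (c * g) from hax)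
    rw [inv_mul_cancel_left] at h2
    exact h2.eq.symm
  have hR : P ⊓ Subgroup.centralizer (Subgroup.zpowers a : Set G) ≤ Subgroup.zpowers w := by
    refine h.data.gen K inf_le_left (h.data.AX hZa) le_rfl fun B hB x hx => ?_
    refine h.data.moved K hB.1 haA (hgen B hB) hx.1.1 hx.2 ?_
    rw [commute_conj (show Commute a x from hx.1.2 a (Subgroup.mem_zpowers a)), mul_inv_cancel]
    exact one_mem _
  exact mul_mem hc.2 (Subgroup.zpowers_le.mpr
    (show w ∈ Subgroup.centralizer _ from fun b hb => h.data.pr.comm b hb) (hR ⟨hg, hga⟩))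

/-- The fixed points of `V` modulo the centre are covered by four elements. -/
theorem Sec.V_fixed [Finite G] (K : Ctx G 3 m) (hm : m ≤ 4) (h : Sec m u w C D V Q P) :
    ∃ rep : Fin 4 → G, ∀ x ∈ Q, (∀ v ∈ V, v * x = x * v) → ∃ k, rep k ∈ Q ∧
      (rep k)⁻¹ * x ∈ Subgroup.centralizer ((C ⊔ V : Subgroup G) : Set G) := by
  have := Fact.mk K.prime
  have hVA : V ≤ C ⊔ V := le_sup_right
  have hwc : Subgroup.zpowers w ≤ Subgroup.centralizer ((C ⊔ V : Subgroup G) : Set G) :=
    Subgroup.zpowers_le.mpr fun b hb => h.data.pr.comm b hb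
  have hpart : ∀ x ∈ Q, (∀ v ∈ V, v * x = x * v) →
      ∃ c ∈ Subgroup.centralizer ((C ⊔ V : Subgroup G) : Set G), c ∈ Q ∧
        ∃ g ∈ P ⊓ Subgroup.centralizer (V : Set G), x = c * g := by
    intro x hx hv
    obtain ⟨c, hc, g, hg, rfl⟩ := h.decomp K hx
    refine ⟨c, hc.2, hc.1, g, ⟨hg, fun v hvV => ?_⟩, rfl⟩
    have h2 := (show Commute v c from hc.2 v (hVA hvV)).inv_right.mul_right
      (show Commute v (c * g) from hv v hvV)
    rwa [inv_mul_cancel_left] at h2
  by_cases hex : ∃ B, Lam 3 w (C ⊔ V) P B ∧ V ≤ B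
  · obtain ⟨B₀, hB₀, hVB⟩ := hex
    obtain ⟨a, ha, haB⟩ := hB₀.1.exists_notMem
    obtain ⟨i, j, l, q⟩ := h.data.exists_quat K hB₀ ha haB
    refine ⟨![1, i, j, l], fun x hx hv => ?_⟩
    obtain ⟨c, hc, hcQ, g, hg, rfl⟩ := hpart x hx hv
    have hgB : g ∈ Subgroup.centralizer (B₀ : Set G) := by
      refine ((h.data.gen K inf_le_left (h.data.AX hVA) (S := P ⊓ Subgroup.centralizer (B₀ : Set G))
        (Subgroup.zpowers_le.mpr (Subgroup.mem_inf.mpr ⟨?_, ?_⟩)) fun B hB x hx => ?_) hg).2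
      · exact q.sq_i ▸ mul_mem q.iP q.iP
      · exact fun b hb => h.data.pr.comm b (hB₀.1.1 hb)
      · by_cases hVB' : V ≤ B
        · rw [h.unique_fixed K hm hB₀ hB hVB hVB']
          exact ⟨hx.1.1, hx.2⟩
        · obtain ⟨v, hv, hvB⟩ := SetLike.not_le_iff_exists.mp hVB'
          have hxw := h.data.moved K hB.1 (hVA hv) hvB hx.1.1 hx.2 (by
            rw [commute_conj (show Commute v x from hx.1.2 v hv), mul_inv_cancel]
            exact one_mem _)
          refine ⟨hx.1.1, fun b hb => ?_⟩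
          exact hwc hxw b (hB₀.1.1 hb)
    obtain ⟨r, hr, hrt⟩ := q.cover g hg.1 hgB
    have key : ∀ r : G, r ∈ P → r⁻¹ * g ∈ Subgroup.zpowers w →
        r⁻¹ * (c * g) ∈ Subgroup.centralizer ((C ⊔ V : Subgroup G) : Set G) := by
      intro r hr hrt
      have hcr : Commute c r := h.F_commutes K ⟨hcQ, hc⟩ hr
      rw [← mul_assoc, ← hcr.inv_right.eq, mul_assoc]
      exact mul_mem hc (hwc hrt)
    simp only [List.mem_cons, List.not_mem_nil, or_false] at hr
    rcases hr with rfl | rfl | rfl | rfl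
    · exact ⟨0, one_mem Q, key 1 (one_mem P) hrt⟩
    · exact ⟨1, h.data.PQ q.iP, key _ q.iP hrt⟩
    · exact ⟨2, h.data.PQ q.jP, key _ q.jP hrt⟩
    · exact ⟨3, h.data.PQ q.lP, key _ q.lP hrt⟩
  · push Not at hex
    refine ⟨fun _ => 1, fun x hx hv => ⟨0, one_mem Q, ?_⟩⟩
    obtain ⟨c, hc, -, g, hg, rfl⟩ := hpart x hx hv
    rw [inv_one, one_mul]
    refine mul_mem hc (hwc ((h.data.gen K inf_le_left (h.data.AX hVA) le_rfl fun B hB x hx => ?_) hg))
    obtain ⟨v, hv', hvB⟩ := SetLike.not_le_iff_exists.mp (hex B hB)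
    exact h.data.moved K hB.1 (hVA hv') hvB hx.1.1 hx.2 (by
      rw [commute_conj (show Commute v x from hx.1.2 v hv'), mul_inv_cancel]
      exact one_mem _)

/-- `Q` has at least `4 ^ 4` classes modulo its centre. -/
theorem Sec.card_ge [Finite G] (K : Ctx G 3 m) (hm : m ≤ 4) (h : Sec m u w C D V Q P) :
    ∃ φ : (Fin 4 → Fin 4) → Q, ∀ x y, (φ x)⁻¹ * φ y ∈ Subgroup.center Q → x = y := by
  have := Fact.mk K.prime
  have hww := h.data.pr.inv
  have hS := h.data.small
  obtain ⟨B, hinj, hB⟩ := h.exists_four K hm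
  choose a ha haB using fun k => (hB k).1.exists_notMem
  choose i j l q using fun k => h.data.exists_quat K (hB k) (ha k) (haB k)
  let R : Fin 4 → Fin 4 → G := fun k => ![1, i k, j k, l k]
  have hR : ∀ k r, R k r ∈ P ∧ R k r ∈ Subgroup.centralizer (B k : Set G) := by
    intro k r
    fin_cases r <;> simp only [R] <;> simp [(q k).iP, (q k).jP, (q k).lP, (q k).iB, (q k).jB, (q k).lB]
  refine ⟨fun x => ⟨R 0 (x 0) * R 1 (x 1) * R 2 (x 2) * R 3 (x 3),
    mul_mem (mul_mem (mul_mem (h.data.PQ (hR 0 _).1) (h.data.PQ (hR 1 _).1)) (h.data.PQ (hR 2 _).1))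
      (h.data.PQ (hR 3 _).1)⟩, fun x y hxy => funext fun k => ?_⟩
  have hconj : ∀ (x : Fin 4 → Fin 4) (k : Fin 4) (z : G), z ∈ P → z ∈ Subgroup.centralizer (B k : Set G) →
      (R 0 (x 0) * R 1 (x 1) * R 2 (x 2) * R 3 (x 3)) * z * (R 0 (x 0) * R 1 (x 1) * R 2 (x 2) * R 3 (x 3))⁻¹
        = R k (x k) * z * (R k (x k))⁻¹ := by
    intro x k z hz hzB
    have hz' : ∀ t ∈ P, t ∈ Subgroup.centralizer (B k : Set G) → ∀ k', k' ≠ k →
        R k' (x k') * t * (R k' (x k'))⁻¹ = t := fun t ht htB k' hne =>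
      commute_conj (h.data.cross K (hB k').1 (hB k).1 (hinj.ne hne) (hR k' _).1 (hR k' _).2 ht htB)
    have hn : R k (x k) * z * (R k (x k))⁻¹ ∈ P ∧
        R k (x k) * z * (R k (x k))⁻¹ ∈ Subgroup.centralizer (B k : Set G) :=
      ⟨mul_mem (mul_mem (hR k _).1 hz) (inv_mem (hR k _).1),
        mul_mem (mul_mem (hR k _).2 hzB) (inv_mem (hR k _).2)⟩
    have e : ∀ r0 r1 r2 r3 : G, r0 * r1 * r2 * r3 * z * (r0 * r1 * r2 * r3)⁻¹ =
        r0 * (r1 * (r2 * (r3 * z * r3⁻¹) * r2⁻¹) * r1⁻¹) * r0⁻¹ := fun _ _ _ _ => by group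
    rw [e]
    fin_cases k
    · simp only [Fin.mk_one, Fin.zero_eta, Fin.reduceFinMk] at *
      rw [hz' z hz hzB 3 (by decide), hz' z hz hzB 2 (by decide), hz' z hz hzB 1 (by decide)]
    · simp only [Fin.mk_one, Fin.zero_eta, Fin.reduceFinMk] at *
      rw [hz' z hz hzB 3 (by decide), hz' z hz hzB 2 (by decide), hz' _ hn.1 hn.2 0 (by decide)]
    · simp only [Fin.mk_one, Fin.zero_eta, Fin.reduceFinMk] at *
      rw [hz' z hz hzB 3 (by decide), hz' _ hn.1 hn.2 1 (by decide), hz' _ hn.1 hn.2 0 (by decide)]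
    · simp only [Fin.mk_one, Fin.zero_eta, Fin.reduceFinMk] at *
      rw [hz' _ hn.1 hn.2 2 (by decide), hz' _ hn.1 hn.2 1 (by decide), hz' _ hn.1 hn.2 0 (by decide)]
  have hsame : ∀ z, z ∈ P → z ∈ Subgroup.centralizer (B k : Set G) →
      R k (x k) * z * (R k (x k))⁻¹ = R k (y k) * z * (R k (y k))⁻¹ := by
    intro z hz hzB
    rw [← hconj x k z hz hzB, ← hconj y k z hz hzB]
    have hc := congrArg Subtype.val (Subgroup.mem_center_iff.mp hxy ⟨z, h.data.PQ hz⟩)
    simp only [Subgroup.coe_mul, InvMemClass.coe_inv] at hc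
    generalize R 0 (x 0) * R 1 (x 1) * R 2 (x 2) * R 3 (x 3) = gx at hc ⊢
    generalize R 0 (y 0) * R 1 (y 1) * R 2 (y 2) * R 3 (y 3) = gy at hc ⊢
    calc gx * z * gx⁻¹ = gx * (z * (gx⁻¹ * gy)) * gy⁻¹ := by group
      _ = gx * (gx⁻¹ * gy * z) * gy⁻¹ := by rw [hc]
      _ = _ := by group
  have hci : ⁅R k (x k), i k⁆ = ⁅R k (y k), i k⁆ := by
    rw [commutatorElement_def, commutatorElement_def, hsame _ (q k).iP (q k).iB]
  have hcj : ⁅R k (x k), j k⁆ = ⁅R k (y k), j k⁆ := by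
    rw [commutatorElement_def, commutatorElement_def, hsame _ (q k).jP (q k).jB]
  have hji : ⁅j k, i k⁆ = w := (q k).comm_ji hS hww
  have hl : l k = (j k)⁻¹ * (i k)⁻¹ := by
    rw [← mul_inv_rev]; exact eq_inv_of_mul_eq_one_right (q k).prod
  have hinv : ∀ z ∈ P, ∀ t ∈ P, ⁅z⁻¹, t⁆ = ⁅z, t⁆ := by
    intro z hz t ht
    have e : ⁅z⁻¹, t⁆ * ⁅z, t⁆ = 1 := by
      rw [← hS.comm_mul_left (inv_mem hz) hz ht, inv_mul_cancel, commutatorElement_one_left]
    rw [eq_inv_of_mul_eq_one_left e]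
    rcases (mem_zpowers_inv hww).mp (hS.comm z hz t ht) with e | e <;> rw [e]
    · exact inv_one
    · exact inv_eq_of_mul_eq_one_left hww
  have hli : ⁅l k, i k⁆ = w := by
    rw [hl, hS.comm_mul_left (inv_mem (q k).jP) (inv_mem (q k).iP) (q k).iP, hinv _ (q k).jP _ (q k).iP,
      hinv _ (q k).iP _ (q k).iP, hji, commutatorElement_self, mul_one]
  have hlj : ⁅l k, j k⁆ = w := by
    rw [hl, hS.comm_mul_left (inv_mem (q k).jP) (inv_mem (q k).iP) (q k).jP, hinv _ (q k).jP _ (q k).jP,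
      hinv _ (q k).iP _ (q k).jP, (q k).comm_ij, commutatorElement_self, one_mul]
  have hw1 := h.data.pr.ne
  generalize x k = r at hci hcj ⊢
  generalize y k = r' at hci hcj ⊢
  fin_cases r <;> fin_cases r' <;>
    simp [R, commutatorElement_self, commutatorElement_one_left, hji, hli, hlj, (q k).comm_ij, hw1,
      hw1.symm] at hci hcj ⊢

/-- **The contradiction.** -/
theorem Sec.final [Finite G] (K : Ctx G 3 m) (hm : m ≤ 4) (h : Sec m u w C D V Q P) {a i j l : G}
    (ha : a ∈ C) (hgen : ∀ B, Lam 3 w (C ⊔ V) P B → a ∉ B)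
    (hiw : i * w = w * i) (hjw : j * w = w * j) (hlw : l * w = w * l)
    (hi : a * i * a⁻¹ = j) (hj : a * j * a⁻¹ = l) (hii : i * i = u) (hll : l * l = u)
    (hprod : i * j * l = 1) : False := by
  classical
  have := Fact.mk K.prime
  have haA : a ∈ C ⊔ V := Subgroup.mem_sup_left ha
  set N := Subgroup.centralizer ({w} : Set G) with hN
  have hNQ : N ≤ Subgroup.normalizer (Q : Set G) := fun g hg =>
    h.data.Qnorm g (Subgroup.mem_centralizer_singleton_iff.mp hg)
  have hmem : ∀ {x : Q}, x ∈ Subgroup.center Q ↔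
      (x : G) ∈ Subgroup.centralizer ((C ⊔ V : Subgroup G) : Set G) := fun {x} => by
    rw [h.F_eq_center K x.2, Subgroup.mem_center_iff]
    exact ⟨fun hc y hy => (congrArg Subtype.val (hc ⟨y, hy⟩)).symm,
      fun hc y => Subtype.ext (hc y y.2).symm⟩
  let conjQ : N →* MulAut Q := (Subgroup.normalizerMonoidHom Q).comp (Subgroup.inclusion hNQ)
  letI hMc : CommGroup (Q ⧸ Subgroup.center Q) :=
    { (inferInstance : Group (Q ⧸ Subgroup.center Q)) with
      mul_comm := fun x y => by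
        obtain ⟨x, rfl⟩ := QuotientGroup.mk_surjective x
        obtain ⟨y, rfl⟩ := QuotientGroup.mk_surjective y
        rw [← QuotientGroup.mk_mul, ← QuotientGroup.mk_mul, QuotientGroup.eq, hmem]
        obtain ⟨c, hc, g, hg, hx⟩ := h.decomp K x.2
        obtain ⟨c', hc', g', hg', hy⟩ := h.decomp K y.2
        have h1 : Commute c c' := h.F_abelian K hc hc'
        have h2 : Commute c g' := h.F_commutes K hc hg'
        have h3 : Commute c' g := h.F_commutes K hc' hg
        have hd : c * g * (c' * g') = c * c' * (g * g') := by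
          calc c * g * (c' * g') = c * (g * c') * g' := by group
            _ = c * (c' * g) * g' := by rw [h3.eq]
            _ = _ := by group
        have hd' : c' * g' * (c * g) = c * c' * (g' * g) := by
          calc c' * g' * (c * g) = c' * (g' * c) * g := by group
            _ = c' * (c * g') * g := by rw [h2.eq]
            _ = c * c' * (g' * g) := by rw [← mul_assoc c' c, ← h1.eq]; group
        simp only [Subgroup.coe_mul, InvMemClass.coe_inv, hx, hy]
        rw [hd, hd', show (c * c' * (g * g'))⁻¹ * (c * c' * (g' * g)) = ⁅g'⁻¹, g⁻¹⁆ by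
          rw [commutatorElement_def]; group]
        exact Subgroup.zpowers_le.mpr
          (show w ∈ Subgroup.centralizer _ from fun b hb => h.data.pr.comm b hb)
          (h.data.small.comm _ (inv_mem hg') _ (inv_mem hg)) }
  let M := Additive (Q ⧸ Subgroup.center Q)
  have hchar : ∀ g : N, Subgroup.center Q ≤ (Subgroup.center Q).comap (conjQ g).toMonoidHom :=
    fun g x hx => by
      rw [Subgroup.mem_comap, Subgroup.mem_center_iff]
      intro y
      obtain ⟨z, rfl⟩ := (conjQ g).surjective y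
      exact ((map_mul (conjQ g) z x).symm.trans ((congrArg (conjQ g)
        (Subgroup.mem_center_iff.mp hx z)).trans (map_mul (conjQ g) x z)))
  let qm : N → ((Q ⧸ Subgroup.center Q) →* (Q ⧸ Subgroup.center Q)) := fun g =>
    QuotientGroup.map _ _ (conjQ g).toMonoidHom (hchar g)
  let ρ : N →* AddMonoid.End M :=
    { toFun := fun g => MonoidHom.toAdditive (qm g)
      map_one' := by
        refine AddMonoidHom.ext fun x => ?_
        show Additive.ofMul (qm 1 x.toMul) = x
        obtain ⟨y, hy⟩ := QuotientGroup.mk_surjective x.toMul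
        rw [← hy]
        simp only [qm, QuotientGroup.map_mk, map_one]
        exact congrArg Additive.ofMul hy
      map_mul' := fun g g' => by
        refine AddMonoidHom.ext fun x => ?_
        show Additive.ofMul (qm (g * g') x.toMul) = Additive.ofMul (qm g (qm g' x.toMul))
        obtain ⟨y, hy⟩ := QuotientGroup.mk_surjective x.toMul
        rw [← hy]
        simp only [qm, QuotientGroup.map_mk, map_mul]
        rfl }
  have hρ : ∀ (g : N) (x : Q), ρ g (Additive.ofMul (x : Q ⧸ Subgroup.center Q)) =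
      Additive.ofMul ((conjQ g x : Q) : Q ⧸ Subgroup.center Q) := fun g x => rfl
  have hsurj : ∀ y : M, ∃ x : Q, Additive.ofMul (x : Q ⧸ Subgroup.center Q) = y := fun y => by
    obtain ⟨x, hx⟩ := QuotientGroup.mk_surjective y.toMul
    exact ⟨x, by rw [hx]; rfl⟩
  have hfix : ∀ (g : N) (x : Q), ρ g (Additive.ofMul (x : Q ⧸ Subgroup.center Q)) =
      Additive.ofMul (x : Q ⧸ Subgroup.center Q) →
      (x : G)⁻¹ * ((g : G) * x * (g : G)⁻¹) ∈ Subgroup.centralizer ((C ⊔ V : Subgroup G) : Set G) := by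
    intro g x e
    rw [hρ] at e
    exact hmem.mp (QuotientGroup.eq.mp (Additive.ofMul.injective e).symm)
  -- exponent two
  have hdblM : ∀ y : M, y + y = 0 := fun y => by
    obtain ⟨x, rfl⟩ := hsurj y
    rw [← ofMul_mul, ← QuotientGroup.mk_mul, ← ofMul_one]
    refine congrArg Additive.ofMul ((QuotientGroup.eq_one_iff _).mpr (hmem.mpr ?_))
    obtain ⟨c, hc, g, hg, hx⟩ := h.decomp K x.2
    have h1 : Commute c g := h.F_commutes K hc hg
    rw [Subgroup.coe_mul, hx, ← sq, h1.mul_pow, sq g]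
    exact mul_mem (pow_mem hc.2 2) (Subgroup.zpowers_le.mpr
      (show w ∈ Subgroup.centralizer _ from fun b hb => h.data.pr.comm b hb) (h.data.small.sq g hg))
  have h2 : (1 : AddMonoid.End M) + 1 = 0 := AddMonoidHom.ext fun y => hdblM y
  -- the elements
  have hwN : ∀ {g : G}, g * w = w * g → g ∈ N := fun hg => Subgroup.mem_centralizer_singleton_iff.mpr hg
  set gi : N := ⟨i, hwN hiw⟩
  set gj : N := ⟨j, hwN hjw⟩
  set gl : N := ⟨l, hwN hlw⟩
  set ga : N := ⟨a, hwN (h.data.pr.comm a haA)⟩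
  set gu : N := ⟨u, hwN h.uw⟩
  have ea3 : ρ ga * ρ ga * ρ ga = 1 := by
    rw [← map_mul, ← map_mul, ← map_one ρ]
    refine congrArg ρ (Subtype.ext ?_)
    simpa [pow_succ] using h.data.pr.ea.pow a haA
  have hfpf : (1 : AddMonoid.End M) + ρ ga + ρ ga * ρ ga = 0 := by
    refine AddMonoidHom.ext fun y => ?_
    show y + ρ ga y + ρ ga (ρ ga y) = 0
    have h3 : ρ ga (ρ ga (ρ ga y)) = y := DFunLike.congr_fun ea3 y
    have hs : ρ ga (y + ρ ga y + ρ ga (ρ ga y)) = y + ρ ga y + ρ ga (ρ ga y) := by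
      rw [map_add, map_add, h3]; abel
    generalize y + ρ ga y + ρ ga (ρ ga y) = s at hs ⊢
    obtain ⟨x, rfl⟩ := hsurj s
    have hx : a * (x : G) = x * a := h.fixed_coset K haA x.2 (hfix ga x hs)
    rw [← ofMul_one]
    exact congrArg Additive.ofMul ((QuotientGroup.eq_one_iff x).mpr
      (hmem.mpr (h.generic_fixed K ha hgen x.2 hx)))
  have ei : ρ ga * ρ gi = ρ gj * ρ ga := by
    rw [← map_mul, ← map_mul]
    exact congrArg ρ (Subtype.ext (mul_inv_eq_iff_eq_mul.mp hi))
  have ej : ρ ga * ρ gj = ρ gl * ρ ga := by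
    rw [← map_mul, ← map_mul]
    exact congrArg ρ (Subtype.ext (mul_inv_eq_iff_eq_mul.mp hj))
  have eii : ρ gi * ρ gi = ρ gu := by rw [← map_mul]; exact congrArg ρ (Subtype.ext hii)
  have ell : ρ gl * ρ gl = ρ gu := by rw [← map_mul]; exact congrArg ρ (Subtype.ext hll)
  have euu : ρ gu * ρ gu = 1 := by
    rw [← map_mul, ← map_one ρ]; exact congrArg ρ (Subtype.ext h.uinv)
  have eua : ρ ga * ρ gu = ρ gu * ρ ga := by
    rw [← map_mul, ← map_mul]; exact congrArg ρ (Subtype.ext (h.uC a ha))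
  have eui : ρ gi * ρ gu = ρ gu * ρ gi := by rw [← eii, mul_assoc]
  have eprod : ρ gi * ρ gj * ρ gl = 1 := by
    rw [← map_mul, ← map_mul, ← map_one ρ]; exact congrArg ρ (Subtype.ext hprod)
  have hja : (1 : AddMonoid.End M) + ρ gj * ρ ga + ρ gj * ρ ga * (ρ gj * ρ ga) = 0 := by
    have e : ρ gj * ρ ga = ρ gl * ρ ga * ρ gl⁻¹ := by
      rw [← map_mul, ← map_mul, ← map_mul]
      refine congrArg ρ (Subtype.ext ?_)
      show j * a = l * a * l⁻¹
      have hal : a * l * a⁻¹ = i := by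
        calc a * l * a⁻¹ = a ^ 3 * i * (a ^ 3)⁻¹ := by
              rw [← hj, ← hi, show a ^ 3 = a * a * a by simp only [pow_succ, pow_zero, one_mul]]; group
          _ = i := by rw [h.data.pr.ea.pow a haA, inv_one, one_mul, mul_one]
      have hji : j = l * i⁻¹ := by
        have hau : a * u * a⁻¹ = u := commute_conj (show Commute a u from h.uC a ha)
        have hjj : j * j = u := by
          rw [← hi, show a * i * a⁻¹ * (a * i * a⁻¹) = a * (i * i) * a⁻¹ by group, hii, hau]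
        have hlij : l * i * j = 1 := by
          have e1 : j * l * i = 1 := by
            calc j * l * i = (a * i * a⁻¹) * (a * j * a⁻¹) * (a * l * a⁻¹) := by rw [hi, hj, hal]
              _ = a * (i * j * l) * a⁻¹ := by group
              _ = 1 := by rw [hprod, mul_one, mul_inv_cancel]
          calc l * i * j = j⁻¹ * (j * l * i) * j := by group
            _ = 1 := by rw [e1, mul_one, inv_mul_cancel]
        have hi' : i⁻¹ = i * u := inv_eq_of_mul_eq_one_right (by rw [← mul_assoc, hii, h.uinv])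
        calc j = j⁻¹ * (j * j) := by rw [inv_mul_cancel_left]
          _ = j⁻¹ * u := by rw [hjj]
          _ = l * i * u := by rw [eq_inv_of_mul_eq_one_left hlij]
          _ = l * i⁻¹ := by rw [hi', mul_assoc]
      rw [hji]
      calc l * i⁻¹ * a = l * (a * l * a⁻¹)⁻¹ * a := by rw [hal]
        _ = l * a * l⁻¹ := by group
    have e1 : ρ gl * ρ gl⁻¹ = 1 := by rw [← map_mul, mul_inv_cancel, map_one]
    have e2 : ρ gl⁻¹ * ρ gl = 1 := by rw [← map_mul, inv_mul_cancel, map_one]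
    rw [e]
    calc (1 : AddMonoid.End M) + ρ gl * ρ ga * ρ gl⁻¹ + ρ gl * ρ ga * ρ gl⁻¹ * (ρ gl * ρ ga * ρ gl⁻¹)
        = ρ gl * ρ gl⁻¹ + ρ gl * ρ ga * ρ gl⁻¹ + ρ gl * ρ ga * (ρ gl⁻¹ * ρ gl) * ρ ga * ρ gl⁻¹ := by
          rw [e1]; simp only [mul_assoc]
      _ = ρ gl * (1 + ρ ga + ρ ga * ρ ga) * ρ gl⁻¹ := by rw [e2]; noncomm_ring
      _ = 0 := by rw [hfpf, mul_zero, zero_mul]
  have hcube := Module2.cube_eq_zero h2 ea3 hfpf ei ej eii ell euu eua eui eprod hja
  -- the size of the image of `u - 1`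
  have hz := Module2.card_cube_le (M := M) (ρ gi + 1 : AddMonoid.End M)
    (fun y => DFunLike.congr_fun hcube y)
  set f : M →+ M := (ρ gi + 1 : AddMonoid.End M)
  have hff : ∀ y, f.comp f y = ρ gu y + y := fun y => by
    show ρ gi (ρ gi y + y) + (ρ gi y + y) = _
    have e : ρ gi (ρ gi y) = ρ gu y := DFunLike.congr_fun eii y
    rw [map_add, e]
    calc ρ gu y + ρ gi y + (ρ gi y + y) = ρ gu y + y + (ρ gi y + ρ gi y) := by abel
      _ = _ := by rw [hdblM, add_zero]
  have hker : Nat.card (f.comp f).ker = Nat.card {y : M // ρ gu y = y} :=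
    Nat.card_congr (Equiv.subtypeEquivRight fun y => by
      rw [AddMonoidHom.mem_ker, hff]
      exact ⟨fun e => add_right_cancel (e.trans (hdblM y).symm), fun e => by rw [e, hdblM]⟩)
  have hcardM := Module2.card_eq_ker_mul_range (f.comp f)
  rw [hker] at hcardM
  -- the fixed points of `u`
  obtain ⟨v₁, hv₁, v₂, hv₂, -, hVgen⟩ := h.exists_generators K
  set g₁ : N := ⟨v₁, hwN (h.data.pr.comm v₁ (Subgroup.mem_sup_right hv₁))⟩
  set g₂ : N := ⟨v₂, hwN (h.data.pr.comm v₂ (Subgroup.mem_sup_right hv₂))⟩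
  have cube : ∀ (g : N), (g : G) ^ 3 = 1 → ∀ y, ρ g (ρ g (ρ g y)) = y := fun g hg y => by
    have e : ρ g * ρ g * ρ g = 1 := by
      rw [← map_mul, ← map_mul, ← map_one ρ]
      exact congrArg ρ (Subtype.ext (by simpa [pow_succ] using hg))
    exact DFunLike.congr_fun e y
  have hinvert : ∀ (v : G) (hv : v ∈ V) (g : N), (g : G) = v → ∀ y, ρ gu (ρ g y) = ρ g (ρ g (ρ gu y)) := by
    intro v hv g hg y
    have e : ρ gu * ρ g = ρ g * ρ g * ρ gu := by
      rw [← map_mul, ← map_mul, ← map_mul]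
      refine congrArg ρ (Subtype.ext ?_)
      show u * (g : G) = (g : G) * g * u
      rw [hg]
      have e1 : v⁻¹ = v * v := inv_eq_of_mul_eq_one_right (by
        rw [← h.eaV.pow v hv, pow_succ, pow_succ, pow_one, mul_assoc])
      rw [← e1]
      exact mul_inv_eq_iff_eq_mul.mp (h.neg v hv)
    exact DFunLike.congr_fun e y
  have h12 : ∀ y, ρ g₁ (ρ g₂ y) = ρ g₂ (ρ g₁ y) := fun y => by
    have e : ρ g₁ * ρ g₂ = ρ g₂ * ρ g₁ := by
      rw [← map_mul, ← map_mul]
      exact congrArg ρ (Subtype.ext (h.eaV.comm v₁ hv₁ v₂ hv₂))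
    exact DFunLike.congr_fun e y
  have hbound := Module2.fix_bound hdblM (ρ gu) (ρ g₁) (ρ g₂) (fun y => DFunLike.congr_fun euu y)
    (cube g₁ (h.eaV.pow v₁ hv₁)) (cube g₂ (h.eaV.pow v₂ hv₂)) h12 (hinvert v₁ hv₁ g₁ rfl)
    (hinvert v₂ hv₂ g₂ rfl)
  have h4 : Nat.card {y : M // ρ g₁ y = y ∧ ρ g₂ y = y} ≤ 4 := by
    obtain ⟨rep, hrep⟩ := h.V_fixed K hm
    have hex : ∀ y : {y : M // ρ g₁ y = y ∧ ρ g₂ y = y}, ∃ (k : Fin 4) (hk : rep k ∈ Q),
        Additive.ofMul ((⟨rep k, hk⟩ : Q) : Q ⧸ Subgroup.center Q) = (y : M) := by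
      rintro ⟨y, e1, e2⟩
      obtain ⟨x, rfl⟩ := hsurj y
      have c1 := h.fixed_coset K (Subgroup.mem_sup_right hv₁) x.2 (hfix g₁ x e1)
      have c2 := h.fixed_coset K (Subgroup.mem_sup_right hv₂) x.2 (hfix g₂ x e2)
      have hVx : V ≤ Subgroup.centralizer {(x : G)} := hVgen _
        (Subgroup.mem_centralizer_singleton_iff.mpr c1) (Subgroup.mem_centralizer_singleton_iff.mpr c2)
      obtain ⟨k, hk, hk'⟩ := hrep x x.2 fun v hv => Subgroup.mem_centralizer_singleton_iff.mp (hVx hv)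
      exact ⟨k, hk, congrArg Additive.ofMul (QuotientGroup.eq.mpr (hmem.mpr hk'))⟩
    choose k hk hk' using hex
    refine (Nat.card_le_card_of_injective k fun y y' e => Subtype.ext ?_).trans_eq (Nat.card_fin 4)
    rw [← hk' y, ← hk' y']
    congr 2
    exact Subtype.ext (congrArg rep e)
  have h256 : 256 ≤ Nat.card M := by
    obtain ⟨φ, hφ⟩ := h.card_ge K hm
    have := Nat.card_le_card_of_injective
      (fun x => Additive.ofMul ((φ x : Q) : Q ⧸ Subgroup.center Q))
      (fun x y e => hφ x y (QuotientGroup.eq.mp (Additive.ofMul.injective e)))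
    simpa [Nat.card_eq_fintype_card] using this
  have := Module2.card_le_64 Nat.card_pos hcardM.symm hz
    (hbound.trans (Nat.mul_le_mul_left _ h4))
  omega

end Cfsg.Agent.KlingerMason
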