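import Cfsg.Agent.Lib.KlingerMason.Endgame
import Cfsg.Prelude.Def_Local

/-!
**Klinger–Mason**: a group of characteristic `2` type and of local characteristic `p` for an odd
prime `p` has `2`-local `p`-rank at most two.
-/

set_option autoImplicit false

namespace Cfsg.Agent.KlingerMason

open scoped commutatorElement

variable {G : Type*} [Group G] {p m : ℕ} {u : G} {A Q P : Subgroup G}

theorem Data.three_false [Finite G] (K : Ctx G 3 m) (h : Data 3 m u A Q P) : False := by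
  have hm := h.rank_le K
  obtain ⟨w, C, D, V, hwu, hCA, -, hcardC, hD, hVD, hV, hVc, hneg, hw, hcomm⟩ := h.exists_second K
  obtain ⟨Q', P', h'⟩ := exists_data K hw
  have hS : Sec m u w C D V Q' P' :=
    ⟨h', h.pr.inv, hwu.symm, fun c hc => h.pr.comm c (hCA hc), hD, hVD, hV, hVc, hcardC, hneg⟩
  obtain ⟨a, ha, ha1, hgen⟩ := hS.exists_generic K hm
  obtain ⟨B, hB, haB⟩ := h.exists_notMem K (hCA ha) ha1
  obtain ⟨i, j, l, q⟩ := h.exists_quat K hB (hCA ha) haB
  have hn : ¬ C ≤ B := fun hle => haB (hle ha)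
  exact hS.final K hm ha hgen (hcomm B hB hn i q.iP q.iB) (hcomm B hB hn j q.jP q.jB)
    (hcomm B hB hn l q.lP q.lB) q.conj_i q.conj_j q.sq_i q.sq_l q.prod

theorem Ctx.absurd_pair [Finite G] (K : Ctx G p m) (hu : Pr p m u A) : False := by
  obtain ⟨Q, P, h⟩ := exists_data K hu
  rcases eq_or_ne p 3 with rfl | h3
  · exact h.three_false K
  · refine h.five_false K ?_
    have h2 := K.prime.two_le
    have h4 : p ≠ 4 := fun e => by
      have := K.prime
      rw [e] at this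
      exact absurd this (by norm_num)
    have := K.ne_two
    omega

theorem twoLocal_pRankLE [Finite G] (p : ℕ) [hp : Fact p.Prime] (hp2 : p ≠ 2)
    (hGp : Cfsg.IsOfLocalCharacteristic p G) (hG2 : Cfsg.IsCharacteristicTwoType G) :
    Cfsg.TwoLocalPRankLE p 2 G := by
  intro H hH A₀ hA₀ hA₀p
  by_contra hlt
  obtain ⟨S, hS, hS1, rfl⟩ := hH
  have hA : EA p (A₀.map (Subgroup.normalizer (S : Set G)).subtype) := by
    refine ⟨?_, ?_⟩
    · rintro _ ⟨x, hx, rfl⟩ _ ⟨y, hy, rfl⟩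
      exact congrArg Subtype.val (congrArg Subtype.val (hA₀.is_comm.comm ⟨x, hx⟩ ⟨y, hy⟩))
    · rintro _ ⟨x, hx, rfl⟩
      rw [← map_pow, hA₀p x hx, map_one]
  obtain ⟨A, ⟨hAE, T, hT, hT1, hAT⟩, hmax⟩ := Set.exists_max_image
    {A : Subgroup G | EA p A ∧ ∃ T : Subgroup G, IsPGroup 2 T ∧ T ≠ ⊥ ∧
      A ≤ Subgroup.normalizer (T : Set G)} (fun A => Nat.card A) (Set.toFinite _)
    ⟨_, hA, S, hS, hS1, Subgroup.map_subtype_le _⟩
  obtain ⟨m, hm⟩ := IsPGroup.iff_card.mp hAE.isPGroup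
  have h3 : 3 ≤ m := by
    by_contra hle
    refine hlt ?_
    have h := hmax _ ⟨hA, S, hS, hS1, Subgroup.map_subtype_le _⟩
    simp only [Subgroup.card_subtype, hm] at h
    exact h.trans (Nat.pow_le_pow_right hp.out.pos (by omega))
  have K : Ctx G p m := ⟨hp.out, hp2, h3, hGp, hG2, fun z hz hz1 A' hA' hc => by
    rw [← hm]
    exact hmax A' ⟨hA', Subgroup.zpowers z, isPGroup_zpowers_inv hz,
      Subgroup.zpowers_ne_bot.mpr hz1,
      fun a ha => (mem_normalizer_zpowers_inv hz hz1).mpr (hc a ha)⟩⟩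
  obtain ⟨u, A', hu⟩ := exists_pair K hT hT1 hAE hm hAT
  exact K.absurd_pair hu

end Cfsg.Agent.KlingerMason
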