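import Cfsg.Agent.Lib.KlingerMason.Setting

/-!
The consequences of an involution centralized by an elementary abelian `p`-subgroup of maximal rank.
-/

set_option autoImplicit false

namespace Cfsg.Agent.KlingerMason

open scoped commutatorElement

variable {G : Type*} [Group G] {p m : ℕ}

theorem exists_two_core [Finite G] (K : Ctx G p m) {T : Subgroup G} (hT : IsPGroup 2 T) (hT1 : T ≠ ⊥) :
    ∃ Q : Subgroup G, IsPGroup 2 Q ∧ Q ≤ Subgroup.normalizer (T : Set G) ∧
      Subgroup.normalizer (T : Set G) ≤ Subgroup.normalizer (Q : Set G) ∧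
      ∀ g ∈ Subgroup.normalizer (T : Set G), (∀ q ∈ Q, g * q = q * g) → g ∈ Q := by
  set N := Subgroup.normalizer (T : Set G) with hN
  have hchar := K.charTwo.2 T hT hT1
  refine ⟨(Cfsg.pCore 2 ↥N).map N.subtype, PLocal.Cores.isPGroup_pCore.map _,
    Subgroup.map_subtype_le _, ?_, fun g hg h => ?_⟩
  · rw [Subgroup.le_normalizer_iff]
    rintro g hg _ ⟨r, hr, rfl⟩
    exact ⟨⟨g, hg⟩ * r * ⟨g, hg⟩⁻¹, PLocal.Cores.pCore_normal'.conj_mem r hr _, rfl⟩
  · exact ⟨⟨g, hg⟩, hchar fun z hz => Subtype.ext (h z ⟨z, hz, rfl⟩).symm, rfl⟩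

theorem mem_zpowers_inv {u x : G} (hu : u * u = 1) : x ∈ Subgroup.zpowers u ↔ x = 1 ∨ x = u := by
  refine ⟨fun h => ?_, fun h => ?_⟩
  · obtain ⟨k, rfl⟩ := Subgroup.mem_zpowers_iff.mp h
    rcases Int.even_or_odd k with ⟨l, rfl⟩ | ⟨l, rfl⟩
    · left
      rw [← two_mul, zpow_mul, zpow_two, hu, one_zpow]
    · right
      rw [zpow_add, zpow_mul, zpow_two, hu, one_zpow, one_mul, zpow_one]
  · rcases h with rfl | rfl
    · exact one_mem _
    · exact Subgroup.mem_zpowers _

theorem isPGroup_zpowers_inv {u : G} (hu : u * u = 1) : IsPGroup 2 (Subgroup.zpowers u) := fun x =>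
  ⟨1, Subtype.ext (by
    rcases (mem_zpowers_inv hu).mp x.2 with h | h <;> simp [h, sq, hu])⟩

theorem mem_normalizer_zpowers_inv {u g : G} (hu : u * u = 1) (hu1 : u ≠ 1) :
    g ∈ Subgroup.normalizer (Subgroup.zpowers u : Set G) ↔ g * u = u * g := by
  constructor
  · intro h
    rcases (mem_zpowers_inv hu).mp ((Subgroup.mem_normalizer_iff.mp h u).mp (Subgroup.mem_zpowers u))
      with h' | h'
    · exact absurd (conj_eq_one_iff.mp h') hu1
    · exact (commute_of_conj h').eq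
  · intro h
    refine Subgroup.centralizer_le_normalizer _ fun x hx => ?_
    rcases (mem_zpowers_inv hu).mp hx with rfl | rfl
    · rw [one_mul, mul_one]
    · exact h.symm

/-- `O₂` of the centralizer of an involution. -/
theorem exists_inv_core [Finite G] (K : Ctx G p m) {u : G} (hu : u * u = 1) (hu1 : u ≠ 1) :
    ∃ Q : Subgroup G, IsPGroup 2 Q ∧ (∀ q ∈ Q, q * u = u * q) ∧ u ∈ Q ∧
      (∀ g : G, g * u = u * g → g ∈ Subgroup.normalizer (Q : Set G)) ∧
      ∀ g : G, g * u = u * g → (∀ q ∈ Q, g * q = q * g) → g ∈ Q := by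
  obtain ⟨Q, hQ, hQN, hNQ, hQC⟩ :=
    exists_two_core K (isPGroup_zpowers_inv hu) (Subgroup.zpowers_ne_bot.mpr hu1)
  have hcu : ∀ q ∈ Q, q * u = u * q := fun q hq =>
    (mem_normalizer_zpowers_inv hu hu1).mp (hQN hq)
  exact ⟨Q, hQ, hcu, hQC u ((mem_normalizer_zpowers_inv hu hu1).mpr rfl) fun q hq => (hcu q hq).symm,
    fun g hg => hNQ ((mem_normalizer_zpowers_inv hu hu1).mpr hg),
    fun g hg h => hQC g ((mem_normalizer_zpowers_inv hu hu1).mpr hg) h⟩

theorem Ctx.card_hyp [Finite G] (K : Ctx G p m) {A B : Subgroup G} (hA : Nat.card A = p ^ m)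
    (hB : Hyp p A B) : Nat.card B = p ^ (m - 1) ∧ B ≠ ⊥ := by
  have h := hB.2
  have h3 := K.three_le
  rw [hA, show p ^ m = p ^ (m - 1) * p by rw [← pow_succ, Nat.sub_add_cancel (by omega)]] at h
  have h' := Nat.eq_of_mul_eq_mul_right K.prime.pos h
  refine ⟨h', fun e => ?_⟩
  subst e
  rw [Subgroup.card_bot] at h'
  have := Nat.one_lt_pow (show m - 1 ≠ 0 by omega) K.prime.one_lt
  omega

theorem Ctx.ne_bot [Finite G] (K : Ctx G p m) {A : Subgroup G} (hA : Nat.card A = p ^ m) : A ≠ ⊥ := by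
  intro e
  subst e
  rw [Subgroup.card_bot] at hA
  have := Nat.one_lt_pow (show m ≠ 0 by have := K.three_le; omega) K.prime.one_lt
  omega

theorem normalizes_inf_centralizer {A B S : Subgroup G} (hA : EA p A) (hBA : B ≤ A)
    (hAS : A ≤ Subgroup.normalizer (S : Set G)) :
    A ≤ Subgroup.normalizer ((S ⊓ Subgroup.centralizer (B : Set G) : Subgroup G) : Set G) := by
  rw [Subgroup.le_normalizer_iff]
  intro a ha x hx
  refine Subgroup.mem_inf.mpr ⟨(Subgroup.le_normalizer_iff.mp hAS) a ha x hx.1, fun b hb => ?_⟩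
  have hab : Commute b a := hA.comm b (hBA hb) a ha
  have hxb : Commute b x := hx.2 b hb
  exact ((hab.mul_right hxb).mul_right hab.inv_right).eq

/-- A minimal invariant subgroup not centralized. -/
theorem exists_minimal [Finite G] {A S : Subgroup G} (hAS : A ≤ Subgroup.normalizer (S : Set G))
    (hS : ¬ S ≤ Subgroup.centralizer (A : Set G)) :
    ∃ U ≤ S, A ≤ Subgroup.normalizer (U : Set G) ∧ ¬ U ≤ Subgroup.centralizer (A : Set G) ∧
      ∀ W : Subgroup G, W < U → A ≤ Subgroup.normalizer (W : Set G) →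
        W ≤ Subgroup.centralizer (A : Set G) := by
  obtain ⟨U, ⟨hUS, hU1, hU2⟩, hmin⟩ := Set.exists_min_image
    {U : Subgroup G | U ≤ S ∧ A ≤ Subgroup.normalizer (U : Set G) ∧
      ¬ U ≤ Subgroup.centralizer (A : Set G)} (fun U => Nat.card U) (Set.toFinite _)
    ⟨S, le_rfl, hAS, hS⟩
  refine ⟨U, hUS, hU1, hU2, fun W hW hAW => ?_⟩
  by_contra hn
  exact hW.ne (Subgroup.eq_of_le_of_card_ge hW.le (hmin W ⟨hW.le.trans hUS, hAW, hn⟩))

/-- A minimal invariant `2`-subgroup without fixed points is elementary abelian of order at least 4. -/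
theorem minimal_elementary [Finite G] {A U : Subgroup G} (hU : IsPGroup 2 U)
    (hAU : A ≤ Subgroup.normalizer (U : Set G)) (hne : ¬ U ≤ Subgroup.centralizer (A : Set G))
    (hfix : U ⊓ Subgroup.centralizer (A : Set G) = ⊥)
    (hmin : ∀ W : Subgroup G, W < U → A ≤ Subgroup.normalizer (W : Set G) →
      W ≤ Subgroup.centralizer (A : Set G)) :
    EA 2 U ∧ (∀ W : Subgroup G, W ≤ U → A ≤ Subgroup.normalizer (W : Set G) → W ≠ ⊥ → W = U) ∧
      ∀ x ∈ U, x ≠ 1 → ∃ y ∈ U, y ≠ 1 ∧ y ≠ x := by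
  have : Fact (Nat.Prime 2) := ⟨Nat.prime_two⟩
  have hall : ∀ W : Subgroup G, W ≤ U → A ≤ Subgroup.normalizer (W : Set G) → W ≠ ⊥ → W = U := by
    intro W hW hAW hW1
    refine hW.eq_of_not_lt fun hlt => hW1 ?_
    rw [eq_bot_iff, ← hfix]
    exact le_inf hW (hmin W hlt hAW)
  have : Nontrivial U := by
    rw [Subgroup.nontrivial_iff_ne_bot]
    rintro rfl
    exact hne bot_le
  have hZ : (Subgroup.center U).map U.subtype = U := by
    refine hall _ (Subgroup.map_subtype_le _)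
      (hAU.trans (Coprime.OmegaDetect.normalizer_le_normalizer_char U _)) ?_
    rw [Ne, (Subgroup.center U).map_eq_bot_iff_of_injective U.subtype_injective]
    exact (Subgroup.nontrivial_iff_ne_bot _).mp hU.center_nontrivial
  have hcomm : ∀ a ∈ U, ∀ b ∈ U, a * b = b * a := by
    intro a ha b hb
    rw [← hZ] at ha
    obtain ⟨z, hz, rfl⟩ := ha
    exact (congrArg Subtype.val (Subgroup.mem_center_iff.mp hz ⟨b, hb⟩)).symm
  let W : Subgroup G :=
    { carrier := {x | x ∈ U ∧ x ^ 2 = 1}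
      one_mem' := ⟨one_mem _, one_pow 2⟩
      mul_mem' := fun {a b} ha hb => ⟨mul_mem ha.1 hb.1, by
        rw [(show Commute a b from hcomm a ha.1 b hb.1).mul_pow, ha.2, hb.2, one_mul]⟩
      inv_mem' := fun {a} ha => ⟨inv_mem ha.1, by rw [inv_pow, ha.2, inv_one]⟩ }
  have hW : W = U := by
    refine hall W (fun x hx => hx.1) ?_ ?_
    · rw [Subgroup.le_normalizer_iff]
      intro a ha x hx
      exact ⟨(Subgroup.le_normalizer_iff.mp hAU) a ha x hx.1, by
        rw [conj_pow, hx.2, mul_one, mul_inv_cancel]⟩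
    · obtain ⟨k, hk⟩ := IsPGroup.iff_card.mp hU
      have hk0 : k ≠ 0 := fun e => by
        rw [e, pow_zero] at hk
        exact (Subgroup.nontrivial_iff_ne_bot U).mp ‹_› (Subgroup.card_eq_one.mp hk)
      obtain ⟨x, hx⟩ := exists_prime_orderOf_dvd_card' 2 (hk ▸ dvd_pow_self 2 hk0)
      intro e
      have hxW : (x : G) ∈ W := ⟨x.2, by rw [← hx, ← Subgroup.orderOf_coe, pow_orderOf_eq_one]⟩
      rw [e, Subgroup.mem_bot] at hxW
      rw [← Subgroup.orderOf_coe, hxW, orderOf_one] at hx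
      omega
  refine ⟨⟨hcomm, fun a ha => ?_⟩, hall, fun x hx hx1 => ?_⟩
  · rw [← hW] at ha
    exact ha.2
  · by_contra! h
    refine hne fun y hy => ?_
    by_cases hy1 : y = 1
    · subst hy1; intro a _; rw [one_mul, mul_one]
    intro a ha
    rw [h y hy hy1]
    exact (commute_of_conj (h _ ((Subgroup.le_normalizer_iff.mp hAU) a ha x hx)
      fun e => hx1 (conj_eq_one_iff.mp e))).eq

/-- The involutions of an elementary abelian `2`-group give an element fixing an eigenvector. -/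
theorem exists_fixing {U : Subgroup G} (hU : EA 2 U) {v g₀ : G}
    (hsign : ∀ g ∈ U, Fx g v ∨ Ng g v) (hg : g₀ ∈ U) (hg1 : g₀ ≠ 1)
    (hthree : ∀ x ∈ U, x ≠ 1 → ∃ y ∈ U, y ≠ 1 ∧ y ≠ x) : ∃ k ∈ U, k ≠ 1 ∧ Fx k v := by
  obtain ⟨y, hy, hy1, hyx⟩ := hthree g₀ hg hg1
  rcases hsign y hy with h | h
  · exact ⟨y, hy, hy1, h⟩
  rcases hsign g₀ hg with h' | h'
  · exact ⟨g₀, hg, hg1, h'⟩
  refine ⟨y * g₀, mul_mem hy hg, fun e => hyx ?_, h.mul h'⟩
  rw [eq_inv_of_mul_eq_one_left e]
  exact inv_eq_of_mul_eq_one_left (sq g₀ ▸ hU.pow g₀ hg)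

/-- **Start**: an involution centralized by an elementary abelian subgroup of maximal rank. -/
theorem exists_pair [Finite G] (K : Ctx G p m) {T A : Subgroup G} (hT : IsPGroup 2 T) (hT1 : T ≠ ⊥)
    (hA : EA p A) (hAc : Nat.card A = p ^ m) (hAT : A ≤ Subgroup.normalizer (T : Set G)) :
    ∃ (u : G) (A' : Subgroup G), Pr p m u A' := by
  have := Fact.mk K.prime
  have : Fact (Nat.Prime 2) := ⟨Nat.prime_two⟩
  obtain ⟨Q, hQ, hQN, hNQ, hQC⟩ := exists_two_core K hT hT1
  have hAQ := hAT.trans hNQ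
  obtain ⟨B, hB, hmove⟩ : ∃ B, Hyp p A B ∧
      ¬ Q ⊓ Subgroup.centralizer (B : Set G) ≤ Subgroup.centralizer (A : Set G) := by
    by_contra! h
    have hle := le_of_hyperplanes hA (K.ne_bot hAc) hAQ (two_group_coprime K.ne_two hQ) h
    refine K.ne_bot hAc ((Subgroup.eq_bot_iff_forall _).mpr fun a ha => ?_)
    have haQ : a ∈ Q := hQC a (hAT ha) fun q hq => hle hq a ha
    exact orderOf_eq_one_iff.mp (Nat.eq_one_of_dvd_coprimes (two_elt_coprime K.ne_two hQ haQ) dvd_rfl
      (orderOf_dvd_of_pow_eq_one (hA.pow a ha)))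
  obtain ⟨U, hUS, hAU, hUne, hUmin⟩ := exists_minimal (normalizes_inf_centralizer hA hB.1 hAQ) hmove
  have hUQ : IsPGroup 2 U := hQ.to_le (hUS.trans inf_le_left)
  by_cases hfix : U ⊓ Subgroup.centralizer (A : Set G) = ⊥
  swap
  · obtain ⟨k, hk⟩ := IsPGroup.iff_card.mp
      (hUQ.to_le (inf_le_left : U ⊓ Subgroup.centralizer (A : Set G) ≤ U))
    have hk0 : k ≠ 0 := fun e => hfix (Subgroup.card_eq_one.mp (by rw [hk, e, pow_zero]))
    obtain ⟨x, hx⟩ := exists_prime_orderOf_dvd_card' 2 (hk ▸ dvd_pow_self 2 hk0)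
    rw [← Subgroup.orderOf_coe] at hx
    refine ⟨x, A, ⟨?_, fun e => by simp [e] at hx, hA, hAc, fun a ha => x.2.2 a ha⟩⟩
    rw [← sq, ← hx, pow_orderOf_eq_one]
  obtain ⟨hU2, -, hthree⟩ := minimal_elementary hUQ hAU hUne hfix hUmin
  obtain ⟨hBc, hB1⟩ := K.card_hyp hAc hB
  obtain ⟨D, hD⟩ := exists_CD K (hA.le hB.1).isPGroup hB1
  have hUC : U ≤ Subgroup.centralizer (B : Set G) := hUS.trans inf_le_right
  obtain ⟨g₀, hg₀, hg₀1⟩ : ∃ g ∈ U, g ≠ 1 := by
    by_contra! h
    exact hUne fun x hx => by rw [h x hx]; exact one_mem _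
  obtain ⟨d, hd, hdne⟩ : ∃ d ∈ D, g₀ * d * g₀⁻¹ ≠ d := by
    by_contra! h
    exact hg₀1 (hD.faithful g₀ (hUC hg₀) (two_elt_coprime K.ne_two hUQ hg₀)
      fun d hd => (commute_of_conj (h d hd)).eq)
  obtain ⟨v, hv, hv1, hvn, hvs⟩ := hD.dp.exists_eigen K.odd hU2
    (fun g hg => hD.norm g (hUC hg)) hg₀ hd hdne
  obtain ⟨k, hk, hk1, hkv⟩ := exists_fixing hU2 hvs hg₀ hg₀1 hthree
  have hvB : v ∉ B := fun h => hv1 (hD.dp.not_both K.odd hv (commute_conj (hUC hg₀ v h).symm) hvn)
  obtain ⟨hE, hEc⟩ := (hA.le hB.1).sup_zpowers (hD.dp.pow v hv) (hD.cen hv) hvB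
  refine ⟨k, _, ⟨sq k ▸ hU2.pow k hk, hk1, hE, ?_, ?_⟩⟩
  · rw [hEc, hB.2, hAc]
  · have hle : B ⊔ Subgroup.zpowers v ≤ Subgroup.centralizer {k} := by
      rw [sup_le_iff, Subgroup.zpowers_le]
      exact ⟨fun b hb => Subgroup.mem_centralizer_singleton_iff.mpr (hUC hk b hb),
        Subgroup.mem_centralizer_singleton_iff.mpr hkv.commute.symm⟩
    exact fun e he => Subgroup.mem_centralizer_singleton_iff.mp (hle he)

/-- In a class two group inverting both arguments does not change the commutator. -/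
theorem Dp.comm_inv {D : Subgroup G} (hD : Dp p D) {x y : G} (hx : x ∈ D) (hy : y ∈ D) :
    ⁅x⁻¹, y⁻¹⁆ = ⁅x, y⁆ ∧ ⁅x, y⁻¹⁆ = ⁅x, y⁆⁻¹ ∧ ⁅x⁻¹, y⁆ = ⁅x, y⁆⁻¹ := by
  have hc : ∀ a ∈ D, ∀ b ∈ D, ∀ z ∈ D, z * ⁅a, b⁆ * z⁻¹ = ⁅a, b⁆ := fun a ha b hb z hz => by
    rw [← hD.cen a ha b hb z hz, mul_inv_cancel_right]
  refine ⟨?_, ?_, ?_⟩
  · have h := hc x hx y hy (x⁻¹ * y⁻¹) (mul_mem (inv_mem hx) (inv_mem hy))
    rw [← h]
    simp only [commutatorElement_def]
    group
  · have h := hc y hy x hx y⁻¹ (inv_mem hy)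
    rw [commutatorElement_inv, ← h]
    simp only [commutatorElement_def]
    group
  · have h := hc y hy x hx x⁻¹ (inv_mem hx)
    rw [commutatorElement_inv, ← h]
    simp only [commutatorElement_def]
    group

/-- **Abelian invariant `2`-subgroups of `C(u)` are centralized.** -/
theorem abelian_fixed [Finite G] (K : Ctx G p m) {u : G} {A S : Subgroup G} (hu : Pr p m u A)
    (hS : IsPGroup 2 S) (hSc : ∀ x ∈ S, ∀ y ∈ S, x * y = y * x) (hSu : ∀ x ∈ S, x * u = u * x)
    (hAS : A ≤ Subgroup.normalizer (S : Set G)) : S ≤ Subgroup.centralizer (A : Set G) := by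
  have := Fact.mk K.prime
  have hA := hu.ea
  refine le_of_hyperplanes hA (K.ne_bot hu.card) hAS (two_group_coprime K.ne_two hS) fun B hB => ?_
  by_contra hmove
  obtain ⟨U, hUS, hAU, hUne, hUmin⟩ := exists_minimal (normalizes_inf_centralizer hA hB.1 hAS) hmove
  have hUQ : IsPGroup 2 U := hS.to_le (hUS.trans inf_le_left)
  have hUC : U ≤ Subgroup.centralizer (B : Set G) := hUS.trans inf_le_right
  have hUu : ∀ x ∈ U, x * u = u * x := fun x hx => hSu x (hUS hx).1
  have hcopA : (Nat.card A).Coprime (Nat.card U) := by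
    rw [hu.card]
    exact ((two_group_coprime K.ne_two hUQ).pow_right m).symm
  have : IsMulCommutative U :=
    ⟨⟨fun a b => Subtype.ext (hSc a (hUS a.2).1 b (hUS b.2).1)⟩⟩
  have hfix : U ⊓ Subgroup.centralizer (A : Set G) = ⊥ := by
    have hsolv : Group.IsSolvable A ∨ Group.IsSolvable U :=
      Or.inr (Coprime.isSolvable_of_isMulCommutative U)
    have hW : ⁅U, A⁆ = U := by
      refine (Coprime.commutator_le_of_le_normalizer hAU).eq_of_not_lt fun hlt => hUne ?_
      have h1 := hUmin _ hlt (Subgroup.normalizer_commutator_ge_right U A)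
      refine Subgroup.le_centralizer_iff.mp (Coprime.le_centralizer_of_commutator_commutator_eq_bot
        hAU hcopA hsolv ?_)
      rw [Coprime.commutator_eq_bot_iff_le_centralizer', Subgroup.le_centralizer_iff]
      exact h1
    have h := Coprime.inf_centralizer_inf_commutator hAU hcopA
    rwa [hW, inf_eq_left.mpr inf_le_left] at h
  obtain ⟨hU2, hall, hthree⟩ := minimal_elementary hUQ hAU hUne hfix hUmin
  have huU : u ∉ U := fun h => hu.ne (by
    have : u ∈ U ⊓ Subgroup.centralizer (A : Set G) := ⟨h, fun a ha => hu.comm a ha⟩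
    rwa [hfix, Subgroup.mem_bot] at this)
  obtain ⟨hBc, hB1⟩ := K.card_hyp hu.card hB
  obtain ⟨D, hD⟩ := exists_CD K (hA.le hB.1).isPGroup hB1
  have huB : u ∈ Subgroup.centralizer (B : Set G) := fun b hb => hu.comm b (hB.1 hb)
  have hAB : ∀ a ∈ A, a ∈ Subgroup.centralizer (B : Set G) := hA.le_centralizer hB.1
  have hkey : ∀ x ∈ U, ∀ d ∈ D, Fx u d → x * d = d * x := fun x hx d hd hud =>
    fix_lemma K hu hB.1 hD hUQ hUC hUu hAU hx hd hud.commute.symm
  obtain ⟨g₀, hg₀, hg₀1⟩ : ∃ g ∈ U, g ≠ 1 := by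
    by_contra! h
    exact hUne fun x hx => by rw [h x hx]; exact one_mem _
  obtain ⟨d, hd, hdne⟩ : ∃ d ∈ D, g₀ * d * g₀⁻¹ ≠ d := by
    by_contra! h
    exact hg₀1 (hD.faithful g₀ (hUC hg₀) (two_elt_coprime K.ne_two hUQ hg₀)
      fun d hd => (commute_of_conj (h d hd)).eq)
  obtain ⟨v, hv, hv1, hvn, hvs⟩ := hD.dp.exists_eigen K.odd hU2
    (fun g hg => hD.norm g (hUC hg)) hg₀ hd hdne
  have huv : Ng u v := by
    by_contra hn
    obtain ⟨f, hf, hf1, hff, hfs⟩ := hD.dp.exists_fix K.odd hu.inv hv (hD.norm u huB v hv) hn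
    exact hf1 (hD.dp.not_both K.odd hf (commute_conj (hkey g₀ hg₀ f hf hff))
      ((hfs g₀ (hUu g₀ hg₀)).2 hvn))
  obtain ⟨a, ha, k, hk, hkv, hkn⟩ : ∃ a ∈ A, ∃ k ∈ U, Fx k v ∧ Ng (a * k * a⁻¹) v := by
    by_contra! h
    let W : Subgroup G :=
      { carrier := {x | x ∈ U ∧ Fx x v}
        one_mem' := ⟨one_mem _, by simp [Fx]⟩
        mul_mem' := fun {a b} ha hb => ⟨mul_mem ha.1 hb.1, ha.2.mul hb.2⟩
        inv_mem' := fun {a} ha => ⟨inv_mem ha.1,
          by rw [inv_eq_of_mul_eq_one_left (sq a ▸ hU2.pow a ha.1)]; exact ha.2⟩ }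
    obtain ⟨k, hk, hk1, hkv⟩ := exists_fixing hU2 hvs hg₀ hg₀1 hthree
    have hW : W = U := by
      refine hall W (fun x hx => hx.1) ?_ fun e => hk1 ?_
      · rw [Subgroup.le_normalizer_iff]
        intro a ha x hx
        have hx' := (Subgroup.le_normalizer_iff.mp hAU) a ha x hx.1
        exact ⟨hx', (hvs _ hx').resolve_right (h a ha x hx.1 hx.2)⟩
      · have : k ∈ W := ⟨hk, hkv⟩
        rwa [e, Subgroup.mem_bot] at this
    have : g₀ ∈ W := hW ▸ hg₀
    exact hv1 (hD.dp.not_both K.odd hv this.2 hvn)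
  set v2 := a⁻¹ * v * a with hv2
  have hv2D : v2 ∈ D := by
    have := hD.norm a⁻¹ (inv_mem (hAB a ha)) v hv
    rwa [inv_inv] at this
  have hiff : ∀ g : G, (Fx g v2 ↔ Fx (a * g * a⁻¹) v) ∧ (Ng g v2 ↔ Ng (a * g * a⁻¹) v) := by
    intro g
    have e1 : g * v2 * g⁻¹ = a⁻¹ * ((a * g * a⁻¹) * v * (a * g * a⁻¹)⁻¹) * a := by rw [hv2]; group
    constructor
    · constructor <;> intro h <;> unfold Fx at *
      · rw [e1] at h
        exact mul_left_cancel (mul_right_cancel (h.trans hv2))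
      · rw [e1, h]
    · constructor <;> intro h <;> unfold Ng at *
      · rw [e1, hv2, show (a⁻¹ * v * a)⁻¹ = a⁻¹ * v⁻¹ * a by group] at h
        exact mul_left_cancel (mul_right_cancel h)
      · rw [e1, h, hv2]; group
  have hkv2 : Ng k v2 := (hiff k).2.mpr hkn
  obtain ⟨g, hg, hgv, hgv2⟩ : ∃ g ∈ U, Ng g v ∧ Ng g v2 := by
    rcases hvs _ ((Subgroup.le_normalizer_iff.mp hAU) a ha g₀ hg₀) with h | h
    · exact ⟨g₀ * k, mul_mem hg₀ hk, hvn.mul_fx hkv, ((hiff g₀).1.mpr h).mul_ng hkv2⟩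
    · exact ⟨g₀, hg₀, hvn, (hiff g₀).2.mpr h⟩
  have huv2 : Ng u v2 := by
    refine (hiff u).2.mpr ?_
    rwa [commute_conj (show Commute a u from hu.comm a ha)]
  set e := g * u with he
  have hgu : Commute g u := hUu g hg
  have hee : e * e = 1 := by
    rw [he, ← sq, hgu.mul_pow, hU2.pow g hg, sq, hu.inv, one_mul]
  have he1 : e ≠ 1 := fun h => huU (by
    have h1 : g = u⁻¹ := eq_inv_of_mul_eq_one_left h
    rw [inv_eq_of_mul_eq_one_left hu.inv] at h1
    exact h1 ▸ hg)
  have hev : Fx e v := hgv.mul huv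
  have hev2 : Fx e v2 := hgv2.mul huv2
  -- the commutator of the two eigenvectors is trivial
  obtain ⟨hc1, hc2, -⟩ := hD.dp.comm_inv hv hv2D
  set c := ⁅v, v2⁆ with hc
  have hcD : c ∈ D := by
    rw [hc, commutatorElement_def]
    exact mul_mem (mul_mem (mul_mem hv hv2D) (inv_mem hv)) (inv_mem hv2D)
  have hconj : ∀ g : G, g * c * g⁻¹ = ⁅g * v * g⁻¹, g * v2 * g⁻¹⁆ := fun g => by
    rw [hc, conjugate_commutatorElement]
  have hcu : Fx u c := by rw [Fx, hconj, huv, huv2, hc1]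
  have hck : Ng k c := by rw [Ng, hconj, hkv, hkv2, hc2]
  have hc0 : c = 1 := hD.dp.not_both K.odd hcD (commute_conj (hkey k hk c hcD hcu)) hck
  have hcomm : v * v2 = v2 * v := commutatorElement_eq_one_iff_mul_comm.mp hc0
  -- a too large elementary abelian subgroup of the centralizer of `e`
  have hvB : v ∉ B := fun h => hv1 (hD.dp.not_both K.odd hv (commute_conj (hUC hg₀ v h).symm) hvn)
  obtain ⟨hE1, hE1c⟩ := (hA.le hB.1).sup_zpowers (hD.dp.pow v hv) (hD.cen hv) hvB
  have hle1 : ∀ x : G, (∀ b ∈ B, b * x = x * b) → v * x = x * v →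
      ∀ y ∈ B ⊔ Subgroup.zpowers v, y * x = x * y := by
    intro x h1 h2
    have hle : B ⊔ Subgroup.zpowers v ≤ Subgroup.centralizer {x} := by
      rw [sup_le_iff, Subgroup.zpowers_le]
      exact ⟨fun b hb => Subgroup.mem_centralizer_singleton_iff.mpr (h1 b hb),
        Subgroup.mem_centralizer_singleton_iff.mpr h2⟩
    exact fun y hy => Subgroup.mem_centralizer_singleton_iff.mp (hle hy)
  have hv21 : v2 ≠ 1 := fun h => hv1 (by
    rw [hv2] at h
    have := congrArg (fun x => a * x * a⁻¹) h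
    simpa [mul_assoc] using this)
  have hv2E : v2 ∉ B ⊔ Subgroup.zpowers v := fun h =>
    hv21 (hD.dp.not_both K.odd hv2D
      (commute_conj ((hle1 k (hUC hk) hkv.commute.symm v2 h).symm)) hkv2)
  obtain ⟨hE2, hE2c⟩ := hE1.sup_zpowers (hD.dp.pow v2 hv2D)
    (hle1 v2 (hD.cen hv2D) hcomm) hv2E
  have hbound := K.bound e hee he1 _ hE2 (by
    have hle : B ⊔ Subgroup.zpowers v ⊔ Subgroup.zpowers v2 ≤ Subgroup.centralizer {e} := by
      rw [sup_le_iff, Subgroup.zpowers_le]
      refine ⟨fun y hy => Subgroup.mem_centralizer_singleton_iff.mpr (hle1 e ?_ hev.commute.symm y hy),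
        Subgroup.mem_centralizer_singleton_iff.mpr hev2.commute.symm⟩
      intro b hb
      exact (show Commute b g from hUC hg b hb).mul_right (show Commute b u from huB b hb) |>.eq
    exact fun y hy => Subgroup.mem_centralizer_singleton_iff.mp (hle hy))
  rw [hE2c, hE1c, hB.2, hu.card] at hbound
  have := K.prime.one_lt
  have : 0 < p ^ m := pow_pos K.prime.pos m
  nlinarith

/-- **Uniqueness**: `u` is the only involution commuting with `u` and centralizing `A`. -/
theorem unique_inv [Finite G] (K : Ctx G p m) {u v : G} {A : Subgroup G} (hu : Pr p m u A)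
    (hv : v * v = 1) (hv1 : v ≠ 1) (hvu : v * u = u * v) (hvA : ∀ a ∈ A, a * v = v * a) :
    v = u := by
  by_contra hne
  have := Fact.mk K.prime
  have hA := hu.ea
  obtain ⟨Q, hQ, hQu, -, hQn, hQC⟩ := exists_inv_core K hu.inv hu.ne
  have hAQ : A ≤ Subgroup.normalizer (Q : Set G) := fun a ha => hQn a (hu.comm a ha)
  obtain ⟨B, hB, hmove⟩ : ∃ B, Hyp p A B ∧ ¬ Q ⊓ Subgroup.centralizer (B : Set G) ⊓
      Subgroup.centralizer {v} ≤ Subgroup.centralizer (A : Set G) := by
    by_contra! h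
    have : Fact (Nat.Prime 2) := ⟨Nat.prime_two⟩
    have hle : Q ≤ Subgroup.centralizer (A : Set G) := by
      refine le_of_hyperplanes hA (K.ne_bot hu.card) hAQ (two_group_coprime K.ne_two hQ) fun B hB => ?_
      refine Subgroup.le_centralizer_iff.mp (Coprime.le_centralizer_of_pxq (p := 2)
        (P := Subgroup.zpowers v) (isPGroup_zpowers_inv hv) ?_ (hQ.to_le inf_le_left) ?_ ?_
        (normalizes_inf_centralizer hA hB.1 hAQ) ?_)
      · rw [hu.card]
        exact ((Nat.coprime_primes K.prime Nat.prime_two).mpr K.ne_two).pow_left m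
      · exact Subgroup.zpowers_le.mpr fun a ha => hvA a ha
      · rw [Subgroup.le_normalizer_iff]
        intro g hg x hx
        have hgB : g ∈ Subgroup.centralizer (B : Set G) :=
          (Subgroup.zpowers_le (H := Subgroup.centralizer (B : Set G))).mpr
            (fun b hb => hvA b (hB.1 hb)) hg
        have hgQ : g ∈ Subgroup.normalizer (Q : Set G) := (Subgroup.zpowers_le).mpr (hQn v hvu) hg
        exact Subgroup.mem_inf.mpr ⟨(Subgroup.mem_normalizer_iff.mp hgQ x).mp hx.1,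
          mul_mem (mul_mem hgB hx.2) (inv_mem hgB)⟩
      · rw [Subgroup.zpowers_eq_closure, Subgroup.centralizer_closure]
        exact h B hB
    refine K.ne_bot hu.card ((Subgroup.eq_bot_iff_forall _).mpr fun a ha => ?_)
    have haQ : a ∈ Q := hQC a (hu.comm a ha) fun q hq => hle hq a ha
    exact orderOf_eq_one_iff.mp (Nat.eq_one_of_dvd_coprimes (two_elt_coprime K.ne_two hQ haQ) dvd_rfl
      (orderOf_dvd_of_pow_eq_one (hA.pow a ha)))
  set X := Q ⊓ Subgroup.centralizer (B : Set G) ⊓ Subgroup.centralizer {v} with hX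
  have hAX : A ≤ Subgroup.normalizer (X : Set G) := by
    rw [Subgroup.le_normalizer_iff]
    intro a ha x hx
    refine Subgroup.mem_inf.mpr
      ⟨(Subgroup.le_normalizer_iff.mp (normalizes_inf_centralizer hA hB.1 hAQ)) a ha x hx.1, ?_⟩
    rw [Subgroup.mem_centralizer_singleton_iff]
    have h1 : Commute v a := (hvA a ha).symm
    have h2 : Commute v x := (Subgroup.mem_centralizer_singleton_iff.mp hx.2).symm
    exact (((h1.mul_right h2).mul_right h1.inv_right).symm).eq
  have hX2 : IsPGroup 2 X := hQ.to_le (inf_le_left.trans inf_le_left)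
  obtain ⟨hBc, hB1⟩ := K.card_hyp hu.card hB
  obtain ⟨D, hD⟩ := exists_CD K (hA.le hB.1).isPGroup hB1
  have huB : u ∈ Subgroup.centralizer (B : Set G) := fun b hb => hu.comm b (hB.1 hb)
  have hvB : v ∈ Subgroup.centralizer (B : Set G) := fun b hb => hvA b (hB.1 hb)
  have hw : (u * v) * (u * v) = 1 := by
    rw [← sq, (show Commute u v from hvu.symm).mul_pow, sq, sq, hu.inv, hv, one_mul]
  have hw1 : u * v ≠ 1 := fun h =>
    hne ((inv_eq_of_mul_eq_one_right h).symm.trans (inv_eq_of_mul_eq_one_left hu.inv))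
  refine hmove fun x hx => ?_
  have hxB : x ∈ Subgroup.centralizer (B : Set G) := hx.1.2
  have key : ∀ z : G, Pr p m z A → (∀ y ∈ X, y * z = z * y) → ∀ d ∈ D, Fx z d →
      d ∈ Subgroup.centralizer {x} := fun z hz hXz d hd hzd =>
    Subgroup.mem_centralizer_singleton_iff.mpr
      (fix_lemma K hz hB.1 hD hX2 (inf_le_left.trans inf_le_right) hXz hAX hx hd hzd.commute.symm).symm
  have hXu : ∀ y ∈ X, y * u = u * y := fun y hy => hQu y hy.1.1
  have hXv : ∀ y ∈ X, y * v = v * y := fun y hy => Subgroup.mem_centralizer_singleton_iff.mp hy.2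
  have ku := key u hu hXu
  have kv := key v ⟨hv, hv1, hA, hu.card, hvA⟩ hXv
  have kw := key (u * v) ⟨hw, hw1, hA, hu.card, fun a ha =>
      ((show Commute a u from hu.comm a ha).mul_right (show Commute a v from hvA a ha)).eq⟩
    fun y hy => ((show Commute y u from hXu y hy).mul_right (show Commute y v from hXv y hy)).eq
  have hall : ∀ d ∈ D, d ∈ Subgroup.centralizer {x} := by
    intro d hd
    obtain ⟨f, hf, i, hi, hff, hin, -, -, hrec, -⟩ :=
      hD.dp.split K.odd hu.inv hd (hD.norm u huB d hd)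
    obtain ⟨f', hf', i', hi', hff', hin', -, -, hrec', hsign⟩ :=
      hD.dp.split K.odd hv hi (hD.norm v hvB i hi)
    have hi'K : i' ∈ Subgroup.centralizer {x} :=
      kw i' hi' (((hsign u hvu.symm).2 hin).2.mul hin')
    have hiK : i ∈ Subgroup.centralizer {x} :=
      hD.dp.mem_of_sq K.odd hi (hrec' ▸ badd_mem (kv f' hf' hff') hi'K)
    exact hD.dp.mem_of_sq K.odd hd (hrec ▸ badd_mem (ku f hf hff) hiK)
  have : x = 1 := hD.faithful x hxB (two_elt_coprime K.ne_two hX2 hx)
    fun d hd => (Subgroup.mem_centralizer_singleton_iff.mp (hall d hd)).symm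
  rw [this]
  exact one_mem _

/-- A `2`-group of symplectic type on which `A` acts without fixed points modulo `⟨u⟩`. -/
structure Small (u : G) (A P : Subgroup G) : Prop where
  norm : A ≤ Subgroup.normalizer (P : Set G)
  two : IsPGroup 2 P
  comm_u : ∀ x ∈ P, x * u = u * x
  comm : ∀ x ∈ P, ∀ y ∈ P, ⁅x, y⁆ ∈ Subgroup.zpowers u
  sq : ∀ x ∈ P, x * x ∈ Subgroup.zpowers u
  fixed : ∀ x ∈ P, (∀ a ∈ A, a * x = x * a) → x ∈ Subgroup.zpowers u
  central : ∀ x ∈ P, (∀ y ∈ P, x * y = y * x) → x ∈ Subgroup.zpowers u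

theorem small_commutator [Finite G] (K : Ctx G p m) {u : G} {A Q : Subgroup G} (hu : Pr p m u A)
    (hQ : IsPGroup 2 Q) (hQu : ∀ x ∈ Q, x * u = u * x) (hAQ : A ≤ Subgroup.normalizer (Q : Set G)) :
    Small u A ⁅Q, A⁆ := by
  classical
  have := Fact.mk K.prime
  have : Fact (Nat.Prime 2) := ⟨Nat.prime_two⟩
  set P := ⁅Q, A⁆ with hP
  have hPQ : P ≤ Q := Coprime.commutator_le_of_le_normalizer hAQ
  have hAP : A ≤ Subgroup.normalizer (P : Set G) := Subgroup.normalizer_commutator_ge_right Q A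
  have hP2 : IsPGroup 2 P := hQ.to_le hPQ
  have hPu : ∀ x ∈ P, x * u = u * x := fun x hx => hQu x (hPQ hx)
  have hcop : (Nat.card A).Coprime (Nat.card Q) := by
    rw [hu.card]
    exact ((two_group_coprime K.ne_two hQ).pow_right m).symm
  have hPA : ⁅P, A⁆ = P := Coprime.commutator_commutator_eq hAQ hcop
    (Or.inr (Coprime.isSolvable_of_isPGroup hQ))
  have hab : ∀ W : Subgroup G, W ≤ P → (∀ x ∈ W, ∀ y ∈ W, x * y = y * x) →
      A ≤ Subgroup.normalizer (W : Set G) → W ≤ Subgroup.centralizer (A : Set G) :=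
    fun W hW hc hn => abelian_fixed K hu (hP2.to_le hW) hc (fun x hx => hPu x (hW hx)) hn
  have hcentral : ∀ W : Subgroup G, W ≤ P → (∀ x ∈ W, ∀ y ∈ W, x * y = y * x) →
      A ≤ Subgroup.normalizer (W : Set G) → P ≤ Subgroup.normalizer (W : Set G) →
      W ≤ Subgroup.centralizer (P : Set G) := by
    intro W hW hc hn hPW
    have hWA := hab W hW hc hn
    have h1 : ⁅⁅P, W⁆, A⁆ = ⊥ := by
      rw [eq_bot_iff, ← (Subgroup.commutator_eq_bot_iff_le_centralizer.mpr hWA)]
      exact Subgroup.commutator_mono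
        ((Subgroup.commutator_comm P W).le.trans (Coprime.commutator_le_of_le_normalizer hPW)) le_rfl
    have h2 : ⁅⁅W, A⁆, P⁆ = ⊥ := by
      rw [Subgroup.commutator_eq_bot_iff_le_centralizer.mpr hWA, Subgroup.commutator_bot_left]
    have h3 := Subgroup.commutator_commutator_eq_bot_of_rotate h1 h2
    rw [Subgroup.commutator_comm A P, hPA] at h3
    exact Subgroup.le_centralizer_iff.mp (Subgroup.commutator_eq_bot_iff_le_centralizer.mp h3)
  have := hP2.isNilpotent
  set Z := Subgroup.center P with hZ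
  have hchar : ∀ R : Subgroup P, R.Characteristic →
      A ≤ Subgroup.normalizer (R.map P.subtype : Set G) ∧
        P ≤ Subgroup.normalizer (R.map P.subtype : Set G) := fun R hR => by
    haveI := hR
    have h := Coprime.OmegaDetect.normalizer_le_normalizer_char P R
    exact ⟨hAP.trans h, Subgroup.le_normalizer.trans h⟩
  -- class two
  have hcl : commutator P ≤ Z := by
    let W : Subgroup P := commutator P ⊓ (Subgroup.center (P ⧸ Z)).comap (QuotientGroup.mk' Z)
    have hmemW : ∀ x, x ∈ W ↔ x ∈ commutator P ∧ ∀ y, ⁅x, y⁆ ∈ Z := fun x => by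
      simp only [W, Subgroup.mem_inf, Subgroup.mem_comap, Subgroup.mem_center_iff]
      refine and_congr_right fun _ => ⟨fun h y => ?_, fun h z => ?_⟩
      · rw [← QuotientGroup.eq_one_iff, ← QuotientGroup.mk'_apply, map_commutatorElement,
          commutatorElement_eq_one_iff_mul_comm]
        exact (h _).symm
      · obtain ⟨y, rfl⟩ := QuotientGroup.mk'_surjective Z z
        have h1 := (QuotientGroup.eq_one_iff _).mpr (h y)
        rw [← QuotientGroup.mk'_apply, map_commutatorElement,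
          commutatorElement_eq_one_iff_mul_comm] at h1
        exact h1.symm
    have hWchar : W.Characteristic := Subgroup.characteristic_iff_map_le.mpr fun φ => by
      rintro _ ⟨x, hx, rfl⟩
      obtain ⟨hx1, hx2⟩ := (hmemW x).mp hx
      refine (hmemW _).mpr ⟨Subgroup.characteristic_iff_map_le.mp inferInstance φ ⟨x, hx1, rfl⟩,
        fun y => ?_⟩
      have h := Subgroup.characteristic_iff_map_le.mp (inferInstance : Z.Characteristic) φ
        ⟨_, hx2 (φ.symm y), rfl⟩
      simpa [map_commutatorElement] using h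
    have hWab : ∀ x ∈ W, ∀ y ∈ W, x * y = y * x := by
      intro x hx y hy
      have h1 : ⁅⁅(⊤ : Subgroup P), W⁆, (⊤ : Subgroup P)⁆ = ⊥ := by
        rw [eq_bot_iff, Subgroup.commutator_le]
        intro a ha b _
        have haZ : a ∈ Z := by
          refine (Subgroup.commutator_le.mpr fun c _ d hd => ?_) ha
          rw [← commutatorElement_inv]
          exact inv_mem (((hmemW d).mp hd).2 c)
        rw [Subgroup.mem_bot, commutatorElement_eq_one_iff_mul_comm]
        exact (Subgroup.mem_center_iff.mp haZ b).symm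
      have h2 : ⁅⁅W, (⊤ : Subgroup P)⁆, (⊤ : Subgroup P)⁆ = ⊥ := by rwa [Subgroup.commutator_comm W]
      have h3 := Subgroup.commutator_commutator_eq_bot_of_rotate h1 h2
      have h4 := Subgroup.commutator_eq_bot_iff_le_centralizer.mp h3 ((hmemW x).mp hx).1
      exact (h4 y hy).symm
    obtain ⟨hn1, hn2⟩ := hchar W hWchar
    have hWC := hcentral _ (Subgroup.map_subtype_le W) (by
      rintro _ ⟨x, hx, rfl⟩ _ ⟨y, hy, rfl⟩
      exact congrArg Subtype.val (hWab x hx y hy)) hn1 hn2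
    by_contra hnot
    have hne : (commutator P).map (QuotientGroup.mk' Z) ≠ ⊥ := fun e => hnot fun x hx => by
      have h : QuotientGroup.mk' Z x ∈ (⊥ : Subgroup (P ⧸ Z)) := e ▸ ⟨x, hx, rfl⟩
      exact (QuotientGroup.eq_one_iff _).mp (Subgroup.mem_bot.mp h)
    have : ((commutator P).map (QuotientGroup.mk' Z)).Normal :=
      Subgroup.Normal.map inferInstance _ (QuotientGroup.mk'_surjective Z)
    obtain ⟨z, hz, hz1⟩ := (Subgroup.bot_or_exists_ne_one _).resolve_left
      (Solvable.Basics.inf_center_ne_bot hne)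
    obtain ⟨x, hx, rfl⟩ := hz.1
    refine hz1 ((QuotientGroup.eq_one_iff _).mpr (Subgroup.mem_center_iff.mpr fun y => ?_))
    exact Subtype.ext (hWC ⟨x, ⟨hx, hz.2⟩, rfl⟩ y y.2)
  have hcen : ∀ a b : P, ⁅a, b⁆ ∈ Subgroup.center P := fun a b =>
    hcl (Subgroup.commutator_mem_commutator (Subgroup.mem_top a) (Subgroup.mem_top b))
  have hml := fun a b c => GenA.BaerTrick.comm_mul_left hcen a b c
  have hmr := fun a b c => GenA.BaerTrick.comm_mul_right hcen a b c
  have hpl : ∀ (k : ℕ) (a b : P), ⁅a ^ k, b⁆ = ⁅a, b⁆ ^ k := by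
    intro k a b
    induction k with
    | zero => simp
    | succ k ih => rw [pow_succ, hml, ih, pow_succ]
  have hpr : ∀ (k : ℕ) (a b : P), ⁅a, b ^ k⁆ = ⁅a, b⁆ ^ k := fun k a b => by
    rw [← commutatorElement_inv, hpl, ← inv_pow, commutatorElement_inv]
  let act : A → P → P := fun a x =>
    ⟨(a : G) * x * (a : G)⁻¹, (Subgroup.le_normalizer_iff.mp hAP) a a.2 x x.2⟩
  -- central subgroups are centralized
  have hfixR : ∀ R : Subgroup P, R.Characteristic → (∀ x ∈ R, ∀ y ∈ R, x * y = y * x) →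
      ∀ x ∈ R, ∀ a ∈ A, a * (x : G) = x * a := by
    intro R hR hc x hx
    exact hab _ (Subgroup.map_subtype_le R) (by
      rintro _ ⟨x, hx, rfl⟩ _ ⟨y, hy, rfl⟩
      exact congrArg Subtype.val (hc x hx y hy)) (hchar R hR).1 ⟨x, hx, rfl⟩
  have hcenfix : ∀ x ∈ Z, ∀ a ∈ A, a * (x : G) = x * a :=
    hfixR Z inferInstance fun x _ y hy => Subgroup.mem_center_iff.mp hy x
  -- the generators
  have hgen : ∀ S : Subgroup P, (∀ (a : A) (x : P), x⁻¹ * act a x ∈ S) → ∀ g : P, g ∈ S := by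
    intro S hS g
    have hle : ⁅P, A⁆ ≤ S.map P.subtype := by
      rw [Subgroup.commutator_le]
      intro x hx a ha
      refine ⟨_, hS ⟨a, ha⟩ ⟨x⁻¹, inv_mem hx⟩, ?_⟩
      simp only [act, commutatorElement_def, Subgroup.coe_subtype, Subgroup.coe_mul, InvMemClass.coe_inv]
      group
    rw [hPA] at hle
    obtain ⟨s, hs, hsg⟩ := hle g.2
    exact (show s = g from Subtype.ext hsg) ▸ hs
  -- powers of generators
  have hgpow : ∀ (k : ℕ) (a : A) (x : P), (act a (x ^ k)) = x ^ k →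
      ∃ y : P, (x⁻¹ * act a x) ^ k = ⁅y, x⁆ ^ k.choose 2 := by
    intro k a x hfix
    refine ⟨(act a x)⁻¹, ?_⟩
    have hxy : act a x * x⁻¹ = x⁻¹ * act a x * ⁅(act a x)⁻¹, x⁆ := by
      rw [commutatorElement_def]; group
    rw [Coprime.OmegaDetect.mul_pow_central hxy (Subgroup.mem_center_iff.mp (hcen _ _) _).symm
      (Subgroup.mem_center_iff.mp (hcen _ _) _).symm]
    have : act a x ^ k = x ^ k := by
      rw [← hfix]
      exact Subtype.ext (by
        rw [SubgroupClass.coe_pow]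
        change ((a : G) * x * (a : G)⁻¹) ^ k = (a : G) * ((x ^ k : P) : G) * (a : G)⁻¹
        rw [conj_pow, SubgroupClass.coe_pow])
    rw [this, inv_pow, inv_mul_cancel, one_mul]
  -- exponent two of the derived group
  have hdesc : ∀ s : ℕ, 1 ≤ s → (∀ x y : P, ⁅x, y⁆ ^ 2 ^ (s + 1) = 1) →
      ∀ x y : P, ⁅x, y⁆ ^ 2 ^ s = 1 := by
    intro s hs h
    set k := 2 ^ s with hk
    let R : Subgroup P := Subgroup.closure (Set.range (fun x : P => x ^ k) ∪ (Z : Set P))
    have hRchar : R.Characteristic := Subgroup.characteristic_iff_map_le.mpr fun φ => by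
      rw [MonoidHom.map_closure, Subgroup.closure_le]
      rintro _ ⟨x, hx | hx, rfl⟩
      · obtain ⟨y, rfl⟩ := hx
        exact Subgroup.subset_closure (Or.inl ⟨φ y, (map_pow φ y k).symm⟩)
      · exact Subgroup.subset_closure (Or.inr
          (Subgroup.characteristic_iff_map_le.mp (inferInstance : Z.Characteristic) φ ⟨x, hx, rfl⟩))
    have hRc : ∀ x ∈ R, ∀ y ∈ R, x * y = y * x := by
      have : R ≤ Subgroup.centralizer (R : Set P) := by
        rw [Subgroup.centralizer_closure, Subgroup.closure_le]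
        rintro x hx y hy
        rcases hx with ⟨x', rfl⟩ | hx
        · rcases hy with ⟨y', rfl⟩ | hy
          · rw [← commutatorElement_eq_one_iff_mul_comm, hpl, hpr, ← pow_mul]
            obtain ⟨j, hj⟩ : 2 ^ (s + 1) ∣ k * k := by
              rw [hk, ← pow_add]; exact pow_dvd_pow 2 (by omega)
            rw [hj, pow_mul, h, one_pow]
          · exact (Subgroup.mem_center_iff.mp hy _).symm
        · exact Subgroup.mem_center_iff.mp hx y
      exact fun x hx y hy => (this hx y hy).symm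
    let S : Subgroup P :=
      { carrier := {g : P | ∀ y : P, ⁅g, y⁆ ^ k = 1}
        one_mem' := fun y => by simp
        mul_mem' := fun {a b} ha hb y => by
          rw [hml, (show Commute ⁅a, y⁆ ⁅b, y⁆ from
            (Subgroup.mem_center_iff.mp (hcen a y) _).symm).mul_pow, ha y, hb y, one_mul]
        inv_mem' := fun {a} ha y => by
          have e : ⁅a⁻¹, y⁆ = ⁅a, y⁆⁻¹ := by
            rw [← mul_eq_one_iff_eq_inv, ← hml, inv_mul_cancel, commutatorElement_one_left]
          rw [e, inv_pow, ha y, inv_one] }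
    intro g y
    refine (hgen S fun a x y => ?_) g y
    have hxk : act a (x ^ k) = x ^ k := Subtype.ext (commute_conj
      (hfixR R hRchar hRc _ (Subgroup.subset_closure (Or.inl ⟨x, rfl⟩)) a a.2))
    obtain ⟨z, hz⟩ := hgpow k a x hxk
    rw [← hpl, hz, ← commutatorElement_inv, GenA.BaerTrick.comm_central (pow_mem (hcen z x) _), inv_one]
  have hsq : ∀ x y : P, ⁅x, y⁆ ^ 2 = 1 := by
    obtain ⟨n, hn⟩ := IsPGroup.iff_card.mp hP2
    suffices ∀ j : ℕ, ∀ x y : P, ⁅x, y⁆ ^ 2 ^ (n - j + 1) = 1 by simpa using this n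
    intro j
    induction j with
    | zero =>
      intro x y
      rw [Nat.sub_zero, pow_succ, pow_mul, ← hn, pow_card_eq_one', one_pow]
    | succ j ih =>
      rcases Nat.eq_zero_or_pos (n - j) with h | h
      · rwa [show n - (j + 1) + 1 = n - j + 1 by omega]
      · rw [show n - (j + 1) + 1 = n - j by omega]
        exact hdesc (n - j) h ih
  have huu := hu.inv
  -- commutators lie in `⟨u⟩`
  have hcomm : ∀ x y : P, ((⁅x, y⁆ : P) : G) ∈ Subgroup.zpowers u := by
    intro x y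
    by_cases h1 : ((⁅x, y⁆ : P) : G) = 1
    · rw [h1]; exact one_mem _
    rw [mem_zpowers_inv huu]
    refine Or.inr (unique_inv K hu ?_ h1 (hPu _ (⁅x, y⁆ : P).2) (hcenfix _ (hcen x y)))
    rw [← Subgroup.coe_mul, ← sq, hsq, Subgroup.coe_one]
  -- squares lie in `⟨u⟩`
  let S : Subgroup P :=
    { carrier := {g | ((g : P) : G) * g ∈ Subgroup.zpowers u}
      one_mem' := by simp
      mul_mem' := fun {a b} ha hb => by
        change ((a * b : P) : G) * (a * b : P) ∈ Subgroup.zpowers u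
        have e : a * b * (a * b) = a * a * ⁅a⁻¹, b⁆ * (b * b) := by
          rw [commutatorElement_def]; group
        rw [← Subgroup.coe_mul, e, Subgroup.coe_mul, Subgroup.coe_mul, Subgroup.coe_mul, Subgroup.coe_mul]
        exact mul_mem (mul_mem ha (hcomm _ _)) hb
      inv_mem' := fun {a} ha => by
        change ((a⁻¹ : P) : G) * (a⁻¹ : P) ∈ Subgroup.zpowers u
        rw [Subgroup.coe_inv, ← mul_inv_rev]; exact inv_mem ha }
  have hx2 : ∀ x : P, x * x ∈ Z := fun x => Subgroup.mem_center_iff.mpr fun y =>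
    (commutatorElement_eq_one_iff_mul_comm.mp (by rw [← sq, hpr, hsq])).symm.symm
  have hS : ∀ g : P, g ∈ S := hgen S fun a x => by
    obtain ⟨z, hz⟩ := hgpow 2 a x (Subtype.ext (commute_conj (hcenfix _ (sq x ▸ hx2 x) a a.2)))
    change ((x⁻¹ * act a x : P) : G) * (x⁻¹ * act a x : P) ∈ Subgroup.zpowers u
    rw [← Subgroup.coe_mul, ← sq, hz, show Nat.choose 2 2 = 1 from rfl, pow_one]
    exact hcomm _ _
  have hfixed : ∀ x ∈ P, (∀ a ∈ A, a * x = x * a) → x ∈ Subgroup.zpowers u := by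
    intro x hx hxa
    let π : P →* Abelianization P := Abelianization.of
    have : Fintype A := Fintype.ofFinite _
    let φ : A → (P →* P) := fun a => MonoidHom.mk' (act a) fun x y => Subtype.ext (by simp [act, mul_assoc])
    let ψ : P →* Abelianization P := ∏ a : A, π.comp (φ a)
    have hψ : ∀ y, ψ y = ∏ a : A, π (act a y) := fun y => by
      simp only [ψ, MonoidHom.finsetProd_apply]; rfl
    have hker : ∀ y : P, y ∈ ψ.ker := hgen ψ.ker fun b y => by
      rw [MonoidHom.mem_ker, map_mul, map_inv, inv_mul_eq_one, hψ, hψ]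
      exact (Fintype.prod_equiv (Equiv.mulRight b) _ _ fun a => congrArg π
        (Subtype.ext (by simp [act, mul_assoc]))).symm
    have h1 : π ⟨x, hx⟩ ^ Nat.card A = 1 := by
      rw [← MonoidHom.mem_ker.mp (hker ⟨x, hx⟩), hψ]
      rw [Finset.prod_congr rfl fun a _ => congrArg π
        (Subtype.ext (commute_conj (hxa a a.2)) : act a ⟨x, hx⟩ = ⟨x, hx⟩)]
      simp [Nat.card_eq_fintype_card]
    have h2 : orderOf (π ⟨x, hx⟩) ∣ Nat.card P :=
      (orderOf_map_dvd π _).trans (orderOf_dvd_natCard _)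
    have h3 : π ⟨x, hx⟩ = 1 := orderOf_eq_one_iff.mp (Nat.eq_one_of_dvd_coprimes
      (hcop.coprime_dvd_right (Subgroup.card_dvd_of_le hPQ)) (orderOf_dvd_of_pow_eq_one h1) h2)
    have h4 : (⟨x, hx⟩ : P) ∈ commutator P := by
      rw [← Abelianization.ker_of]; exact h3
    have hle : commutator P ≤ (Subgroup.zpowers u).comap P.subtype :=
      Subgroup.commutator_le.mpr fun a _ b _ => hcomm a b
    exact hle h4
  exact ⟨hAP, hP2, hPu, fun x hx y hy => hcomm ⟨x, hx⟩ ⟨y, hy⟩, fun x hx => hS ⟨x, hx⟩, hfixed,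
    fun x hx hy => hfixed x hx (hcenfix ⟨x, hx⟩
      (Subgroup.mem_center_iff.mpr fun y => Subtype.ext (hy y y.2).symm))⟩

end Cfsg.Agent.KlingerMason
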