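import Cfsg.Agent.Lib.KlingerMason.Three
import Cfsg.Agent.Lib.PGroups.UniqueSubgroup

/-!
The second maximal pair `(w, C V)` of the Klinger–Mason argument and the hyperplanes attached to it.
-/

set_option autoImplicit false

namespace Cfsg.Agent.KlingerMason

open scoped commutatorElement

variable {G : Type*} [Group G] {m : ℕ} {u w : G} {A Q P C D V : Subgroup G}

/-- The second pair, normalized by the involution `u`. -/
structure Sec (m : ℕ) (u w : G) (C D V Q P : Subgroup G) : Prop where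
  data : Data 3 m w (C ⊔ V) Q P
  uinv : u * u = 1
  uw : u * w = w * u
  uC : ∀ c ∈ C, c * u = u * c
  cd : CD 3 C D
  VD : V ≤ D
  eaV : EA 3 V
  cardV : Nat.card V = 9
  cardC : Nat.card C * 9 = 3 ^ m
  neg : ∀ v ∈ V, Ng u v

/-- Conjugation of subgroups. -/
def cj (u : G) (B : Subgroup G) : Subgroup G := B.map (MulAut.conj u).toMonoidHom

theorem mem_cj {x : G} (hu : u * u = 1) {B : Subgroup G} : x ∈ cj u B ↔ u * x * u⁻¹ ∈ B := by
  constructor
  · rintro ⟨y, hy, rfl⟩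
    simpa [inv_conj hu] using hy
  · intro h
    exact ⟨_, h, by simpa using inv_conj hu x⟩

theorem cj_cj (hu : u * u = 1) (B : Subgroup G) : cj u (cj u B) = B := by
  ext x
  rw [mem_cj hu, mem_cj hu, inv_conj hu]

theorem card_cj (u : G) (B : Subgroup G) : Nat.card ↥(cj u B) = Nat.card B :=
  Subgroup.card_map_of_injective (MulAut.conj u).injective

theorem Sec.decomp [Finite G] (K : Ctx G 3 m) (h : Sec m u w C D V Q P) {x : G} (hx : x ∈ Q) :
    ∃ c ∈ Q ⊓ Subgroup.centralizer ((C ⊔ V : Subgroup G) : Set G), ∃ g ∈ P, x = c * g := by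
  have := Fact.mk K.prime
  have hcop : (Nat.card ↥(C ⊔ V)).Coprime (Nat.card Q) := by
    rw [h.data.pr.card]
    exact ((two_group_coprime K.ne_two h.data.Qtwo).pow_right m).symm
  rw [h.data.P_eq]
  exact Coprime.exists_eq_centralizer_mul_commutator h.data.AQ hcop
    (Or.inl (Coprime.isSolvable_of_isPGroup h.data.pr.ea.isPGroup)) hx

theorem Sec.cent_V [Finite G] (K : Ctx G 3 m) (h : Sec m u w C D V Q P) {x v : G} (hx : x ∈ Q)
    (hxC : x ∈ Subgroup.centralizer (C : Set G)) (hv : v ∈ V) : x * v = v * x := by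
  have := Fact.mk K.prime
  have hn := Subgroup.le_normalizer_iff.mp h.data.AQ v (Subgroup.mem_sup_right hv) x⁻¹ (inv_mem hx)
  have h1 : x * v * x⁻¹ * v⁻¹ ∈ Q := by
    rw [show x * v * x⁻¹ * v⁻¹ = x * (v * x⁻¹ * v⁻¹) by group]
    exact mul_mem hx hn
  have h2 : x * v * x⁻¹ * v⁻¹ ∈ D := mul_mem (h.cd.norm x hxC v (h.VD hv)) (inv_mem (h.VD hv))
  exact (commute_of_conj (mul_inv_eq_one.mp (inf_eq_bot_of_two K.ne_two h.data.Qtwo h.cd.dp h1 h2))).eq

theorem Sec.not_le [Finite G] (K : Ctx G 3 m) (h : Sec m u w C D V Q P) {B : Subgroup G}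
    (hB : Lam 3 w (C ⊔ V) P B) : ¬ C ≤ B := by
  intro hle
  obtain ⟨-, x, hx, hxB, hxw⟩ := hB
  refine hxw (h.data.small.fixed x hx ?_)
  have hxC : x ∈ Subgroup.centralizer (C : Set G) := fun c hc => hxB c (hle hc)
  have hle2 : C ⊔ V ≤ Subgroup.centralizer {x} := sup_le
    (fun c hc => Subgroup.mem_centralizer_singleton_iff.mpr (hxC c hc))
    fun v hv => Subgroup.mem_centralizer_singleton_iff.mpr (h.cent_V K (h.data.PQ hx) hxC hv).symm
  exact fun a ha => Subgroup.mem_centralizer_singleton_iff.mp (hle2 ha)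

theorem Sec.decompA [Finite G] (K : Ctx G 3 m) (h : Sec m u w C D V Q P) {b : G} (hb : b ∈ C ⊔ V) :
    ∃ c ∈ C, ∃ v ∈ V, b = c * v := by
  have h2 : b ∈ (↑(C ⊔ V) : Set G) := hb
  rw [Subgroup.coe_mul_of_right_le_normalizer_left C V
    (le_normalizer_of_le_centralizer (h.VD.trans h.cd.cen))] at h2
  obtain ⟨c, hc, v, hv, rfl⟩ := h2
  exact ⟨c, hc, v, hv, rfl⟩

theorem Sec.conjA [Finite G] (K : Ctx G 3 m) (h : Sec m u w C D V Q P) {b : G} (hb : b ∈ C ⊔ V) :
    u * b * u⁻¹ ∈ C ⊔ V := by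
  obtain ⟨c, hc, v, hv, rfl⟩ := h.decompA K hb
  rw [show u * (c * v) * u⁻¹ = (u * c * u⁻¹) * (u * v * u⁻¹) by group,
    commute_conj (show Commute u c from (h.uC c hc).symm), h.neg v hv]
  exact mul_mem (Subgroup.mem_sup_left hc) (Subgroup.mem_sup_right (inv_mem hv))

theorem Sec.conjP [Finite G] (K : Ctx G 3 m) (h : Sec m u w C D V Q P) {x : G} (hx : x ∈ P) :
    u * x * u⁻¹ ∈ P := by
  have hle : P.map (MulAut.conj u).toMonoidHom ≤ P := by
    rw [h.data.P_eq, Subgroup.map_commutator]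
    refine Subgroup.commutator_mono ?_ ?_
    · rintro _ ⟨q, hq, rfl⟩
      exact (Subgroup.mem_normalizer_iff.mp (h.data.Qnorm u h.uw) q).mp hq
    · rintro _ ⟨b, hb, rfl⟩
      exact h.conjA K hb
  exact hle ⟨x, hx, rfl⟩

theorem Sec.lam_cj [Finite G] (K : Ctx G 3 m) (h : Sec m u w C D V Q P) {B : Subgroup G}
    (hB : Lam 3 w (C ⊔ V) P B) : Lam 3 w (C ⊔ V) P (cj u B) := by
  obtain ⟨⟨hle, hc⟩, x, hx, hxB, hxw⟩ := hB
  refine ⟨⟨?_, by rw [card_cj]; exact hc⟩, u * x * u⁻¹, h.conjP K hx, ?_, fun hm => hxw ?_⟩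
  · rintro _ ⟨b, hb, rfl⟩
    exact h.conjA K (hle hb)
  · rintro _ ⟨b, hb, rfl⟩
    change u * b * u⁻¹ * (u * x * u⁻¹) = u * x * u⁻¹ * (u * b * u⁻¹)
    calc u * b * u⁻¹ * (u * x * u⁻¹) = u * (b * x) * u⁻¹ := by group
      _ = u * (x * b) * u⁻¹ := by rw [hxB b hb]
      _ = _ := by group
  · rcases (mem_zpowers_inv h.data.pr.inv).mp hm with e | e
    · rw [conj_eq_one_iff.mp e]; exact one_mem _
    · rw [← inv_conj h.uinv x, e, commute_conj h.uw]; exact Subgroup.mem_zpowers w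

/-- A member is fixed by `u` exactly when it contains `V`. -/
theorem Sec.cj_eq_iff [Finite G] (K : Ctx G 3 m) (h : Sec m u w C D V Q P) {B : Subgroup G}
    (hB : Lam 3 w (C ⊔ V) P B) : cj u B = B ↔ V ≤ B := by
  have := Fact.mk K.prime
  constructor
  · intro he
    have hsplit : ∀ b ∈ B, ∃ c ∈ C ⊓ B, ∃ v ∈ V ⊓ B, b = c * v := by
      intro b hb
      obtain ⟨c, hc, v, hv, rfl⟩ := h.decompA K (hB.1.1 hb)
      have hb' : u * (c * v) * u⁻¹ ∈ B := by
        rw [← mem_cj h.uinv, he]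
        exact hb
      have e : u * (c * v) * u⁻¹ = c * v⁻¹ := by
        rw [show u * (c * v) * u⁻¹ = (u * c * u⁻¹) * (u * v * u⁻¹) by group,
          commute_conj (show Commute u c from (h.uC c hc).symm), h.neg v hv]
      rw [e] at hb'
      have hcv : c * v = v * c :=
        h.data.pr.ea.comm c (Subgroup.mem_sup_left hc) v (Subgroup.mem_sup_right hv)
      have hvv : v * v ∈ B := by
        have hx := mul_mem (inv_mem hb') hb
        rwa [show (c * v⁻¹)⁻¹ * (c * v) = v * v by group] at hx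
      have hv' : v ∈ B := h.cd.dp.mem_of_sq K.odd (h.VD hv) hvv
      have hc' : c ∈ B := by
        have hx := mul_mem hb (inv_mem hv')
        rwa [mul_inv_cancel_right] at hx
      exact ⟨c, ⟨hc, hc'⟩, v, ⟨hv, hv'⟩, rfl⟩
    have hcard : Nat.card B ≤ Nat.card ↥(C ⊓ B) * Nat.card ↥(V ⊓ B) := by
      rw [← Nat.card_prod]
      choose c hc v hv e using hsplit
      refine Nat.card_le_card_of_injective (fun b => (⟨c b b.2, hc b b.2⟩, ⟨v b b.2, hv b b.2⟩))
        fun a b e' => ?_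
      obtain ⟨e1, e2⟩ := Prod.mk.inj e'
      exact Subtype.ext ((e a a.2).trans (by rw [Subtype.mk.inj e1, Subtype.mk.inj e2]; exact (e b b.2).symm))
    by_contra hV
    have h1 := card_inf_hyp h.data.pr.ea hB.1 le_sup_left (h.not_le K hB)
    have h2 := card_inf_hyp h.data.pr.ea hB.1 le_sup_right hV
    have h3 := hB.1.2
    rw [h.data.pr.card, ← h.cardC] at h3
    rw [h.cardV] at h2
    have hpos : 0 < Nat.card ↥(C ⊓ B) := Nat.card_pos
    have h4 : Nat.card ↥(V ⊓ B) = 3 := by omega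
    rw [h4] at hcard
    omega
  · intro hle
    refine Subgroup.eq_of_le_of_card_ge ?_ (ge_of_eq (card_cj u B))
    rintro _ ⟨b, hb, rfl⟩
    obtain ⟨c, hc, v, hv, rfl⟩ := h.decompA K (hB.1.1 hb)
    change u * (c * v) * u⁻¹ ∈ B
    rw [show u * (c * v) * u⁻¹ = (u * c * u⁻¹) * (u * v * u⁻¹) by group,
      commute_conj (show Commute u c from (h.uC c hc).symm), h.neg v hv]
    have hc' := mul_mem hb (inv_mem (hle hv))
    rw [mul_inv_cancel_right] at hc'
    exact mul_mem hc' (inv_mem (hle hv))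

theorem card_inf_pos [Finite G] [Fact (Nat.Prime 3)] {A B D : Subgroup G} (hA : EA 3 A) (hB : Hyp 3 A B)
    (hD : D ≤ A) (h : 3 < Nat.card D) : ∃ x, x ≠ 1 ∧ x ∈ D ∧ x ∈ B := by
  have := hB.card_le_inf_mul hD
  have hne : D ⊓ B ≠ ⊥ := fun e => by rw [e, Subgroup.card_bot] at this; omega
  obtain ⟨x, hx, hx1⟩ := (Subgroup.bot_or_exists_ne_one _).resolve_left hne
  exact ⟨x, hx1, hx.1, hx.2⟩

theorem Sec.exists_generators [Finite G] (K : Ctx G 3 m) (h : Sec m u w C D V Q P) :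
    ∃ v₁ ∈ V, ∃ v₂ ∈ V, v₁ ≠ 1 ∧ ∀ S : Subgroup G, v₁ ∈ S → v₂ ∈ S → V ≤ S := by
  have := Fact.mk K.prime
  have hne : V ≠ ⊥ := fun e => by
    have := h.cardV
    rw [e, Subgroup.card_bot] at this
    omega
  obtain ⟨v₁, hv₁, hv₁1⟩ := (Subgroup.bot_or_exists_ne_one _).resolve_left hne
  obtain ⟨v₂, hv₂, hn⟩ : ∃ v ∈ V, v ∉ Subgroup.zpowers v₁ := by
    by_contra! hle
    have h1 := Subgroup.card_le_of_le (show V ≤ Subgroup.zpowers v₁ from hle)
    rw [h.cardV, Nat.card_zpowers, orderOf_eq_prime (h.eaV.pow v₁ hv₁) hv₁1] at h1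
    omega
  refine ⟨v₁, hv₁, v₂, hv₂, hv₁1, fun S h1 h2 => ?_⟩
  have hsup : Subgroup.zpowers v₁ ⊔ Subgroup.zpowers v₂ = V := by
    refine Subgroup.eq_of_le_of_card_ge (sup_le (Subgroup.zpowers_le.mpr hv₁) (Subgroup.zpowers_le.mpr hv₂))
      (le_of_eq ?_)
    rw [((EA.zpowers (h.eaV.pow v₁ hv₁)).sup_zpowers (h.eaV.pow v₂ hv₂)
      (fun e he => h.eaV.comm e (Subgroup.zpowers_le.mpr hv₁ he) v₂ hv₂) hn).2, h.cardV,
      Nat.card_zpowers, orderOf_eq_prime (h.eaV.pow v₁ hv₁) hv₁1]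
  rw [← hsup]
  exact sup_le (Subgroup.zpowers_le.mpr h1) (Subgroup.zpowers_le.mpr h2)

theorem Sec.exists_moved [Finite G] (K : Ctx G 3 m) (h : Sec m u w C D V Q P) :
    ∃ B, Lam 3 w (C ⊔ V) P B ∧ ¬ V ≤ B := by
  have := Fact.mk K.prime
  refine h.data.exists_not_le K le_sup_right fun e => ?_
  have := h.cardV
  rw [e, Subgroup.card_bot] at this
  omega

theorem Sec.unique_fixed [Finite G] (K : Ctx G 3 m) (hm : m ≤ 4) (h : Sec m u w C D V Q P)
    {B B' : Subgroup G} (hB : Lam 3 w (C ⊔ V) P B) (hB' : Lam 3 w (C ⊔ V) P B') (hV : V ≤ B)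
    (hV' : V ≤ B') : B = B' := by
  have := Fact.mk K.prime
  by_contra hne
  obtain ⟨B'', hB'', hn⟩ := h.exists_moved K
  have hm' : cj u B'' ≠ B'' := fun e => hn ((h.cj_eq_iff K hB'').mp e)
  have n1 : B ≠ B'' := fun e => hn (e ▸ hV)
  have n2 : B' ≠ B'' := fun e => hn (e ▸ hV')
  have n3 : B ≠ cj u B'' := fun e => by
    refine n1 ?_
    rw [← cj_cj h.uinv B'', ← e, (h.cj_eq_iff K hB).mpr hV]
  have n4 : B' ≠ cj u B'' := fun e => by
    refine n2 ?_
    rw [← cj_cj h.uinv B'', ← e, (h.cj_eq_iff K hB').mpr hV']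
  obtain ⟨s, hs1, hsV, hsB⟩ := card_inf_pos h.data.pr.ea hB''.1 (le_sup_right : V ≤ C ⊔ V)
    (by rw [h.cardV]; norm_num)
  refine h.data.four K hB hB' hB'' (h.lam_cj K hB'') hne n1 n3 n2 n4 hm'.symm hs1 (hV hsV) (hV' hsV) hsB ?_
  rw [mem_cj h.uinv, h.neg s hsV]
  exact inv_mem hsB

/-- An element of `C` outside every member of `Λ`. -/
theorem Sec.exists_generic [Finite G] (K : Ctx G 3 m) (hm : m ≤ 4) (h : Sec m u w C D V Q P) :
    ∃ a ∈ C, a ≠ 1 ∧ ∀ B, Lam 3 w (C ⊔ V) P B → a ∉ B := by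
  have := Fact.mk K.prime
  have h3 := K.three_le
  have hA := h.data.pr.ea
  rcases eq_or_lt_of_le h3 with hm3 | hm4
  · have hC : Nat.card C = 3 := by
      have := h.cardC
      rw [← hm3] at this
      omega
    have hne : C ≠ ⊥ := fun e => by rw [e, Subgroup.card_bot] at hC; omega
    obtain ⟨a, ha, ha1⟩ := (Subgroup.bot_or_exists_ne_one _).resolve_left hne
    refine ⟨a, ha, ha1, fun B hB haB => h.not_le K hB ?_⟩
    have : Subgroup.zpowers a = C := by
      refine Subgroup.eq_of_le_of_card_ge (Subgroup.zpowers_le.mpr ha) (le_of_eq ?_)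
      rw [hC, Nat.card_zpowers, orderOf_eq_prime (hA.pow a (Subgroup.mem_sup_left ha)) ha1]
    rw [← this, Subgroup.zpowers_le]
    exact haB
  have hm4' : m = 4 := by omega
  subst hm4'
  have hC : Nat.card C = 9 := by have := h.cardC; omega
  obtain ⟨B, hB, hn⟩ := h.exists_moved K
  set B' := cj u B with hB'def
  have hB' := h.lam_cj K hB
  have hBB' : B ≠ B' := fun e => hn ((h.cj_eq_iff K hB).mp e.symm)
  have hcardB : Nat.card B = 27 := by
    have := hB.1.2
    rw [h.data.pr.card] at this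
    omega
  obtain ⟨c, hc1, hcC, hcB⟩ := card_inf_pos hA hB.1 (le_sup_left : C ≤ C ⊔ V) (by omega)
  obtain ⟨s, hs1, hsV, hsB⟩ := card_inf_pos hA hB.1 (le_sup_right : V ≤ C ⊔ V) (by rw [h.cardV]; norm_num)
  obtain ⟨d, hdC, hdB⟩ := SetLike.not_le_iff_exists.mp (h.not_le K hB)
  have hfix : ∀ x ∈ C, (x ∈ B' ↔ x ∈ B) := fun x hx => by
    rw [hB'def, mem_cj h.uinv, commute_conj (show Commute u x from (h.uC x hx).symm)]
  have hcA : c ∈ C ⊔ V := Subgroup.mem_sup_left hcC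
  have hsA : s ∈ C ⊔ V := Subgroup.mem_sup_right hsV
  have hc3 : c ^ 3 = 1 := hA.pow c hcA
  have hs3 : s ^ 3 = 1 := hA.pow s hsA
  have hsc : s ∉ Subgroup.zpowers c := fun hm => hs1 (h.cd.dp.not_both K.odd (h.VD hsV)
    (commute_conj ((show Commute u s from by
      obtain ⟨k, hk⟩ := Subgroup.mem_zpowers_iff.mp hm
      exact hk ▸ (show Commute u c from (h.uC c hcC).symm).zpow_right k))) (h.neg s hsV))
  by_contra! hall
  set e : Fin 3 → G := fun t => d * c ^ (t : ℕ) with he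
  have heC : ∀ t, e t ∈ C := fun t => mul_mem hdC (pow_mem hcC _)
  have heB : ∀ t, e t ∉ B := fun t hm => hdB (by simpa [e] using mul_mem hm (inv_mem (pow_mem hcB (t : ℕ))))
  have he1 : ∀ t, e t ≠ 1 := fun t h1 => heB t (h1 ▸ one_mem _)
  choose Bt hBt heBt using fun t => hall (e t) (heC t) (he1 t)
  have hnc : ∀ t, c ∉ Bt t := fun t hm => h.not_le K (hBt t) (fun x hx => by
    have hE := ((EA.zpowers hc3).sup_zpowers (hA.pow _ (Subgroup.mem_sup_left (heC t)))
      (fun y hy => hA.comm y (Subgroup.mem_sup_left (Subgroup.zpowers_le.mpr hcC hy)) _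
        (Subgroup.mem_sup_left (heC t)))
      (fun hm' => heB t (Subgroup.zpowers_le.mpr hcB hm'))).2
    rw [Nat.card_zpowers, orderOf_eq_prime hc3 hc1] at hE
    have heq : Subgroup.zpowers c ⊔ Subgroup.zpowers (e t) = C :=
      Subgroup.eq_of_le_of_card_ge (sup_le (Subgroup.zpowers_le.mpr hcC) (Subgroup.zpowers_le.mpr (heC t)))
        (by omega)
    rw [← heq] at hx
    exact sup_le (Subgroup.zpowers_le.mpr hm) (Subgroup.zpowers_le.mpr (heBt t)) hx)
  have hdiffB : ∀ t, B ≠ Bt t := fun t h' => heB t (h' ▸ heBt t)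
  have hdiffB' : ∀ t, B' ≠ Bt t := fun t h' => heB t ((hfix _ (heC t)).mp (h' ▸ heBt t))
  have hsame : ∀ t t', e t' ∈ Bt t → t = t' := by
    intro t t' hm
    by_contra hne
    refine hnc t ?_
    have h1 : (c ^ (t : ℕ))⁻¹ * c ^ (t' : ℕ) ∈ Bt t := by
      have hx := mul_mem (inv_mem (heBt t)) hm
      have : (e t)⁻¹ * e t' = (c ^ (t : ℕ))⁻¹ * c ^ (t' : ℕ) := by simp only [e]; group
      rwa [this] at hx
    have hsq : c * c ∈ Bt t → c ∈ Bt t := fun hm => by
      have hx := mul_mem hm hm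
      rwa [show c * c * (c * c) = c ^ 3 * c by simp only [pow_succ, pow_zero, one_mul, mul_assoc],
        hc3, one_mul] at hx
    have h2 := inv_mem h1
    fin_cases t <;> fin_cases t' <;>
      simp only [Fin.val_zero, Fin.val_one, Fin.val_two, pow_zero, pow_one, inv_one, one_mul,
        mul_inv_rev, inv_inv, mul_one, sq, ne_eq, not_true_eq_false, reduceCtorEq] at h1 h2 hne <;>
      first
        | exact h1
        | exact h2
        | exact hsq h1
        | exact hsq h2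
        | exact absurd rfl hne
        | simpa [mul_assoc] using h1
        | simpa [mul_assoc] using h2
  set L := B ⊓ B' with hL
  have hcL : c ∈ L := ⟨hcB, (hfix c hcC).mpr hcB⟩
  have hsL : s ∈ L := ⟨hsB, (mem_cj h.uinv).mpr (by rw [h.neg s hsV]; exact inv_mem hsB)⟩
  have hcardL : Nat.card L = 9 := by
    have hnle : ¬ B ≤ B' := fun hle => hBB'
      (Subgroup.eq_of_le_of_card_ge hle (le_of_eq (card_cj u B)))
    have := card_inf_hyp hA hB'.1 hB.1.1 hnle
    rw [hcardB] at this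
    have h2 : Nat.card L * 3 = 27 := this
    omega
  have hLgen : L = Subgroup.zpowers c ⊔ Subgroup.zpowers s := by
    refine (Subgroup.eq_of_le_of_card_ge (sup_le (Subgroup.zpowers_le.mpr hcL)
      (Subgroup.zpowers_le.mpr hsL)) (le_of_eq ?_)).symm
    rw [((EA.zpowers hc3).sup_zpowers hs3
      (fun y hy => hA.comm y (Subgroup.zpowers_le.mpr hcA hy) s hsA) hsc).2,
      Nat.card_zpowers, orderOf_eq_prime hc3 hc1, hcardL]
  have hpow : ∀ x : G, x ^ 3 = 1 → ∀ y ∈ Subgroup.zpowers x, y = 1 ∨ y = x ∨ y = x * x := by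
    intro x hx y hy
    obtain ⟨k, rfl⟩ := Subgroup.mem_zpowers_iff.mp hy
    rw [zpow_eq_zpow_emod k (n := 3) (by exact_mod_cast hx)]
    have h0 := Int.emod_nonneg k (show (3 : ℤ) ≠ 0 by norm_num)
    have h3 := Int.emod_lt_of_pos k (show (0 : ℤ) < 3 by norm_num)
    interval_cases (k % 3) <;> simp [zpow_two, zpow_ofNat, sq]
  have hr : ∀ t, ∃ r : Fin 3, s * c ^ (r : ℕ) ∈ Bt t := by
    intro t
    obtain ⟨k, hk1, hkL, hkB⟩ := card_inf_pos (D := L) hA (hBt t).1 (inf_le_left.trans hB.1.1) (by omega)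
    rw [hLgen] at hkL
    have h2 : k ∈ (↑(Subgroup.zpowers c ⊔ Subgroup.zpowers s) : Set G) := hkL
    rw [Subgroup.coe_mul_of_right_le_normalizer_left _ _ (le_normalizer_of_le_centralizer
      (zpowers_le_centralizer fun y hy => hA.comm y (Subgroup.zpowers_le.mpr hcA hy) s hsA))] at h2
    obtain ⟨x, hx, y, hy, rfl⟩ := h2
    dsimp only at hk1 hkB
    have hcs : Commute c s := hA.comm c hcA s hsA
    rcases hpow s hs3 y hy with rfl | rfl | rfl
    · exfalso
      rw [mul_one] at hk1 hkB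
      refine hnc t ?_
      rcases hpow c hc3 x hx with rfl | rfl | rfl
      · exact absurd rfl hk1
      · exact hkB
      · have := mul_mem hkB hkB
        rwa [show c * c * (c * c) = c ^ 3 * c by simp only [pow_succ, pow_zero, one_mul, mul_assoc],
          hc3, one_mul] at this
    · rcases hpow c hc3 x hx with rfl | rfl | rfl
      · exact ⟨0, by simpa using hkB⟩
      · exact ⟨1, by rw [Fin.val_one, pow_one, ← hcs.eq]; exact hkB⟩
      · exact ⟨2, by rw [Fin.val_two, sq, ← (hcs.mul_left hcs).eq]; exact hkB⟩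
    · have hk2 := mul_mem hkB hkB
      have hxs : Commute x (s * s) := by
        obtain ⟨k, rfl⟩ := Subgroup.mem_zpowers_iff.mp hx
        exact (hcs.mul_right hcs).zpow_left k
      have e2 : x * (s * s) * (x * (s * s)) = x * x * s := by
        rw [← sq, hxs.mul_pow, sq, sq, show s * s * (s * s) = s ^ 3 * s by
          simp only [pow_succ, pow_zero, one_mul, mul_assoc], hs3, one_mul]
      rw [e2] at hk2
      rcases hpow c hc3 x hx with rfl | rfl | rfl
      · exact ⟨0, by simpa using hk2⟩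
      · exact ⟨2, by rw [Fin.val_two, sq, ← (hcs.mul_left hcs).eq]; exact hk2⟩
      · refine ⟨1, ?_⟩
        rw [Fin.val_one, pow_one, ← hcs.eq]
        rwa [show c * c * (c * c) = c ^ 3 * c by simp only [pow_succ, pow_zero, one_mul, mul_assoc],
          hc3, one_mul] at hk2
  choose r hr using hr
  have hscB : ∀ n : ℕ, s * c ^ n ∈ B ∧ s * c ^ n ∈ B' ∧ s * c ^ n ≠ 1 := fun n =>
    ⟨mul_mem hsB (pow_mem hcB n), mul_mem hsL.2 (pow_mem hcL.2 n), fun h1 => hsc (by
      rw [eq_inv_of_mul_eq_one_left h1]; exact inv_mem (pow_mem (Subgroup.mem_zpowers c) n))⟩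
  have hinj : Function.Injective r := by
    intro t t' hrt
    by_contra hne
    obtain ⟨a1, a2, a3⟩ := hscB (r t : ℕ)
    exact h.data.four K hB hB' (hBt t) (hBt t') hBB' (hdiffB t) (hdiffB t') (hdiffB' t) (hdiffB' t')
      (fun h' => hne (hsame t t' (h' ▸ heBt t'))) a3 a1 a2 (hr t) (hrt ▸ hr t')
  obtain ⟨t, ht⟩ := (Finite.injective_iff_surjective.mp hinj) 1
  obtain ⟨t', ht'⟩ := (Finite.injective_iff_surjective.mp hinj) 2
  have htt : t ≠ t' := fun e => by rw [e, ht'] at ht; exact absurd ht (by decide)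
  have h4 : s * c ∈ cj u (Bt t') := by
    rw [mem_cj h.uinv, show u * (s * c) * u⁻¹ = (u * s * u⁻¹) * (u * c * u⁻¹) by group, h.neg s hsV,
      commute_conj (show Commute u c from (h.uC c hcC).symm)]
    have h5 := inv_mem (hr t')
    rw [ht', Fin.val_two, mul_inv_rev,
      show (c ^ 2)⁻¹ = c from inv_eq_of_mul_eq_one_right (by rw [← pow_succ, hc3])] at h5
    rwa [← ((show Commute c s from hA.comm c hcA s hsA).inv_right).eq]
  obtain ⟨a1, a2, a3⟩ := hscB 1
  have h6 := hr t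
  rw [ht, Fin.val_one, pow_one] at h6
  rw [pow_one] at a1 a2 a3
  exact h.data.four K hB hB' (hBt t) (h.lam_cj K (hBt t')) hBB' (hdiffB t)
    (fun h' => hdiffB' t' (by rw [hB'def, h', cj_cj h.uinv]))
    (hdiffB' t) (fun h' => hdiffB t' (by rw [← cj_cj h.uinv B, ← cj_cj h.uinv (Bt t'), ← h']))
    (fun h' => htt (hsame t t' (by
      rw [h', mem_cj h.uinv, commute_conj (show Commute u (e t') from (h.uC _ (heC t')).symm)]
      exact heBt t'))) a3 a1 a2 h6 h4

theorem Data.rank_le [Finite G] (K : Ctx G 3 m) (h : Data 3 m u A Q P) : m ≤ 4 := by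
  have := Fact.mk K.prime
  by_contra hm
  obtain ⟨B₁, B₂, h₁, h₂, h12, hc, hne⟩ := h.exists_two K
  have hle2 : B₁ ⊓ B₂ ≤ A := inf_le_left.trans h₁.1.1
  obtain ⟨B₃, h₃, hn3⟩ := h.exists_not_le K hle2 hne
  have hc3 := card_inf_hyp h.pr.ea h₃.1 hle2 hn3
  have hle3 : B₁ ⊓ B₂ ⊓ B₃ ≤ A := inf_le_left.trans hle2
  have hp5 : 3 ^ 5 ≤ 3 ^ m := Nat.pow_le_pow_right (by norm_num) (by omega)
  norm_num at hp5
  obtain ⟨B₄, h₄, hn4⟩ := h.exists_not_le K hle3 fun e => by
    rw [e, Subgroup.card_bot] at hc3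
    omega
  have hc4 := card_inf_hyp h.pr.ea h₄.1 hle3 hn4
  have hne4 : B₁ ⊓ B₂ ⊓ B₃ ⊓ B₄ ≠ ⊥ := fun e => by
    rw [e, Subgroup.card_bot] at hc4
    omega
  obtain ⟨c, hc', hc1⟩ := (Subgroup.bot_or_exists_ne_one _).resolve_left hne4
  exact h.four K h₁ h₂ h₃ h₄ h12 (fun e => hn3 (e ▸ inf_le_left))
    (fun e => hn4 (inf_le_left.trans (e ▸ inf_le_left))) (fun e => hn3 (e ▸ inf_le_right))
    (fun e => hn4 (inf_le_left.trans (e ▸ inf_le_right))) (fun e => hn4 (e ▸ inf_le_right))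
    hc1 hc'.1.1.1 hc'.1.1.2 hc'.1.2 hc'.2

/-- At least four members of `Λ'`. -/
theorem Sec.exists_four [Finite G] (K : Ctx G 3 m) (hm : m ≤ 4) (h : Sec m u w C D V Q P) :
    ∃ f : Fin 4 → Subgroup G, Function.Injective f ∧ ∀ k, Lam 3 w (C ⊔ V) P (f k) := by
  have := Fact.mk K.prime
  have h3 := K.three_le
  have mk4 : ∀ {B₁ B₂ B₃ B₄ : Subgroup G}, Lam 3 w (C ⊔ V) P B₁ → Lam 3 w (C ⊔ V) P B₂ →
      Lam 3 w (C ⊔ V) P B₃ → Lam 3 w (C ⊔ V) P B₄ → B₁ ≠ B₂ → B₁ ≠ B₃ → B₁ ≠ B₄ → B₂ ≠ B₃ →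
      B₂ ≠ B₄ → B₃ ≠ B₄ →
      ∃ f : Fin 4 → Subgroup G, Function.Injective f ∧ ∀ k, Lam 3 w (C ⊔ V) P (f k) := by
    intro B₁ B₂ B₃ B₄ h₁ h₂ h₃ h₄ n12 n13 n14 n23 n24 n34
    refine ⟨![B₁, B₂, B₃, B₄], ?_, ?_⟩
    · intro i j e
      fin_cases i <;> fin_cases j <;> first | rfl | (simp at e; first
        | exact absurd e n12 | exact absurd e.symm n12 | exact absurd e n13 | exact absurd e.symm n13
        | exact absurd e n14 | exact absurd e.symm n14 | exact absurd e n23 | exact absurd e.symm n23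
        | exact absurd e n24 | exact absurd e.symm n24 | exact absurd e n34 | exact absurd e.symm n34)
    · intro k; fin_cases k <;> assumption
  obtain ⟨B₁, B₂, h₁, h₂, h12, hc, hne⟩ := h.data.exists_two K
  have hle2 : B₁ ⊓ B₂ ≤ C ⊔ V := inf_le_left.trans h₁.1.1
  obtain ⟨B₃, h₃, hn3⟩ := h.data.exists_not_le K hle2 hne
  have hc3 := card_inf_hyp h.data.pr.ea h₃.1 hle2 hn3
  have n13 : B₁ ≠ B₃ := fun e => hn3 (e ▸ inf_le_left)
  have n23 : B₂ ≠ B₃ := fun e => hn3 (e ▸ inf_le_right)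
  rcases eq_or_lt_of_le h3 with hm3 | hm4
  · by_contra hno
    have hint : ∀ x, x ∈ B₁ → x ∈ B₂ → x ∈ B₃ → x = 1 := by
      intro x x1 x2 x3
      have hb : B₁ ⊓ B₂ ⊓ B₃ = ⊥ := by
        apply Subgroup.card_eq_one.mp
        rw [← hm3] at hc
        omega
      have hx : x ∈ B₁ ⊓ B₂ ⊓ B₃ := ⟨⟨x1, x2⟩, x3⟩
      rwa [hb, Subgroup.mem_bot] at hx
    have hclosed : ∀ B, Lam 3 w (C ⊔ V) P B → B = B₁ ∨ B = B₂ ∨ B = B₃ := by
      intro B hB
      by_contra! hn
      exact hno (mk4 h₁ h₂ h₃ hB h12 n13 hn.1.symm n23 hn.2.1.symm hn.2.2.symm)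
    have hfix : ∀ B, Lam 3 w (C ⊔ V) P B → cj u B = B → B = V := by
      intro B hB e
      refine (Subgroup.eq_of_le_of_card_ge ((h.cj_eq_iff K hB).mp e) (le_of_eq ?_)).symm
      have := hB.1.2
      rw [h.data.pr.card, ← hm3] at this
      rw [h.cardV]
      omega
    have hpair : ∀ Ba Bb Bc : Subgroup G, Lam 3 w (C ⊔ V) P Ba → Lam 3 w (C ⊔ V) P Bc →
        cj u Ba = Bb → cj u Bc = Bc → (∀ x, x ∈ Ba → x ∈ Bb → x ∈ Bc → x = 1) → False := by
      intro Ba Bb Bc ha hcL e1 e2 hx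
      obtain ⟨s, hs1, hsV, hsB⟩ := card_inf_pos h.data.pr.ea ha.1 (le_sup_right : V ≤ C ⊔ V)
        (by rw [h.cardV]; norm_num)
      refine hs1 (hx s hsB ?_ ((h.cj_eq_iff K hcL).mp e2 hsV))
      rw [← e1, mem_cj h.uinv, h.neg s hsV]
      exact inv_mem hsB
    have hback : ∀ {X Y : Subgroup G}, cj u X = Y → cj u Y = X := fun e => e ▸ cj_cj h.uinv _
    rcases hclosed _ (h.lam_cj K h₁) with e | e | e
    · -- `B₁` is fixed
      rcases hclosed _ (h.lam_cj K h₂) with e' | e' | e'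
      · exact h12 (e.symm.trans (hback e'))
      · exact h12 ((hfix _ h₁ e).trans (hfix _ h₂ e').symm)
      · exact hpair B₂ B₃ B₁ h₂ h₁ e' e fun x a b c => hint x c a b
    · rcases hclosed _ (h.lam_cj K h₃) with e' | e' | e'
      · exact n23 (e.symm.trans (hback e'))
      · exact n13 ((hback e).symm.trans (hback e')).symm.symm
      · exact hpair B₁ B₂ B₃ h₁ h₃ e e' hint
    · rcases hclosed _ (h.lam_cj K h₂) with e' | e' | e'
      · exact n23 (e.symm.trans (hback e')).symm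
      · exact hpair B₁ B₃ B₂ h₁ h₂ e e' fun x a b c => hint x a c b
      · exact h12 ((hback e).symm.trans (hback e')).symm.symm
  · have hle3 : B₁ ⊓ B₂ ⊓ B₃ ≤ C ⊔ V := inf_le_left.trans hle2
    obtain ⟨B₄, h₄, hn4⟩ := h.data.exists_not_le K hle3 fun e => by
      rw [e, Subgroup.card_bot] at hc3
      have hm4' : m = 4 := by omega
      rw [hm4'] at hc
      omega
    exact mk4 h₁ h₂ h₃ h₄ h12 n13 (fun e => hn4 (inf_le_left.trans (e ▸ inf_le_left))) n23
      (fun e => hn4 (inf_le_left.trans (e ▸ inf_le_right))) (fun e => hn4 (e ▸ inf_le_right))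

theorem Sec.quat_act [Finite G] (K : Ctx G 3 m) (h : Sec m u w C D V Q P) {B : Subgroup G}
    (hB : Lam 3 w (C ⊔ V) P B) {f x : G} (hf : f ∈ Q ⊓ Subgroup.centralizer ((C ⊔ V : Subgroup G) : Set G))
    (hx : x ∈ P) (hxB : x ∈ Subgroup.centralizer (B : Set G)) : f * x = x * f := by
  have := Fact.mk K.prime
  have hww := h.data.pr.inv
  obtain ⟨a, ha, haB⟩ := hB.1.exists_notMem
  obtain ⟨i, j, l, q⟩ := h.data.exists_quat K hB ha haB
  have hS := h.data.small
  have hPn : ∀ g ∈ Q, ∀ y ∈ P, g * y * g⁻¹ ∈ P := fun g hg y hy => by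
    have hn : g ∈ Subgroup.normalizer (P : Set G) :=
      h.data.P_eq ▸ Subgroup.normalizer_commutator_ge_left Q (C ⊔ V) hg
    exact (Subgroup.mem_normalizer_iff.mp hn y).mp hy
  have key : ∀ g ∈ Q ⊓ Subgroup.centralizer ((C ⊔ V : Subgroup G) : Set G), ∀ t ∈ Subgroup.zpowers w,
      g * t * g⁻¹ = t := fun g hg t ht => by
    obtain ⟨k, rfl⟩ := Subgroup.mem_zpowers_iff.mp ht
    exact commute_conj ((show Commute g w from h.data.Qu g hg.1).zpow_right k)
  have ht2 : ∀ t ∈ Subgroup.zpowers w, t * t = 1 := fun t ht => by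
    rcases (mem_zpowers_inv hww).mp ht with e | e <;> rw [e]
    · exact one_mul 1
    · exact hww
  have hcomT : ∀ t ∈ Subgroup.zpowers w, ∀ y ∈ P, Commute y t := fun t ht y hy => by
    obtain ⟨k, rfl⟩ := Subgroup.mem_zpowers_iff.mp ht
    exact (show Commute y w from hS.comm_u y hy).zpow_right k
  have hga : ∀ g ∈ Q ⊓ Subgroup.centralizer ((C ⊔ V : Subgroup G) : Set G), ∀ y : G,
      g * (a * y * a⁻¹) * g⁻¹ = a * (g * y * g⁻¹) * a⁻¹ := fun g hg y =>
    conj_comm (show g * a = a * g from (hg.2 a ha).symm) y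
  have hat : ∀ t ∈ Subgroup.zpowers w, a * t * a⁻¹ = t := fun t ht => by
    obtain ⟨k, rfl⟩ := Subgroup.mem_zpowers_iff.mp ht
    exact commute_conj ((show Commute a w from h.data.pr.comm a ha).zpow_right k)
  have hmul : ∀ y t : G, a * (y * t) * a⁻¹ = (a * y * a⁻¹) * (a * t * a⁻¹) := fun y t => by group
  have hgmul : ∀ g y t : G, g * (y * t) * g⁻¹ = (g * y * g⁻¹) * (g * t * g⁻¹) := fun g y t => by group
  have caseA : ∀ g ∈ Q ⊓ Subgroup.centralizer ((C ⊔ V : Subgroup G) : Set G),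
      g * i * g⁻¹ * i⁻¹ ∈ Subgroup.zpowers w → g * i * g⁻¹ = i ∧ g * j * g⁻¹ = j ∧ g * l * g⁻¹ = l := by
    intro g hg ht
    set t := i⁻¹ * (g * i * g⁻¹) with htdef
    have ht' : t ∈ Subgroup.zpowers w := by
      have e : t = i⁻¹ * (g * i * g⁻¹ * i⁻¹) * i⁻¹⁻¹ := by rw [htdef]; group
      rw [e, hS.conj_u (inv_mem q.iP) ht]
      exact ht
    have ei : g * i * g⁻¹ = i * t := by rw [htdef, mul_inv_cancel_left]
    have ej : g * j * g⁻¹ = j * t := by
      rw [← q.conj_i, hga g hg, ei, hmul, hat t ht']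
    have el : g * l * g⁻¹ = l * t := by
      rw [← q.conj_j, hga g hg, ej, hmul, hat t ht']
    have ht1 : t = 1 := by
      have h1 : g * (i * j * l) * g⁻¹ = 1 := by rw [q.prod, mul_one, mul_inv_cancel]
      rw [hgmul, hgmul, ei, ej, el] at h1
      have h2 : i * t * (j * t) * (l * t) = i * j * l * t := by
        calc i * t * (j * t) * (l * t) = i * (t * j) * t * l * t := by simp only [mul_assoc]
          _ = i * (j * t) * t * l * t := by rw [(hcomT t ht' j q.jP).eq]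
          _ = i * j * (t * t) * l * t := by simp only [mul_assoc]
          _ = _ := by rw [ht2 t ht', mul_one]
      rwa [h2, q.prod, one_mul] at h1
    rw [ht1, mul_one] at ei ej el
    exact ⟨ei, ej, el⟩
  obtain ⟨r, hr, hrt⟩ := q.cover _ (hPn f hf.1 i q.iP) (fun b hb => by
    have hb1 : Commute b i := q.iB b hb
    have hb2 : Commute b f := hf.2 b (hB.1.1 hb)
    exact ((hb2.mul_right hb1).mul_right hb2.inv_right).eq)
  set t := r⁻¹ * (f * i * f⁻¹) with htdef
  have hfi : f * i * f⁻¹ = r * t := by rw [htdef, mul_inv_cancel_left]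
  have hall : f * i * f⁻¹ = i ∧ f * j * f⁻¹ = j ∧ f * l * f⁻¹ = l := by
    simp only [List.mem_cons, List.not_mem_nil, or_false] at hr
    rcases hr with e | e | e | e
    · exfalso
      rw [e, one_mul] at hfi
      have hiT : i ∈ Subgroup.zpowers w := by
        have h1 : i = f⁻¹ * (f * i * f⁻¹) * f := by group
        rw [h1, hfi]
        have h2 := key f⁻¹ (inv_mem hf) t hrt
        rw [inv_inv] at h2
        rw [h2]; exact hrt
      refine h.data.pr.ne (q.comm_ij.symm.trans (commutatorElement_eq_one_iff_mul_comm.mpr ?_))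
      exact (hcomT i hiT j q.jP).eq.symm
    · refine caseA f hf ?_
      rw [hfi, e, hS.conj_u q.iP hrt]
      exact hrt
    all_goals
      have hfj : f * j * f⁻¹ = (a * r * a⁻¹) * t := by
        rw [← q.conj_i, hga f hf, hfi, hmul, hat t hrt]
      have hfl : f * l * f⁻¹ = (a * (a * r * a⁻¹) * a⁻¹) * t := by
        rw [← q.conj_j, hga f hf, hfj, hmul, hat t hrt]
      rw [e] at hfi hfj hfl
      simp only [q.conj_i, q.conj_j, q.conj_l] at hfj hfl
      -- the third power of `f` fixes `i` modulo `⟨w⟩`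
      have h3 : f ^ 3 * i * (f ^ 3)⁻¹ * i⁻¹ ∈ Subgroup.zpowers w := by
        have e3 : f ^ 3 * i * (f ^ 3)⁻¹ = f * (f * (f * i * f⁻¹) * f⁻¹) * f⁻¹ := by
          rw [show f ^ 3 = f * f * f by simp only [pow_succ, pow_zero, one_mul]]; group
        have ht1 := key f hf t hrt
        have e4 : f * (f * (f * i * f⁻¹) * f⁻¹) * f⁻¹ = i * t := by
          simp only [hfi, hgmul, hfj, hfl, ht1, mul_assoc, ht2 t hrt, mul_one]
        rw [e3, e4, hS.conj_u q.iP hrt]
        exact hrt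
      obtain ⟨c1, -, -⟩ := caseA (f ^ 3) (pow_mem hf 3) h3
      have hord : (orderOf f).Coprime 3 := two_elt_coprime K.ne_two h.data.Qtwo hf.1
      obtain ⟨k, hk⟩ := exists_pow_eq_self_of_coprime hord.symm
      have hfi1 : f * i * f⁻¹ = i := by
        rw [← hk]; exact commute_conj ((show Commute (f ^ 3) i from commute_of_conj c1).pow_left k)
      refine caseA f hf ?_
      rw [hfi1, mul_inv_cancel]
      exact one_mem _
  obtain ⟨hfi', hfj', hfl'⟩ := hall
  obtain ⟨r', hr', hrt'⟩ := q.cover x hx hxB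
  have hfr : Commute f r' := by
    simp only [List.mem_cons, List.not_mem_nil, or_false] at hr'
    rcases hr' with e | e | e | e <;> rw [e]
    · exact Commute.one_right f
    · exact commute_of_conj hfi'
    · exact commute_of_conj hfj'
    · exact commute_of_conj hfl'
  have hft := commute_of_conj (key f hf _ hrt')
  have := (hfr.mul_right hft).eq
  rwa [mul_inv_cancel_left] at this

theorem Sec.F_commutes [Finite G] (K : Ctx G 3 m) (h : Sec m u w C D V Q P) {f x : G}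
    (hf : f ∈ Q ⊓ Subgroup.centralizer ((C ⊔ V : Subgroup G) : Set G)) (hx : x ∈ P) :
    f * x = x * f := by
  have hle : P ≤ Subgroup.centralizer {f} := h.data.gen K le_rfl h.data.small.norm
    (Subgroup.zpowers_le.mpr (Subgroup.mem_centralizer_singleton_iff.mpr (h.data.Qu f hf.1).symm))
    fun B hB y hy => Subgroup.mem_centralizer_singleton_iff.mpr (h.quat_act K hB hf hy.1 hy.2).symm
  exact (Subgroup.mem_centralizer_singleton_iff.mp (hle hx)).symm

theorem Sec.F_abelian [Finite G] (K : Ctx G 3 m) (h : Sec m u w C D V Q P) {f g : G}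
    (hf : f ∈ Q ⊓ Subgroup.centralizer ((C ⊔ V : Subgroup G) : Set G))
    (hg : g ∈ Q ⊓ Subgroup.centralizer ((C ⊔ V : Subgroup G) : Set G)) : f * g = g * f := by
  have := Fact.mk K.prime
  have : Fact (Nat.Prime 2) := ⟨Nat.prime_two⟩
  by_contra hne
  set F := Q ⊓ Subgroup.centralizer ((C ⊔ V : Subgroup G) : Set G) with hF
  have hFp : IsPGroup 2 F := h.data.Qtwo.to_le inf_le_left
  have hwF : w ∈ F := ⟨h.data.uQ, fun a ha => h.data.pr.comm a ha⟩
  have huniq : ∀ H : Subgroup F, Nat.card H = 2 → H = Subgroup.zpowers ⟨w, hwF⟩ := by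
    intro H hH
    have hle : H ≤ Subgroup.zpowers ⟨w, hwF⟩ := by
      intro x hx
      by_cases hx1 : x = 1
      · exact hx1 ▸ one_mem _
      have hd : orderOf x ∣ 2 := hH ▸ H.orderOf_dvd_natCard hx
      have h2 := orderOf_dvd_iff_pow_eq_one.mp hd
      have e := unique_inv K h.data.pr (v := (x : G)) (by rw [← sq, ← SubgroupClass.coe_pow, h2]; rfl)
        (fun e => hx1 (Subtype.ext e)) (h.data.Qu x x.2.1) (fun a ha => x.2.2 a ha)
      rw [show x = ⟨w, hwF⟩ from Subtype.ext e]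
      exact Subgroup.mem_zpowers _
    refine Subgroup.eq_of_le_of_card_ge hle ?_
    rw [hH, Nat.card_zpowers, orderOf_eq_prime (p := 2)
      (Subtype.ext (by simpa [sq] using h.data.pr.inv)) fun e => h.data.pr.ne (congrArg Subtype.val e)]
  obtain ⟨f₁, g₁, hf₁, hg₁, hff, hgg, hfg⟩ : ∃ f₁ g₁ : G, f₁ ∈ F ∧ g₁ ∈ F ∧ f₁ * f₁ = w ∧ g₁ * g₁ = w ∧
      ⁅f₁, g₁⁆ = w := by
    rcases PGroups.UniqueSubgroup.isCyclic_or_quaternion hFp
      (fun H H' hH hH' => (huniq H hH).trans (huniq H' hH').symm) with hc | ⟨-, n, ⟨e⟩⟩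
    · let _ := hc.commGroup
      exact absurd (congrArg Subtype.val (mul_comm (⟨f, hf⟩ : F) ⟨g, hg⟩)) hne
    rcases n with _ | n
    · have : IsCyclic (QuaternionGroup (2 ^ 0)) := by
        rw [pow_zero]; exact QuaternionGroup.quaternionGroup_one_isCyclic
      let _ := (isCyclic_of_surjective e.symm e.symm.surjective).commGroup
      exact absurd (congrArg Subtype.val (mul_comm (⟨f, hf⟩ : F) ⟨g, hg⟩)) hne
    set z : QuaternionGroup (2 ^ (n + 1)) := QuaternionGroup.a ((2 ^ (n + 1) : ℕ) : ZMod _) with hz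
    set a' : QuaternionGroup (2 ^ (n + 1)) := QuaternionGroup.a ((2 ^ n : ℕ) : ZMod _) with ha'
    set x' : QuaternionGroup (2 ^ (n + 1)) := QuaternionGroup.xa 0 with hx'
    have hkk : ((2 ^ n : ℕ) : ZMod (2 * 2 ^ (n + 1))) + ((2 ^ n : ℕ) : ZMod (2 * 2 ^ (n + 1))) =
        ((2 ^ (n + 1) : ℕ) : ZMod (2 * 2 ^ (n + 1))) := by
      rw [← Nat.cast_add]; congr 1; ring
    have hNN : ((2 ^ (n + 1) : ℕ) : ZMod (2 * 2 ^ (n + 1))) + ((2 ^ (n + 1) : ℕ) : ZMod (2 * 2 ^ (n + 1))) = 0 := by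
      rw [← Nat.cast_add, ← two_mul, ZMod.natCast_self]
    have e1 : a' * a' = z := by rw [ha', hz, QuaternionGroup.a_mul_a, hkk]
    have e2 : x' * x' = z := by rw [hx', hz, QuaternionGroup.xa_mul_xa, sub_zero, add_zero]
    have e3 : a' * x' = z * (x' * a') := by
      rw [ha', hx', hz, QuaternionGroup.a_mul_xa, QuaternionGroup.xa_mul_a, QuaternionGroup.a_mul_xa]
      congr 1
      rw [← hkk]; abel
    have hz1 : z ≠ 1 := by
      rw [hz, QuaternionGroup.one_def]
      intro e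
      have h0 := (QuaternionGroup.a.injEq _ _).mp e
      rw [ZMod.natCast_eq_zero_iff] at h0
      have := Nat.le_of_dvd (pow_pos (by norm_num) _) h0
      have : 0 < 2 ^ (n + 1) := pow_pos (by norm_num) _
      omega
    have hz2 : z * z = 1 := by rw [hz, QuaternionGroup.one_def, QuaternionGroup.a_mul_a, hNN]
    have hzw : e.symm z = ⟨w, hwF⟩ := Subtype.ext (unique_inv K h.data.pr
      (v := ((e.symm z : F) : G)) (by rw [← Subgroup.coe_mul, ← map_mul, hz2, map_one]; rfl)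
      (fun h1 => hz1 (e.symm.injective ((map_one e.symm).symm ▸ Subtype.ext h1)))
      (h.data.Qu _ (e.symm z).2.1) (fun a ha => (e.symm z).2.2 a ha))
    refine ⟨(e.symm a' : F), (e.symm x' : F), (e.symm a').2, (e.symm x').2, ?_, ?_, ?_⟩
    · rw [← Subgroup.coe_mul, ← map_mul, e1, hzw]
    · rw [← Subgroup.coe_mul, ← map_mul, e2, hzw]
    · have h5 : ⁅a', x'⁆ = z := by
        rw [commutatorElement_def, e3]; group
      have h6 := congrArg (fun y : F => (y : G)) (map_commutatorElement e.symm a' x')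
      rw [h5, hzw] at h6
      simpa [commutatorElement_def] using h6.symm
  obtain ⟨B, hB, -⟩ := h.exists_moved K
  obtain ⟨a, ha, haB⟩ := hB.1.exists_notMem
  obtain ⟨i, j, l, q⟩ := h.data.exists_quat K hB ha haB
  obtain ⟨hBc, hB1⟩ := K.card_hyp h.data.pr.card hB.1
  set X := Q ⊓ Subgroup.centralizer (B : Set G) with hX
  have hFX : ∀ {y : G}, y ∈ F → y ∈ X := fun hy => ⟨hy.1, fun b hb => hy.2 b (hB.1.1 hb)⟩
  have mi : i ∈ X := ⟨h.data.PQ q.iP, q.iB⟩
  have mj : j ∈ X := ⟨h.data.PQ q.jP, q.jB⟩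
  have hfi : Commute f₁ i := h.F_commutes K hf₁ q.iP
  have hfj : Commute f₁ j := h.F_commutes K hf₁ q.jP
  have hgi : Commute g₁ i := h.F_commutes K hg₁ q.iP
  have hgj : Commute g₁ j := h.F_commutes K hg₁ q.jP
  have hww := h.data.pr.inv
  have hji : ⁅j, i⁆ = w := q.comm_ji h.data.small hww
  have hc1 : ⁅j, i * f₁⁆ = w := by
    rw [← hji, commutatorElement_def, commutatorElement_def]
    calc j * (i * f₁) * j⁻¹ * (i * f₁)⁻¹ = j * i * (f₁ * j⁻¹) * f₁⁻¹ * i⁻¹ := by group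
      _ = j * i * (j⁻¹ * f₁) * f₁⁻¹ * i⁻¹ := by rw [hfj.inv_right.eq]
      _ = _ := by group
  have hc2 : ⁅i, j * g₁⁆ = w := by
    rw [← q.comm_ij, commutatorElement_def, commutatorElement_def]
    calc i * (j * g₁) * i⁻¹ * (j * g₁)⁻¹ = i * j * (g₁ * i⁻¹) * g₁⁻¹ * j⁻¹ := by group
      _ = i * j * (i⁻¹ * g₁) * g₁⁻¹ * j⁻¹ := by rw [hgi.inv_right.eq]
      _ = _ := by group
  have hcm : (j * g₁) * (i * f₁) = (i * f₁) * (j * g₁) := by
    have e1 : j * i = w * (i * j) := by rw [← hji, commutatorElement_def]; group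
    have e2 : f₁ * g₁ = w * (g₁ * f₁) := by rw [← hfg, commutatorElement_def]; group
    have hwc : Commute w (i * j) := (h.data.Qu _ (mul_mem (h.data.PQ q.iP) (h.data.PQ q.jP))).symm
    calc (j * g₁) * (i * f₁) = j * (g₁ * i) * f₁ := by group
      _ = (j * i) * (g₁ * f₁) := by rw [hgi.eq]; group
      _ = (i * j) * (w * (g₁ * f₁)) := by rw [e1, hwc.eq]; group
      _ = i * (j * f₁) * g₁ := by rw [← e2]; group
      _ = _ := by rw [← hfj.eq]; group
  obtain ⟨D', V', -, -, -, -, -, -, -, hle⟩ := width K h.data.pr hB.1.1 hB1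
    (h.data.Qtwo.to_le inf_le_left) inf_le_right (fun x hx => h.data.Qu x hx.1)
    (normalizes_inf_centralizer h.data.pr.ea hB.1.1 h.data.AQ) (w := i * f₁) (mul_mem mi (hFX hf₁))
    (by rw [← sq, hfi.symm.mul_pow, sq, sq, q.sq_i, hff, hww]) mj hc1 [(j * g₁, i)]
    ⟨mul_mem mj (hFX hg₁), by rw [← sq, hgj.symm.mul_pow, sq, sq, q.sq_j, hgg, hww], mi, hc2,
      (by simp only [List.mem_singleton, forall_eq]
          exact ⟨hcm, ((Commute.refl i).mul_right hfi.symm).eq⟩), trivial⟩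
  rw [hBc, List.length_singleton, pow_one, ← pow_add] at hle
  have := (Nat.pow_le_pow_iff_right (by norm_num : 1 < 3)).mp hle
  have := K.three_le
  omega

/-- `C_Q(C V)` is the centre of `Q`. -/
theorem Sec.F_eq_center [Finite G] (K : Ctx G 3 m) (h : Sec m u w C D V Q P) {x : G} (hx : x ∈ Q) :
    x ∈ Subgroup.centralizer ((C ⊔ V : Subgroup G) : Set G) ↔ ∀ y ∈ Q, x * y = y * x := by
  constructor
  · intro hxA y hy
    obtain ⟨c, hc, g, hg, rfl⟩ := h.decomp K hy
    exact ((show Commute x c from h.F_abelian K ⟨hx, hxA⟩ hc).mul_right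
      (h.F_commutes K ⟨hx, hxA⟩ hg)).eq
  · intro hcen
    obtain ⟨c, hc, g, hg, rfl⟩ := h.decomp K hx
    have hgc : g ∈ Subgroup.zpowers w := h.data.small.central g hg fun y hy => by
      have h1 : Commute (c * g) y := hcen y (h.data.PQ hy)
      have h2 : Commute c y := h.F_commutes K hc hy
      have h3 := h2.inv_left.mul_left h1
      rw [inv_mul_cancel_left] at h3
      exact h3.eq
    exact mul_mem hc.2 (Subgroup.zpowers_le.mpr
      (show w ∈ Subgroup.centralizer _ from fun a ha => h.data.pr.comm a ha) hgc)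

end Cfsg.Agent.KlingerMason
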