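import Cfsg.Agent.Lib.KlingerMason.Basic
import Cfsg.Agent.Lib.PGroups.Alperin
import Cfsg.Agent.Lib.PLocal.Cores
import Cfsg.Agent.Lib.Coprime.OmegaDetect
import Cfsg.Prelude.Def_LocalEven
import Cfsg.Prelude.Def_CaseTheorems

/-!
The setting of the Klinger–Mason theorem: the class two `p`-group on which the centralizer of a
`p`-subgroup acts faithfully, and the lemma on fixed points in it.
-/

set_option autoImplicit false

namespace Cfsg.Agent.KlingerMason

open scoped commutatorElement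

variable {G : Type*} [Group G] {p m : ℕ}

/-- The standing hypotheses. -/
structure Ctx (G : Type*) [Group G] (p m : ℕ) : Prop where
  prime : p.Prime
  ne_two : p ≠ 2
  three_le : 3 ≤ m
  localChar : Cfsg.IsOfLocalCharacteristic p G
  charTwo : Cfsg.IsCharacteristicTwoType G
  bound : ∀ z : G, z * z = 1 → z ≠ 1 → ∀ A : Subgroup G, EA p A → (∀ a ∈ A, a * z = z * a) →
    Nat.card A ≤ p ^ m

theorem Ctx.odd (K : Ctx G p m) : Odd p := K.prime.odd_of_ne_two K.ne_two

/-- An involution and an elementary abelian `p`-subgroup of maximal rank centralizing it. -/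
structure Pr (p m : ℕ) (u : G) (A : Subgroup G) : Prop where
  inv : u * u = 1
  ne : u ≠ 1
  ea : EA p A
  card : Nat.card A = p ^ m
  comm : ∀ a ∈ A, a * u = u * a

/-- A class two group of exponent `p` on which `C(C)` acts faithfully on its `p'`-elements. -/
structure CD (p : ℕ) (C D : Subgroup G) : Prop where
  dp : Dp p D
  cen : D ≤ Subgroup.centralizer (C : Set G)
  norm : ∀ g ∈ Subgroup.centralizer (C : Set G), ∀ d ∈ D, g * d * g⁻¹ ∈ D
  faithful : ∀ g ∈ Subgroup.centralizer (C : Set G), (orderOf g).Coprime p →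
    (∀ d ∈ D, g * d = d * g) → g = 1

theorem two_group_coprime [Finite G] [hp : Fact p.Prime] (hp2 : p ≠ 2) {X : Subgroup G}
    (hX : IsPGroup 2 X) : (Nat.card X).Coprime p := by
  have : Fact (Nat.Prime 2) := ⟨Nat.prime_two⟩
  obtain ⟨k, hk⟩ := IsPGroup.iff_card.mp hX
  rw [hk]
  exact ((Nat.coprime_primes Nat.prime_two hp.out).mpr (Ne.symm hp2)).pow_left k

theorem two_elt_coprime [Finite G] [Fact p.Prime] (hp2 : p ≠ 2) {X : Subgroup G} (hX : IsPGroup 2 X)
    {x : G} (hx : x ∈ X) : (orderOf x).Coprime p :=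
  (two_group_coprime hp2 hX).coprime_dvd_left (X.orderOf_dvd_natCard hx)

theorem inv_elt_coprime [hp : Fact p.Prime] (hp2 : p ≠ 2) {x : G} (hx : x * x = 1) :
    (orderOf x).Coprime p := by
  refine ((Nat.coprime_primes Nat.prime_two hp.out).mpr (Ne.symm hp2)).coprime_dvd_left ?_
  exact orderOf_dvd_of_pow_eq_one (by rw [sq, hx])

theorem inf_eq_bot_of_two [Finite G] [Fact p.Prime] (hp2 : p ≠ 2) {X : Subgroup G} (hX : IsPGroup 2 X)
    {D : Subgroup G} (hD : Dp p D) {x : G} (hxX : x ∈ X) (hxD : x ∈ D) : x = 1 := by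
  have h1 : orderOf x ∣ p := orderOf_dvd_of_pow_eq_one (hD.pow x hxD)
  exact orderOf_eq_one_iff.mp
    (Nat.eq_one_of_dvd_coprimes (two_elt_coprime hp2 hX hxX) dvd_rfl h1)

theorem exists_CD [Finite G] (K : Ctx G p m) {C : Subgroup G} (hC : IsPGroup p C) (hC1 : C ≠ ⊥) :
    ∃ D : Subgroup G, CD p C D := by
  have := Fact.mk K.prime
  set N := Subgroup.normalizer (C : Set G) with hN
  have hchar := K.localChar.2 C hC hC1
  set R := (Cfsg.pCore p ↥N).map N.subtype with hR
  have hRp : IsPGroup p R := PLocal.Cores.isPGroup_pCore.map _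
  have hRN : R ≤ N := Subgroup.map_subtype_le _
  have hRnorm : ∀ g ∈ N, ∀ r ∈ R, g * r * g⁻¹ ∈ R := by
    rintro g hg _ ⟨r, hr, rfl⟩
    exact ⟨⟨g, hg⟩ * r * ⟨g, hg⟩⁻¹, PLocal.Cores.pCore_normal'.conj_mem r hr _, rfl⟩
  have hCN : Subgroup.centralizer (C : Set G) ≤ N := Subgroup.centralizer_le_normalizer _
  set Y := R ⊓ Subgroup.centralizer (C : Set G) with hY
  have hYp : IsPGroup p Y := hRp.to_le inf_le_left
  have hCY : Subgroup.centralizer (C : Set G) ≤ Subgroup.normalizer (Y : Set G) := by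
    rw [Subgroup.le_normalizer_iff]
    intro g hg y hy
    exact Subgroup.mem_inf.mpr ⟨hRnorm g (hCN hg) y hy.1, mul_mem (mul_mem hg hy.2) (inv_mem hg)⟩
  obtain ⟨H, hHc, -, hHcom, hHcen⟩ := PGroups.Alperin.exists_critical hYp
  have := hHc
  set H' := H.map Y.subtype with hH'
  have hH'Y : H' ≤ Y := Subgroup.map_subtype_le _
  have hCH' : Subgroup.centralizer (C : Set G) ≤ Subgroup.normalizer (H' : Set G) :=
    hCY.trans (Coprime.OmegaDetect.normalizer_le_normalizer_char Y H)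
  have hcl : ∀ x ∈ H', ∀ y ∈ H', ⁅x, y⁆ ∈ H' ∧ ∀ z ∈ H', ⁅x, y⁆ * z = z * ⁅x, y⁆ := by
    rintro _ ⟨x, hx, rfl⟩ _ ⟨y, hy, rfl⟩
    have h := hHcom (Subgroup.commutator_mem_commutator hx (Subgroup.mem_top y))
    refine ⟨⟨⁅x, y⁆, h.1, map_commutatorElement _ x y⟩, ?_⟩
    rintro _ ⟨z, hz, rfl⟩
    rw [← map_commutatorElement, ← map_mul, ← map_mul, h.2 z hz]
  have hmul : ∀ x ∈ H', ∀ y ∈ H', x ^ p = 1 → y ^ p = 1 → (y * x) ^ p = 1 := by
    intro x hx y hy hxp hyp
    have hc := hcl x⁻¹ (inv_mem hx) y⁻¹ (inv_mem hy)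
    set c := ⁅x⁻¹, y⁻¹⁆ with hcdef
    have hxy : x * y = y * x * c := by rw [hcdef, commutatorElement_def]; group
    have hcx : Commute c x := hc.2 x hx
    have hcy : Commute c y := hc.2 y hy
    have hcp : c ^ p = 1 := by
      have h1 : y⁻¹ * x * y = x * c := by rw [mul_assoc, hxy]; group
      have h2 : (y⁻¹ * x * y) ^ p = 1 := by
        have h3 := conj_pow (a := y⁻¹) (b := x) (i := p)
        rw [inv_inv] at h3
        rw [h3, hxp, mul_one, inv_mul_cancel]
      rwa [h1, hcx.symm.mul_pow, hxp, one_mul] at h2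
    have hdvd : p ∣ p.choose 2 := K.prime.dvd_choose_self two_ne_zero
      (lt_of_le_of_ne K.prime.two_le (Ne.symm K.ne_two))
    obtain ⟨k, hk⟩ := hdvd
    rw [Coprime.OmegaDetect.mul_pow_central hxy hcx hcy, hxp, hyp, hk, pow_mul, hcp, one_pow]
    simp
  let D : Subgroup G :=
    { carrier := {x | x ∈ H' ∧ x ^ p = 1}
      one_mem' := ⟨one_mem _, one_pow p⟩
      mul_mem' := fun {a b} ha hb => ⟨mul_mem ha.1 hb.1, hmul b hb.1 a ha.1 hb.2 ha.2⟩
      inv_mem' := fun {a} ha => ⟨inv_mem ha.1, by rw [inv_pow, ha.2, inv_one]⟩ }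
  refine ⟨D, ⟨fun x hx => hx.2, fun x hx y hy z hz => (hcl x hx.1 y hy.1).2 z hz.1⟩,
    fun x hx => (hH'Y hx.1).2, fun g hg d hd => ?_, fun g hg ho hfix => ?_⟩
  · exact ⟨(Subgroup.le_normalizer_iff.mp hCH') g hg d hd.1, by rw [conj_pow, hd.2, mul_one, mul_inv_cancel]⟩
  · have hgH : g ∈ Subgroup.centralizer (H' : Set G) :=
      Coprime.OmegaDetect.mem_centralizer_of_fix ho (hYp.to_le hH'Y) (hCH' hg)
        fun a ha h => hfix a ⟨ha, h.resolve_right fun h' => K.ne_two h'.1⟩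
    have hQ : (Nat.card ↥(Subgroup.zpowers g)).Coprime p := by rwa [Nat.card_zpowers]
    have hgY : Subgroup.zpowers g ≤ Subgroup.centralizer (Y : Set G) :=
      Coprime.le_centralizer_of_pxq (hYp.to_le hH'Y) hQ hYp
        (Subgroup.le_centralizer_iff.mp (Subgroup.zpowers_le.mpr hgH))
        (hH'Y.trans Subgroup.le_normalizer) (Subgroup.zpowers_le.mpr (hCY hg)) (by
          rintro x ⟨hxY, hxH⟩
          have hxH' : x ∈ H' := ⟨⟨x, hxY⟩, hHcen fun z hz => Subtype.ext (hxH z ⟨z, hz, rfl⟩), rfl⟩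
          exact Subgroup.le_centralizer_iff.mp (Subgroup.zpowers_le.mpr hgH) hxH')
    have hgR : Subgroup.zpowers g ≤ Subgroup.centralizer (R : Set G) :=
      Coprime.le_centralizer_of_pxq hC hQ hRp
        (Subgroup.le_centralizer_iff.mp (Subgroup.zpowers_le.mpr hg))
        (fun c hc => (Subgroup.le_normalizer_iff.mpr hRnorm) (Subgroup.le_normalizer hc))
        (Subgroup.zpowers_le.mpr ((Subgroup.le_normalizer_iff.mpr hRnorm) (hCN hg)))
        (Subgroup.le_centralizer_iff.mp hgY)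
    have hgR' : g ∈ R := ⟨⟨g, hCN hg⟩, hchar fun z hz => Subtype.ext
      ((hgR (Subgroup.mem_zpowers g)) z ⟨z, hz, rfl⟩), rfl⟩
    obtain ⟨k, hk⟩ := IsPGroup.iff_orderOf.mp hRp ⟨g, hgR'⟩
    rw [Subgroup.orderOf_mk] at hk
    exact orderOf_eq_one_iff.mp (Nat.eq_one_of_dvd_coprimes (ho.pow_right k) dvd_rfl hk.dvd)

/-- **Fixed points of an involution in `D`**: a `2`-subgroup centralizing `C` and `z` and normalized
by a maximal `A` centralizing `z` centralizes them. -/
theorem fix_lemma [Finite G] (K : Ctx G p m) {z : G} {A C D X : Subgroup G} (hz : Pr p m z A)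
    (hCA : C ≤ A) (hD : CD p C D) (hX : IsPGroup 2 X)
    (hXC : X ≤ Subgroup.centralizer (C : Set G)) (hXz : ∀ x ∈ X, x * z = z * x)
    (hAX : A ≤ Subgroup.normalizer (X : Set G)) {x d : G} (hx : x ∈ X) (hd : d ∈ D)
    (hdz : d * z = z * d) : x * d = d * x := by
  have := Fact.mk K.prime
  by_contra hne
  set F := D ⊓ Subgroup.centralizer {z} with hF
  have hAF : A ≤ Subgroup.normalizer (F : Set G) := by
    rw [Subgroup.le_normalizer_iff]
    intro a ha f hf
    refine Subgroup.mem_inf.mpr ⟨hD.norm a (hz.ea.le_centralizer hCA ha) f hf.1, ?_⟩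
    rw [Subgroup.mem_centralizer_singleton_iff]
    have h1 : Commute z a := (hz.comm a ha).symm
    have h2 : Commute z f := (Subgroup.mem_centralizer_singleton_iff.mp hf.2).symm
    exact (((h1.mul_right h2).mul_right h1.inv_right).symm).eq
  have hXF : X ≤ Subgroup.normalizer (F : Set G) := by
    rw [Subgroup.le_normalizer_iff]
    intro a ha f hf
    refine Subgroup.mem_inf.mpr ⟨hD.norm a (hXC ha) f hf.1, ?_⟩
    rw [Subgroup.mem_centralizer_singleton_iff]
    have h1 : Commute z a := (hXz a ha).symm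
    have h2 : Commute z f := (Subgroup.mem_centralizer_singleton_iff.mp hf.2).symm
    exact (((h1.mul_right h2).mul_right h1.inv_right).symm).eq
  have hcen : ∀ a b : F, ⁅a, b⁆ ∈ Subgroup.center F := fun a b => by
    rw [Subgroup.mem_center_iff]
    exact fun w => Subtype.ext (hD.dp.cen a a.2.1 b b.2.1 w w.2.1).symm
  have hh : ∀ a b : F, ⁅a, b⁆ ^ (2 * ((p + 1) / 2)) = ⁅a, b⁆ := fun a b => by
    obtain ⟨k, hk⟩ := K.odd
    rw [show 2 * ((p + 1) / 2) = p + 1 by omega, pow_succ,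
      show ⁅a, b⁆ ^ p = 1 from Subtype.ext (by simpa using hD.dp.pow _ (⁅a, b⁆ : F).2.1), one_mul]
  obtain ⟨g, hgfix, a, hga⟩ := GenA.BaerTrick.exists_fixed (G := F) hcen
    (p := p) (fun a => ⟨1, Subtype.ext (by simpa using hD.dp.pow a a.2.1)⟩) hh
    (Q := X) (P := A) hz.ea.isPGroup (two_group_coprime K.ne_two hX)
    ((Subgroup.normalizerMonoidHom F).comp (Subgroup.inclusion hXF))
    ((Subgroup.normalizerMonoidHom F).comp (Subgroup.inclusion hAF))
    (fun b => (Subgroup.normalizerMonoidHom X (Subgroup.inclusion hAX b)).toEquiv)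
    (fun b a f => Subtype.ext (by
      change (b : G) * ((a : G) * f * (a : G)⁻¹) * (b : G)⁻¹ =
        ((b : G) * a * (b : G)⁻¹) * ((b : G) * f * (b : G)⁻¹) * ((b : G) * a * (b : G)⁻¹)⁻¹
      group))
    ⟨⟨x, hx⟩, ⟨d, hd, Subgroup.mem_centralizer_singleton_iff.mpr hdz⟩,
      fun h => hne (commute_of_conj (congrArg Subtype.val h : x * d * x⁻¹ = d)).eq⟩
  have hgA : ∀ b ∈ A, b * (g : G) = (g : G) * b := fun b hb =>
    (commute_of_conj (congrArg Subtype.val (hgfix ⟨b, hb⟩) : b * (g : G) * b⁻¹ = g)).eq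
  have hgmem : (g : G) ∈ A := by
    by_contra hn
    obtain ⟨hE, hc⟩ := hz.ea.sup_zpowers (hD.dp.pow g g.2.1) hgA hn
    have hb := K.bound z hz.inv hz.ne _ hE (by
      have hle : A ⊔ Subgroup.zpowers (g : G) ≤ Subgroup.centralizer {z} := by
        rw [sup_le_iff, Subgroup.zpowers_le]
        exact ⟨fun a ha => Subgroup.mem_centralizer_singleton_iff.mpr (hz.comm a ha), g.2.2⟩
      exact fun e he => Subgroup.mem_centralizer_singleton_iff.mp (hle he))
    rw [hc, hz.card] at hb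
    have h2 := K.prime.one_lt
    have h3 : 0 < p ^ m := pow_pos K.prime.pos m
    nlinarith
  apply hga
  refine Subtype.ext ?_
  change (a : G) * g * (a : G)⁻¹ = g
  have h1 : (a : G) * g * (a : G)⁻¹ * (g : G)⁻¹ ∈ D :=
    mul_mem (hD.norm a (hXC a.2) g g.2.1) (inv_mem g.2.1)
  have h2 : (a : G) * g * (a : G)⁻¹ * (g : G)⁻¹ ∈ X := by
    have h4 := (Subgroup.le_normalizer_iff.mp hAX) g hgmem (a : G)⁻¹ (inv_mem a.2)
    have : (a : G) * g * (a : G)⁻¹ * (g : G)⁻¹ = a * (g * (a : G)⁻¹ * (g : G)⁻¹) := by group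
    rw [this]
    exact mul_mem a.2 h4
  have := inf_eq_bot_of_two K.ne_two hX hD.dp h2 h1
  exact mul_inv_eq_one.mp this

end Cfsg.Agent.KlingerMason
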