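import Cfsg.Agent.Lib.KlingerMason.Width

/-!
The case `p = 3`: the subgroups `C_P(B)` are quaternion, at most three of the hyperplanes share a
nontrivial element, and a second maximal pair appears.
-/

set_option autoImplicit false

namespace Cfsg.Agent.KlingerMason

open scoped commutatorElement

variable {G : Type*} [Group G] {m : ℕ} {u : G} {A Q P : Subgroup G}

/-- The quaternion generators of `C_P(B)`, permuted cyclically by `a`. -/
structure Quat (u a : G) (P B : Subgroup G) (i j l : G) : Prop where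
  iP : i ∈ P
  jP : j ∈ P
  lP : l ∈ P
  iB : i ∈ Subgroup.centralizer (B : Set G)
  jB : j ∈ Subgroup.centralizer (B : Set G)
  lB : l ∈ Subgroup.centralizer (B : Set G)
  conj_i : a * i * a⁻¹ = j
  conj_j : a * j * a⁻¹ = l
  conj_l : a * l * a⁻¹ = i
  sq_i : i * i = u
  sq_j : j * j = u
  sq_l : l * l = u
  comm_ij : ⁅i, j⁆ = u
  prod : i * j * l = 1
  cover : ∀ x ∈ P, x ∈ Subgroup.centralizer (B : Set G) →
    ∃ q ∈ [1, i, j, l], q⁻¹ * x ∈ Subgroup.zpowers u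

theorem Data.triple [Finite G] (K : Ctx G 3 m) (h : Data 3 m u A Q P) {B : Subgroup G}
    (hB : Hyp 3 A B) {a x : G} (ha : a ∈ A) (haB : a ∉ B) (hx : x ∈ P)
    (hxB : x ∈ Subgroup.centralizer (B : Set G)) :
    x * (a * x * a⁻¹) * (a * (a * x * a⁻¹) * a⁻¹) ∈ Subgroup.zpowers u := by
  have hn := Subgroup.le_normalizer_iff.mp (h.AX hB.1)
  have hX : x ∈ P ⊓ Subgroup.centralizer (B : Set G) := ⟨hx, hxB⟩
  have hj := hn a ha x hX
  have hl := hn a ha _ hj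
  set j := a * x * a⁻¹ with hjdef
  set l := a * j * a⁻¹ with hldef
  have htX := mul_mem (mul_mem hX hj) hl
  refine h.moved K hB ha haB htX.1 htX.2 ?_
  have hal : a * l * a⁻¹ = x := by
    have e3 : a ^ 3 = 1 := h.pr.ea.pow a ha
    calc a * l * a⁻¹ = a ^ 3 * x * (a ^ 3)⁻¹ := by
          rw [hldef, hjdef, show a ^ 3 = a * a * a by simp only [pow_succ, pow_zero, one_mul]]; group
      _ = x := by rw [e3, inv_one, one_mul, mul_one]
  have e : a * (x * j * l) * a⁻¹ * (x * j * l)⁻¹ = ⁅x⁻¹, x * j * l⁆ := by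
    have : a * (x * j * l) * a⁻¹ = j * l * x := by
      calc a * (x * j * l) * a⁻¹ = (a * x * a⁻¹) * (a * j * a⁻¹) * (a * l * a⁻¹) := by group
        _ = _ := by rw [hal]
    rw [this, commutatorElement_def]; group
  rw [e]
  exact h.small.comm _ (inv_mem hx) _ htX.1

theorem Data.anti [Finite G] (K : Ctx G 3 m) (h : Data 3 m u A Q P) {B : Subgroup G}
    (hB : Hyp 3 A B) {a y : G} (ha : a ∈ A) (haB : a ∉ B) (hy : y ∈ P)
    (hyB : y ∈ Subgroup.centralizer (B : Set G)) (hyy : y * y = u) : ⁅y, a * y * a⁻¹⁆ = u := by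
  have huu := h.pr.inv
  have hn := Subgroup.le_normalizer_iff.mp (h.AX hB.1)
  have hj := hn a ha y ⟨hy, hyB⟩
  have hl := hn a ha _ hj
  have hau : a * u * a⁻¹ = u := commute_conj (h.pr.comm a ha)
  have ht := h.triple K hB ha haB hy hyB
  set j := a * y * a⁻¹ with hjdef
  set l := a * j * a⁻¹ with hldef
  have hjj : j * j = u := by
    rw [hjdef, show a * y * a⁻¹ * (a * y * a⁻¹) = a * (y * y) * a⁻¹ by group, hyy, hau]
  have hll : l * l = u := by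
    rw [hldef, show a * j * a⁻¹ * (a * j * a⁻¹) = a * (j * j) * a⁻¹ by group, hjj, hau]
  set t := y * j * l with htdef
  have hsq : y * j * (y * j) = u := by
    have htt : t * t = 1 := by
      rcases (mem_zpowers_inv huu).mp ht with e | e <;> rw [e]
      · exact one_mul 1
      · exact huu
    have hcm : Commute t l := by
      rcases (mem_zpowers_inv huu).mp ht with e | e <;> rw [e]
      · exact Commute.one_left l
      · exact (show Commute l u from h.small.comm_u l hl.1).symm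
    have e1 : y * j = t * l⁻¹ := by rw [htdef]; group
    rw [e1, ← sq, hcm.inv_right.mul_pow, sq, sq, htt, one_mul, ← mul_inv_rev, hll,
      inv_eq_of_mul_eq_one_left huu]
  rw [h.small.mul_self_mul huu hy hj.1, hyy, hjj, huu, one_mul] at hsq
  exact hsq

theorem Data.exists_quat [Finite G] (K : Ctx G 3 m) (h : Data 3 m u A Q P) {B : Subgroup G}
    (hB : Lam 3 u A P B) {a : G} (ha : a ∈ A) (haB : a ∉ B) :
    ∃ i j l, Quat u a P B i j l := by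
  have := Fact.mk K.prime
  have huu := h.pr.inv
  have hui : u⁻¹ = u := inv_eq_of_mul_eq_one_left huu
  obtain ⟨hBH, x₀, hx₀, hx₀B, hx₀u⟩ := hB
  have hn := Subgroup.le_normalizer_iff.mp (h.AX hBH.1)
  have hau : a * u * a⁻¹ = u := commute_conj (h.pr.comm a ha)
  have hcs : ∀ x ∈ P, ∀ y ∈ P, ⁅x, y⁆ = 1 ∨ ⁅x, y⁆ = u := fun x hx y hy =>
    (mem_zpowers_inv huu).mp (h.small.comm x hx y hy)
  -- an element with square `u`
  obtain ⟨i₀, hi₀, hi₀i⟩ : ∃ i ∈ P ⊓ Subgroup.centralizer (B : Set G), i * i = u := by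
    by_contra! hno
    have hone : ∀ z ∈ P ⊓ Subgroup.centralizer (B : Set G), z * z = 1 := fun z hz =>
      ((mem_zpowers_inv huu).mp (h.small.sq z hz.1)).resolve_right (hno z hz)
    refine hx₀u (h.centralX K hBH hx₀ hx₀B fun y hy hyB => ?_)
    have e := h.small.mul_self_mul huu hx₀ hy
    rw [hone _ (mul_mem ⟨hx₀, hx₀B⟩ ⟨hy, hyB⟩), hone _ ⟨hx₀, hx₀B⟩, hone _ ⟨hy, hyB⟩, one_mul,
      one_mul] at e
    exact commutatorElement_eq_one_iff_mul_comm.mp e.symm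
  -- normalise the product
  obtain ⟨i, hi, hii, hprod⟩ : ∃ i ∈ P ⊓ Subgroup.centralizer (B : Set G), i * i = u ∧
      i * (a * i * a⁻¹) * (a * (a * i * a⁻¹) * a⁻¹) = 1 := by
    rcases (mem_zpowers_inv huu).mp (h.triple K hBH ha haB hi₀.1 hi₀.2) with e | e
    · exact ⟨i₀, hi₀, hi₀i, e⟩
    · have huX : u ∈ P ⊓ Subgroup.centralizer (B : Set G) := hi₀i ▸ mul_mem hi₀ hi₀
      refine ⟨i₀ * u, mul_mem hi₀ huX, ?_, ?_⟩
      · rw [← sq, (show Commute i₀ u from h.small.comm_u i₀ hi₀.1).mul_pow, sq, sq, hi₀i, huu, mul_one]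
      · have hcomm : ∀ z ∈ P, Commute u z := fun z hz => (h.small.comm_u z hz).symm
        set j₀ := a * i₀ * a⁻¹ with hj₀def
        set l₀ := a * j₀ * a⁻¹ with hl₀def
        have e1 : a * (i₀ * u) * a⁻¹ = j₀ * u := by
          rw [hj₀def, show a * (i₀ * u) * a⁻¹ = a * i₀ * a⁻¹ * (a * u * a⁻¹) by group, hau]
        have e2 : a * (j₀ * u) * a⁻¹ = l₀ * u := by
          rw [hl₀def, show a * (j₀ * u) * a⁻¹ = a * j₀ * a⁻¹ * (a * u * a⁻¹) by group, hau]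
        have hj₀ := hn a ha i₀ hi₀
        have hl₀ := hn a ha _ hj₀
        rw [e1, e2]
        calc i₀ * u * (j₀ * u) * (l₀ * u) = i₀ * (u * j₀) * (u * l₀) * u := by simp only [mul_assoc]
          _ = i₀ * (j₀ * u) * (l₀ * u) * u := by rw [(hcomm _ hj₀.1).eq, (hcomm _ hl₀.1).eq]
          _ = i₀ * j₀ * (u * l₀) * (u * u) := by simp only [mul_assoc]
          _ = i₀ * j₀ * l₀ * u * (u * u) := by rw [(hcomm _ hl₀.1).eq, ← mul_assoc (i₀ * j₀)]
          _ = 1 := by rw [huu, mul_one, e, huu]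
  set j := a * i * a⁻¹ with hjdef
  set l := a * j * a⁻¹ with hldef
  have hj := hn a ha i hi
  have hl := hn a ha _ hj
  have hjj : j * j = u := by
    rw [hjdef, show a * i * a⁻¹ * (a * i * a⁻¹) = a * (i * i) * a⁻¹ by group, hii, hau]
  have hll : l * l = u := by
    rw [hldef, show a * j * a⁻¹ * (a * j * a⁻¹) = a * (j * j) * a⁻¹ by group, hjj, hau]
  have hij : ⁅i, j⁆ = u := h.anti K hBH ha haB hi.1 hi.2 hii
  have hji : ⁅j, i⁆ = u := (h.small.comm_symm huu hi.1 hj.1).trans hij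
  have hal : a * l * a⁻¹ = i := by
    calc a * l * a⁻¹ = a ^ 3 * i * (a ^ 3)⁻¹ := by
          rw [hldef, hjdef, show a ^ 3 = a * a * a by simp only [pow_succ, pow_zero, one_mul]]; group
      _ = i := by rw [h.pr.ea.pow a ha, inv_one, one_mul, mul_one]
  refine ⟨i, j, l, ⟨hi.1, hj.1, hl.1, hi.2, hj.2, hl.2, hjdef.symm, hldef.symm, hal, hii, hjj, hll,
    hij, hprod, ?_⟩⟩
  -- nothing outside `T` commutes with `i` and `j`
  have hself : ∀ z : G, ⁅z, z⁆ = (1 : G) := fun z => commutatorElement_self z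
  have hcentral : ∀ y ∈ P ⊓ Subgroup.centralizer (B : Set G), ⁅y, i⁆ = 1 → ⁅y, j⁆ = 1 →
      y ∈ Subgroup.zpowers u := by
    set X := P ⊓ Subgroup.centralizer (B : Set G) with hX
    have hy1 : ∀ y ∈ X, ⁅y, i⁆ = 1 → ⁅y, j⁆ = 1 →
        ⁅a * y * a⁻¹, i⁆ = 1 ∧ ⁅a * y * a⁻¹, j⁆ = 1 := by
      intro y hy e1 e2
      have c1 : Commute (a * y * a⁻¹) j := by
        rw [hjdef]
        exact (commute_iff_eq _ _).mpr (commutatorElement_eq_one_iff_mul_comm.mp (by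
          rw [← conjugate_commutatorElement, e1, mul_one, mul_inv_cancel]))
      have c2 : Commute (a * y * a⁻¹) l := by
        rw [hldef]
        exact (commute_iff_eq _ _).mpr (commutatorElement_eq_one_iff_mul_comm.mp (by
          rw [← conjugate_commutatorElement, e2, mul_one, mul_inv_cancel]))
      refine ⟨commutatorElement_eq_one_iff_mul_comm.mpr ?_, commutatorElement_eq_one_iff_mul_comm.mpr c1.eq⟩
      have e : i = l⁻¹ * j⁻¹ := by
        rw [← mul_inv_rev]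
        exact eq_inv_of_mul_eq_one_left (by rw [← mul_assoc]; exact hprod)
      rw [e]
      exact (c2.inv_right.mul_right c1.inv_right).eq
    have hno : ∀ {w e y0 y1 : G}, w ∈ X → w * w = 1 → y0 ∈ X → ⁅y0, w⁆ = u → e ∈ X → e * e = 1 →
        y1 ∈ X → ⁅y1, e⁆ = u → e * w = w * e → y1 * w = w * y1 → False := by
      intro w e y0 y1 h1 h2 h3 h4 h5 h6 h7 h8 h9 h10
      obtain ⟨hBc, hB1⟩ := K.card_hyp h.pr.card hBH
      obtain ⟨D, V, -, -, -, -, -, -, -, hle⟩ := width K h.pr hBH.1 hB1 (h.small.two.to_le inf_le_left)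
        inf_le_right (fun x hx => h.small.comm_u x hx.1) (h.AX hBH.1) h1 h2 h3 h4 [(e, y1)]
        ⟨h5, h6, h7, h8, by simp only [List.mem_singleton, forall_eq]; exact ⟨h9, h10⟩, trivial⟩
      rw [hBc] at hle
      simp only [List.length_singleton, pow_one] at hle
      rw [← pow_add] at hle
      have := (Nat.pow_le_pow_iff_right (by norm_num : 1 < 3)).mp hle
      have := K.three_le
      omega
    have hcu : ∀ y ∈ X, y * y = u → ⁅y, i⁆ = 1 → ⁅y, j⁆ = 1 → False := by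
      intro y hy hyy eyi eyj
      have hy' := hn a ha y hy
      obtain ⟨e'i, e'j⟩ := hy1 y hy eyi eyj
      have hyy' : a * y * a⁻¹ * (a * y * a⁻¹) = u := by
        rw [show a * y * a⁻¹ * (a * y * a⁻¹) = a * (y * y) * a⁻¹ by group, hyy, hau]
      have hanti := h.anti K hBH ha haB hy.1 hy.2 hyy
      set y' := a * y * a⁻¹ with hy'def
      have heyi : ⁅i, y⁆ = 1 := (h.small.comm_symm huu hy.1 hi.1).trans eyi
      have heiy' : ⁅i, y'⁆ = 1 := (h.small.comm_symm huu hy'.1 hi.1).trans e'i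
      have hejy' : ⁅j, y'⁆ = 1 := (h.small.comm_symm huu hy'.1 hj.1).trans e'j
      have hwX : i * y ∈ X := mul_mem hi hy
      have heX : j * y' ∈ X := mul_mem hj hy'
      have hwj : ⁅i * y, j⁆ = u := by rw [h.small.comm_mul_left hi.1 hy.1 hj.1, hij, eyj, mul_one]
      have hei : ⁅j * y', i⁆ = u := by rw [h.small.comm_mul_left hj.1 hy'.1 hi.1, hji, e'i, mul_one]
      have hwi : ⁅i * y, i⁆ = 1 := by rw [h.small.comm_mul_left hi.1 hy.1 hi.1, hself, eyi, mul_one]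
      have hnotT : ∀ z ∈ P, ∀ t ∈ P, ⁅z, t⁆ = u → z ∉ Subgroup.zpowers u := by
        intro z _ t ht e hz
        refine h.pr.ne (e.symm.trans (commutatorElement_eq_one_iff_mul_comm.mpr ?_))
        exact (mul_inv_eq_iff_eq_mul.mp (h.small.conj_u ht hz)).symm
      have hwT := hnotT _ hwX.1 j hj.1 hwj
      have heT := hnotT _ heX.1 i hi.1 hei
      have hewT : j * y' * (i * y) ∉ Subgroup.zpowers u := hnotT _ (mul_mem heX hwX).1 i hi.1
        (by rw [h.small.comm_mul_left heX.1 hwX.1 hi.1, hei, hwi, mul_one])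
      obtain ⟨y0, hy0, hy0B, hy0w⟩ := h.dual K hBH hwX.1 hwX.2 hwT
      obtain ⟨y1, hy1', hy1B, hy1e, hy1w⟩ :=
        h.dual2 K hBH heX.1 heX.2 hwX.1 hwX.2 heT hwT hewT
      have hyj : ⁅y, j⁆ = 1 := eyj
      refine hno hwX ?_ ⟨hy0, hy0B⟩ hy0w heX ?_ ⟨hy1', hy1B⟩ hy1e ?_
        (commutatorElement_eq_one_iff_mul_comm.mp hy1w)
      · rw [h.small.mul_self_mul huu hi.1 hy.1, hii, hyy, heyi, huu, mul_one]
      · rw [h.small.mul_self_mul huu hj.1 hy'.1, hjj, hyy', hejy', huu, mul_one]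
      · refine commutatorElement_eq_one_iff_mul_comm.mp ?_
        rw [h.small.comm_symm huu hwX.1 heX.1, h.small.comm_mul_left hi.1 hy.1 heX.1,
          h.small.comm_mul_right huu hi.1 hj.1 hy'.1, h.small.comm_mul_right huu hy.1 hj.1 hy'.1,
          hij, heiy', eyj, hanti, mul_one, one_mul, huu]
    intro y hy eyi eyj
    by_contra hyT
    rcases (mem_zpowers_inv huu).mp (h.small.sq y hy.1) with hyy | hyy
    · have hy' := hn a ha y hy
      obtain ⟨e'i, e'j⟩ := hy1 y hy eyi eyj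
      rcases hcs y hy.1 (a * y * a⁻¹) hy'.1 with hc | hc
      · have hyy' : a * y * a⁻¹ * (a * y * a⁻¹) = 1 := by
          rw [show a * y * a⁻¹ * (a * y * a⁻¹) = a * (y * y) * a⁻¹ by group, hyy, mul_one,
            mul_inv_cancel]
        have hy'T : a * y * a⁻¹ ∉ Subgroup.zpowers u := by
          intro hm
          refine hyT ?_
          obtain ⟨k, hk⟩ := Subgroup.mem_zpowers_iff.mp hm
          have e : y = a⁻¹ * (a * y * a⁻¹) * a := by group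
          rw [e, ← hk, mul_assoc, ← ((show Commute a u from h.pr.comm a ha).zpow_right k).eq,
            inv_mul_cancel_left]
          exact Subgroup.zpow_mem _ (Subgroup.mem_zpowers u) k
        have hprodT : a * y * a⁻¹ * y ∉ Subgroup.zpowers u := by
          intro hm
          refine hyT (h.moved K hBH ha haB hy.1 hy.2 ?_)
          rwa [inv_eq_of_mul_eq_one_left hyy]
        obtain ⟨y0, hy0, hy0B, hy0w⟩ := h.dual K hBH hy.1 hy.2 hyT
        obtain ⟨y1, hy1', hy1B, hy1e, hy1w⟩ :=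
          h.dual2 K hBH hy'.1 hy'.2 hy.1 hy.2 hy'T hyT hprodT
        exact hno hy hyy ⟨hy0, hy0B⟩ hy0w hy' hyy' ⟨hy1', hy1B⟩ hy1e
          (commutatorElement_eq_one_iff_mul_comm.mp hc).symm
          (commutatorElement_eq_one_iff_mul_comm.mp hy1w)
      · refine hcu (y * (a * y * a⁻¹)) (mul_mem hy hy') ?_ ?_ ?_
        · rw [h.small.mul_self_mul huu hy.1 hy'.1, hyy, hc,
            show a * y * a⁻¹ * (a * y * a⁻¹) = a * (y * y) * a⁻¹ by group, hyy, mul_one,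
            mul_inv_cancel, one_mul, one_mul]
        · rw [h.small.comm_mul_left hy.1 hy'.1 hi.1, eyi, e'i, one_mul]
        · rw [h.small.comm_mul_left hy.1 hy'.1 hj.1, eyj, e'j, one_mul]
    · exact hcu y hy hyy eyi eyj
  intro x hx hxB
  have hxX : x ∈ P ⊓ Subgroup.centralizer (B : Set G) := ⟨hx, hxB⟩
  have hii' : i⁻¹ * x ∈ P ⊓ Subgroup.centralizer (B : Set G) := mul_mem (inv_mem hi) hxX
  have hinv : ∀ z ∈ P, ∀ t ∈ P, ⁅z⁻¹, t⁆ = ⁅z, t⁆ := by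
    intro z hz t ht
    have e : ⁅z⁻¹, t⁆ * ⁅z, t⁆ = 1 := by
      rw [← h.small.comm_mul_left (inv_mem hz) hz ht, inv_mul_cancel, commutatorElement_one_left]
    rw [eq_inv_of_mul_eq_one_left e]
    rcases hcs z hz t ht with e | e <;> rw [e]
    · exact inv_one
    · exact hui
  rcases hcs x hx i hi.1 with e1 | e1 <;> rcases hcs x hx j hj.1 with e2 | e2
  · exact ⟨1, by simp, by rw [inv_one, one_mul]; exact hcentral x hxX e1 e2⟩
  · refine ⟨i, by simp, hcentral _ hii' ?_ ?_⟩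
    · rw [h.small.comm_mul_left (inv_mem hi.1) hx hi.1, hinv i hi.1 i hi.1, hself, e1, one_mul]
    · rw [h.small.comm_mul_left (inv_mem hi.1) hx hj.1, hinv i hi.1 j hj.1, hij, e2, huu]
  · refine ⟨j, by simp, hcentral _ (mul_mem (inv_mem hj) hxX) ?_ ?_⟩
    · rw [h.small.comm_mul_left (inv_mem hj.1) hx hi.1, hinv j hj.1 i hi.1, hji, e1, huu]
    · rw [h.small.comm_mul_left (inv_mem hj.1) hx hj.1, hinv j hj.1 j hj.1, hself, e2, one_mul]
  · refine ⟨l, by simp, hcentral _ (mul_mem (inv_mem hl) hxX) ?_ ?_⟩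
    · have e : l⁻¹ = i * j := inv_eq_of_mul_eq_one_left hprod
      rw [e, h.small.comm_mul_left (mul_mem hi.1 hj.1) hx hi.1,
        h.small.comm_mul_left hi.1 hj.1 hi.1, hself, hji, e1, one_mul, huu]
    · have e : l⁻¹ = i * j := inv_eq_of_mul_eq_one_left hprod
      rw [e, h.small.comm_mul_left (mul_mem hi.1 hj.1) hx hj.1,
        h.small.comm_mul_left hi.1 hj.1 hj.1, hij, hself, e2, mul_one, huu]

theorem Quat.comm_ji {a : G} {B : Subgroup G} {i j l : G} (q : Quat u a P B i j l)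
    (h : Small u A P) (hu : u * u = 1) : ⁅j, i⁆ = u :=
  (h.comm_symm hu q.iP q.jP).trans q.comm_ij

/-- **Four members of `Λ` have no common nontrivial element.** -/
theorem Data.four [Finite G] (K : Ctx G 3 m) (h : Data 3 m u A Q P) {B₁ B₂ B₃ B₄ : Subgroup G}
    (h₁ : Lam 3 u A P B₁) (h₂ : Lam 3 u A P B₂) (h₃ : Lam 3 u A P B₃) (h₄ : Lam 3 u A P B₄)
    (h12 : B₁ ≠ B₂) (h13 : B₁ ≠ B₃) (h14 : B₁ ≠ B₄) (h23 : B₂ ≠ B₃) (h24 : B₂ ≠ B₄) (h34 : B₃ ≠ B₄)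
    {c : G} (hc1 : c ≠ 1) (c₁ : c ∈ B₁) (c₂ : c ∈ B₂) (c₃ : c ∈ B₃) (c₄ : c ∈ B₄) : False := by
  have := Fact.mk K.prime
  have huu := h.pr.inv
  obtain ⟨a₁, ha₁, ha₁B⟩ := h₁.1.exists_notMem
  obtain ⟨i₁, j₁, l₁, q₁⟩ := h.exists_quat K h₁ ha₁ ha₁B
  obtain ⟨a₂, ha₂, ha₂B⟩ := h₂.1.exists_notMem
  obtain ⟨i₂, j₂, l₂, q₂⟩ := h.exists_quat K h₂ ha₂ ha₂B
  obtain ⟨a₃, ha₃, ha₃B⟩ := h₃.1.exists_notMem
  obtain ⟨i₃, j₃, l₃, q₃⟩ := h.exists_quat K h₃ ha₃ ha₃B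
  obtain ⟨a₄, ha₄, ha₄B⟩ := h₄.1.exists_notMem
  obtain ⟨i₄, j₄, l₄, q₄⟩ := h.exists_quat K h₄ ha₄ ha₄B
  set C := B₁ ⊓ B₂ ⊓ B₃ ⊓ B₄ with hC
  have hC1 : C ≠ ⊥ := fun e => by
    have hc : c ∈ C := ⟨⟨⟨c₁, c₂⟩, c₃⟩, c₄⟩
    rw [e, Subgroup.mem_bot] at hc
    exact hc1 hc
  have hCA : C ≤ A := (inf_le_left.trans (inf_le_left.trans inf_le_left)).trans h₁.1.1
  set X := P ⊓ Subgroup.centralizer (C : Set G) with hX
  have hmem : ∀ {x : G} {B : Subgroup G}, x ∈ P → x ∈ Subgroup.centralizer (B : Set G) → C ≤ B →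
      x ∈ X := fun hx hxB hle => ⟨hx, fun b hb => hxB b (hle hb)⟩
  have hCB₁ : C ≤ B₁ := inf_le_left.trans (inf_le_left.trans inf_le_left)
  have hCB₂ : C ≤ B₂ := inf_le_left.trans (inf_le_left.trans inf_le_right)
  have hCB₃ : C ≤ B₃ := inf_le_left.trans inf_le_right
  have hCB₄ : C ≤ B₄ := inf_le_right
  have mi₁ := hmem q₁.iP q₁.iB hCB₁
  have mj₁ := hmem q₁.jP q₁.jB hCB₁
  have mi₂ := hmem q₂.iP q₂.iB hCB₂
  have mj₂ := hmem q₂.jP q₂.jB hCB₂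
  have mi₃ := hmem q₃.iP q₃.iB hCB₃
  have mj₃ := hmem q₃.jP q₃.jB hCB₃
  have mi₄ := hmem q₄.iP q₄.iB hCB₄
  have mj₄ := hmem q₄.jP q₄.jB hCB₄
  have hz : ∀ {x y : G} {B B' : Subgroup G}, x ∈ P → x ∈ Subgroup.centralizer (B : Set G) →
      y ∈ P → y ∈ Subgroup.centralizer (B' : Set G) → Lam 3 u A P B → Lam 3 u A P B' → B ≠ B' →
      Commute x y := fun hx hxB hy hyB hL hL' hne => h.cross K hL.1 hL'.1 hne hx hxB hy hyB
  have i13 := hz q₁.iP q₁.iB q₃.iP q₃.iB h₁ h₃ h13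
  have i1j3 := hz q₁.iP q₁.iB q₃.jP q₃.jB h₁ h₃ h13
  have i14 := hz q₁.iP q₁.iB q₄.iP q₄.iB h₁ h₄ h14
  have i1j4 := hz q₁.iP q₁.iB q₄.jP q₄.jB h₁ h₄ h14
  have j13 := hz q₁.jP q₁.jB q₃.jP q₃.jB h₁ h₃ h13
  have j1i3 := hz q₁.jP q₁.jB q₃.iP q₃.iB h₁ h₃ h13
  have j1i4 := hz q₁.jP q₁.jB q₄.iP q₄.iB h₁ h₄ h14
  have j14 := hz q₁.jP q₁.jB q₄.jP q₄.jB h₁ h₄ h14
  have i23 := hz q₂.iP q₂.iB q₃.iP q₃.iB h₂ h₃ h23
  have i2j3 := hz q₂.iP q₂.iB q₃.jP q₃.jB h₂ h₃ h23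
  have i24 := hz q₂.iP q₂.iB q₄.iP q₄.iB h₂ h₄ h24
  have i2j4 := hz q₂.iP q₂.iB q₄.jP q₄.jB h₂ h₄ h24
  have j23 := hz q₂.jP q₂.jB q₃.jP q₃.jB h₂ h₃ h23
  have j2i3 := hz q₂.jP q₂.jB q₃.iP q₃.iB h₂ h₃ h23
  have j2i4 := hz q₂.jP q₂.jB q₄.iP q₄.iB h₂ h₄ h24
  have j24 := hz q₂.jP q₂.jB q₄.jP q₄.jB h₂ h₄ h24
  have i12 := hz q₁.iP q₁.iB q₂.iP q₂.iB h₁ h₂ h12
  have j12 := hz q₁.jP q₁.jB q₂.jP q₂.jB h₁ h₂ h12
  have i1j2 := hz q₁.iP q₁.iB q₂.jP q₂.jB h₁ h₂ h12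
  have j1i2 := hz q₁.jP q₁.jB q₂.iP q₂.iB h₁ h₂ h12
  have i34 := hz q₃.iP q₃.iB q₄.iP q₄.iB h₃ h₄ h34
  have j34 := hz q₃.jP q₃.jB q₄.jP q₄.jB h₃ h₄ h34
  have i3j4 := hz q₃.iP q₃.iB q₄.jP q₄.jB h₃ h₄ h34
  have j3i4 := hz q₃.jP q₃.jB q₄.iP q₄.iB h₃ h₄ h34
  have c1 : ∀ {x y : G}, Commute x y → ⁅x, y⁆ = 1 := fun hc =>
    commutatorElement_eq_one_iff_mul_comm.mpr hc.eq
  have sqp : ∀ {x y : G}, Commute x y → x * x = u → y * y = u → x * y * (x * y) = 1 := fun hc hx hy => by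
    rw [← sq, hc.mul_pow, sq, sq, hx, hy, huu]
  have hu1 : ∀ {x y : G}, x ∈ P → y ∈ P → ⁅x, y⁆ * ⁅x, y⁆ = 1 := fun hx hy => by
    rcases (mem_zpowers_inv huu).mp (h.small.comm _ hx _ hy) with e | e <;> rw [e]
    · exact one_mul 1
    · exact huu
  have cm := fun {x y z : G} => h.small.comm_mul_right (x := x) (y := y) (z := z) huu
  have cmw : Commute (j₁ * j₂) (i₁ * i₂) := (commute_iff_eq _ _).mpr
    (commutatorElement_eq_one_iff_mul_comm.mp (by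
      rw [cm (mul_mem q₁.jP q₂.jP) q₁.iP q₂.iP, h.small.comm_mul_left q₁.jP q₂.jP q₁.iP,
        h.small.comm_mul_left q₁.jP q₂.jP q₂.iP, q₁.comm_ji h.small huu, c1 i1j2.symm, c1 j1i2,
        q₂.comm_ji h.small huu, mul_one, one_mul, huu]))
  have cm34 : Commute (j₃ * j₄) (i₃ * i₄) := (commute_iff_eq _ _).mpr
    (commutatorElement_eq_one_iff_mul_comm.mp (by
      rw [cm (mul_mem q₃.jP q₄.jP) q₃.iP q₄.iP, h.small.comm_mul_left q₃.jP q₄.jP q₃.iP,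
        h.small.comm_mul_left q₃.jP q₄.jP q₄.iP, q₃.comm_ji h.small huu, c1 i3j4.symm, c1 j3i4,
        q₄.comm_ji h.small huu, mul_one, one_mul, huu]))
  obtain ⟨D, V, -, -, -, -, -, -, -, hle⟩ := width K h.pr hCA hC1 (h.small.two.to_le inf_le_left)
    inf_le_right (fun x hx => h.small.comm_u x hx.1) (h.AX hCA) (w := i₁ * i₂) (mul_mem mi₁ mi₂)
    (sqp i12 q₁.sq_i q₂.sq_i) mj₁
    (by rw [cm q₁.jP q₁.iP q₂.iP, q₁.comm_ji h.small huu, c1 j1i2, mul_one])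
    [(j₁ * j₂, i₁), (i₃ * i₄, j₃), (j₃ * j₄, i₃)]
    ⟨mul_mem mj₁ mj₂, sqp j12 q₁.sq_j q₂.sq_j, mi₁,
      by rw [cm q₁.iP q₁.jP q₂.jP, q₁.comm_ij, c1 i1j2, mul_one],
      (by simp only [List.mem_singleton, forall_eq]
          exact ⟨cmw.eq, ((Commute.refl i₁).mul_right i12).eq⟩),
      mul_mem mi₃ mi₄, sqp i34 q₃.sq_i q₄.sq_i, mj₃,
      by rw [cm q₃.jP q₃.iP q₄.iP, q₃.comm_ji h.small huu, c1 j3i4, mul_one],
      (by simp only [List.mem_cons, List.not_mem_nil, or_false, forall_eq_or_imp, forall_eq]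
          exact ⟨⟨(((j1i3.mul_left j2i3).mul_right (j1i4.mul_left j2i4)).symm).eq,
              ((j13.mul_left j23).symm).eq⟩,
            (((i13.mul_left i23).mul_right (i14.mul_left i24)).symm).eq,
            ((i1j3.mul_left i2j3).symm).eq⟩),
      mul_mem mj₃ mj₄, sqp j34 q₃.sq_j q₄.sq_j, mi₃,
      by rw [cm q₃.iP q₃.jP q₄.jP, q₃.comm_ij, c1 i3j4, mul_one],
      (by simp only [List.mem_cons, List.not_mem_nil, or_false, forall_eq_or_imp, forall_eq]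
          exact ⟨⟨cm34.eq, ((Commute.refl i₃).mul_right i34).eq⟩,
            ⟨(((j13.mul_left j23).mul_right (j14.mul_left j24)).symm).eq,
              ((j1i3.mul_left j2i3).symm).eq⟩,
            (((i1j3.mul_left i2j3).mul_right (i1j4.mul_left i2j4)).symm).eq,
            ((i13.mul_left i23).symm).eq⟩),
      trivial⟩
  simp only [List.length_cons, List.length_nil] at hle
  have b1 : Nat.card A ≤ Nat.card B₁ * 3 := ge_of_eq h₁.1.2
  have b2 := h₂.1.card_le_inf_mul h₁.1.1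
  have b3 := h₃.1.card_le_inf_mul (inf_le_left.trans h₁.1.1 : B₁ ⊓ B₂ ≤ A)
  have b4 := h₄.1.card_le_inf_mul ((inf_le_left.trans inf_le_left).trans h₁.1.1 : B₁ ⊓ B₂ ⊓ B₃ ≤ A)
  rw [h.pr.card] at b1
  rw [← hC] at b4
  norm_num at hle
  have hpos : 0 < Nat.card C := Nat.card_pos
  omega

/-- A second maximal pair, normalized by `u`. -/
theorem Data.exists_second [Finite G] (K : Ctx G 3 m) (h : Data 3 m u A Q P) :
    ∃ (w : G) (C D V : Subgroup G), w * u = u * w ∧ C ≤ A ∧ C ≠ ⊥ ∧ Nat.card C * 9 = 3 ^ m ∧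
      CD 3 C D ∧ V ≤ D ∧ EA 3 V ∧ Nat.card V = 9 ∧ (∀ v ∈ V, Ng u v) ∧ Pr 3 m w (C ⊔ V) ∧
      ∀ B, Lam 3 u A P B → ¬ C ≤ B → ∀ x ∈ P, x ∈ Subgroup.centralizer (B : Set G) →
        x * w = w * x := by
  have := Fact.mk K.prime
  have huu := h.pr.inv
  obtain ⟨B₁, B₂, h₁, h₂, h12, hcard, hC1⟩ := h.exists_two K
  obtain ⟨a₁, ha₁, ha₁B⟩ := h₁.1.exists_notMem
  obtain ⟨i₁, j₁, l₁, q₁⟩ := h.exists_quat K h₁ ha₁ ha₁B
  obtain ⟨a₂, ha₂, ha₂B⟩ := h₂.1.exists_notMem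
  obtain ⟨i₂, j₂, l₂, q₂⟩ := h.exists_quat K h₂ ha₂ ha₂B
  set C := B₁ ⊓ B₂ with hC
  have hCA : C ≤ A := inf_le_left.trans h₁.1.1
  set X := P ⊓ Subgroup.centralizer (C : Set G) with hX
  have hX1 : ∀ {x : G}, x ∈ P → x ∈ Subgroup.centralizer (B₁ : Set G) → x ∈ X := fun hx hxB =>
    ⟨hx, fun b hb => hxB b hb.1⟩
  have hX2 : ∀ {x : G}, x ∈ P → x ∈ Subgroup.centralizer (B₂ : Set G) → x ∈ X := fun hx hxB =>
    ⟨hx, fun b hb => hxB b hb.2⟩
  have mi₁ := hX1 q₁.iP q₁.iB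
  have mj₁ := hX1 q₁.jP q₁.jB
  have mi₂ := hX2 q₂.iP q₂.iB
  have mj₂ := hX2 q₂.jP q₂.jB
  have i12 : Commute i₁ i₂ := h.cross K h₁.1 h₂.1 h12 q₁.iP q₁.iB q₂.iP q₂.iB
  have j12 : Commute j₁ j₂ := h.cross K h₁.1 h₂.1 h12 q₁.jP q₁.jB q₂.jP q₂.jB
  have i1j2 : Commute i₁ j₂ := h.cross K h₁.1 h₂.1 h12 q₁.iP q₁.iB q₂.jP q₂.jB
  have j1i2 : Commute j₁ i₂ := h.cross K h₁.1 h₂.1 h12 q₁.jP q₁.jB q₂.iP q₂.iB
  have c1 : ∀ {x y : G}, Commute x y → ⁅x, y⁆ = 1 := fun hc =>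
    commutatorElement_eq_one_iff_mul_comm.mpr hc.eq
  have cm := fun {x y z : G} => h.small.comm_mul_right (x := x) (y := y) (z := z) huu
  have hww : i₁ * i₂ * (i₁ * i₂) = 1 := by
    rw [← sq, i12.mul_pow, sq, sq, q₁.sq_i, q₂.sq_i, huu]
  have hee : j₁ * j₂ * (j₁ * j₂) = 1 := by
    rw [← sq, j12.mul_pow, sq, sq, q₁.sq_j, q₂.sq_j, huu]
  obtain ⟨D, V, hD, hVD, hV, hVc, hVs, hE, hEc, -⟩ := width K h.pr hCA hC1
    (h.small.two.to_le inf_le_left) inf_le_right (fun x hx => h.small.comm_u x hx.1) (h.AX hCA)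
    (w := i₁ * i₂) (mul_mem mi₁ mi₂) hww mj₁
    (by rw [cm q₁.jP q₁.iP q₂.iP, q₁.comm_ji h.small huu, c1 j1i2, mul_one])
    [(j₁ * j₂, i₁)]
    ⟨mul_mem mj₁ mj₂, hee, mi₁, by rw [cm q₁.iP q₁.jP q₂.jP, q₁.comm_ij, c1 i1j2, mul_one],
      (by simp only [List.mem_singleton, forall_eq]
          refine ⟨commutatorElement_eq_one_iff_mul_comm.mp ?_, ((Commute.refl i₁).mul_right i12).eq⟩
          rw [cm (mul_mem q₁.jP q₂.jP) q₁.iP q₂.iP, h.small.comm_mul_left q₁.jP q₂.jP q₁.iP,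
            h.small.comm_mul_left q₁.jP q₂.jP q₂.iP, q₁.comm_ji h.small huu, c1 i1j2.symm, c1 j1i2,
            q₂.comm_ji h.small huu, mul_one, one_mul, huu]), trivial⟩
  simp only [List.length_singleton, pow_one] at hVc hEc
  norm_num at hVc hEc hcard
  refine ⟨i₁ * i₂, C, D, V, h.small.comm_u _ (mul_mem q₁.iP q₂.iP), hCA, hC1, hcard, hD, hVD, hV,
    hVc, fun v hv => (hVs v hv).1, ⟨hww, ?_, hE, hEc.trans hcard, ?_⟩, ?_⟩
  · intro e
    have h3 : ⁅j₁, i₁ * i₂⁆ = u := by rw [cm q₁.jP q₁.iP q₂.iP, q₁.comm_ji h.small huu, c1 j1i2, mul_one]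
    rw [e, commutatorElement_one_right] at h3
    exact h.pr.ne h3.symm
  · have hle : C ⊔ V ≤ Subgroup.centralizer {i₁ * i₂} := sup_le
      (fun c hc => Subgroup.mem_centralizer_singleton_iff.mpr ((mul_mem mi₁ mi₂).2 c hc))
      fun x hx => Subgroup.mem_centralizer_singleton_iff.mpr (hVs x hx).2.commute.symm
    exact fun x hx => Subgroup.mem_centralizer_singleton_iff.mp (hle hx)
  · intro B hB hn x hx hxB
    have n1 : B ≠ B₁ := fun e => hn (e ▸ inf_le_left)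
    have n2 : B ≠ B₂ := fun e => hn (e ▸ inf_le_right)
    exact ((show Commute x i₁ from h.cross K hB.1 h₁.1 n1 hx hxB q₁.iP q₁.iB).mul_right
      (h.cross K hB.1 h₂.1 n2 hx hxB q₂.iP q₂.iB)).eq

end Cfsg.Agent.KlingerMason
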