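import Cfsg.Agent.Lib.KlingerMason.Pair

/-!
Counting in the centralizer of a maximal pair: the width lemma, the hyperplane decomposition of
`⁅O₂(C(u)), A⁆`, the case `p ≥ 5`, and the quaternion components for `p = 3`.
-/

set_option autoImplicit false

namespace Cfsg.Agent.KlingerMason

open scoped commutatorElement

variable {G : Type*} [Group G] {p m : ℕ}

theorem Fx.conj_of_comm {t y f : G} (h : t * y = y * t) (hf : Fx t f) : Fx t (y * f * y⁻¹) := by
  rw [Fx, conj_comm h, hf]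

theorem Ng.conj_of_comm {t y f : G} (h : t * y = y * t) (hf : Ng t f) : Ng t (y * f * y⁻¹) := by
  rw [Ng, conj_comm h, hf, conj_inv]

theorem flip_sign {u e y f : G} (hu : u * u = 1) (hye : ⁅y, e⁆ = u) (hyu : y * u = u * y)
    (hf : Ng u f) :
    (Fx e f → Ng e (y * f * y⁻¹)) ∧ (Ng e f → Fx e (y * f * y⁻¹)) := by
  have hy1 : y * e * y⁻¹ = u * e := by rw [← hye, commutatorElement_def]; group
  have hy : y⁻¹ * e * y = u * e := by
    have h2 : y * (u * e) * y⁻¹ = e := by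
      calc y * (u * e) * y⁻¹ = (y * u * y⁻¹) * (y * e * y⁻¹) := by group
        _ = u * (u * e) := by rw [commute_conj hyu, hy1]
        _ = e := by rw [← mul_assoc, hu, one_mul]
    nth_rw 1 [← h2]
    group
  have key : e * (y * f * y⁻¹) * e⁻¹ = y * ((u * e) * f * (u * e)⁻¹) * y⁻¹ := by rw [← hy]; group
  constructor
  · intro h
    rw [Ng, key, hf.mul_fx h, conj_inv]
  · intro h
    rw [Fx, key, hf.mul h]

/-- A chain of commuting involutions, each with an element inverting it modulo `u`. -/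
def Chain (u : G) (X : Subgroup G) : List G → List (G × G) → Prop
  | _, [] => True
  | prev, ey :: L => ey.1 ∈ X ∧ ey.1 * ey.1 = 1 ∧ ey.2 ∈ X ∧ ⁅ey.2, ey.1⁆ = u ∧
      (∀ t ∈ prev, ey.1 * t = t * ey.1 ∧ ey.2 * t = t * ey.2) ∧ Chain u X (ey.1 :: prev) L

theorem width_aux [Finite G] (K : Ctx G p m) {u : G} {A C D X : Subgroup G} (hu : Pr p m u A)
    (hCA : C ≤ A) (hD : CD p C D) (hX : IsPGroup 2 X) (hXC : X ≤ Subgroup.centralizer (C : Set G))
    (hXu : ∀ x ∈ X, x * u = u * x) (hAX : A ≤ Subgroup.normalizer (X : Set G)) :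
    ∀ (L : List (G × G)) (prev : List G), Chain u X prev L → ∀ v ∈ D, v ≠ 1 → Ng u v →
      (∀ t ∈ prev, Fx t v ∨ Ng t v) →
      ∃ V : Subgroup G, EA p V ∧ Nat.card V = p ^ 2 ^ L.length ∧
        ∀ x ∈ V, x ∈ D ∧ Ng u x ∧ ∀ t ∈ prev, (Fx t v → Fx t x) ∧ (Ng t v → Ng t x) := by
  have := Fact.mk K.prime
  intro L
  induction L with
  | nil =>
    intro prev _ v hv hv1 hvu _
    refine ⟨Subgroup.zpowers v, EA.zpowers (hD.dp.pow v hv), ?_, fun x hx => ?_⟩
    · rw [Nat.card_zpowers, orderOf_eq_prime (hD.dp.pow v hv) hv1]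
      simp
    obtain ⟨k, rfl⟩ := Subgroup.mem_zpowers_iff.mp hx
    refine ⟨D.zpow_mem hv k, ?_, fun t _ => ⟨fun h => ?_, fun h => ?_⟩⟩
    · rw [Ng, ← conj_zpow, hvu, inv_zpow]
    · rw [Fx, ← conj_zpow, h]
    · rw [Ng, ← conj_zpow, h, inv_zpow]
  | cons ey L ih =>
    obtain ⟨e, y⟩ := ey
    intro prev hch v hv hv1 hvu hsign
    obtain ⟨heX, hee, hyX, hye, hprev, hch'⟩ := hch
    dsimp only at heX hee hyX hye hprev hch'
    have heD : ∀ d ∈ D, e * d * e⁻¹ ∈ D := hD.norm e (hXC heX)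
    have heu : e * u = u * e := hXu e heX
    have hyu : y * u = u * y := hXu y hyX
    -- a vector with a sign for `e`
    obtain ⟨f, hf, hf1, hfe, hfu, hfs⟩ : ∃ f ∈ D, f ≠ 1 ∧ (Fx e f ∨ Ng e f) ∧ Ng u f ∧
        ∀ t ∈ prev, (Fx t v → Fx t f) ∧ (Ng t v → Ng t f) := by
      by_cases hn : Ng e v
      · exact ⟨v, hv, hv1, Or.inr hn, hvu, fun t _ => ⟨id, id⟩⟩
      · obtain ⟨f, hf, hf1, hff, hfs⟩ := hD.dp.exists_fix K.odd hee hv (heD v hv) hn
        exact ⟨f, hf, hf1, Or.inl hff, (hfs u heu.symm).2 hvu,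
          fun t ht => hfs t (hprev t ht).1.symm⟩
    set f' := y * f * y⁻¹ with hf'
    have hf'D : f' ∈ D := hD.norm y (hXC hyX) f hf
    have hf'1 : f' ≠ 1 := fun h => hf1 (conj_eq_one_iff.mp h)
    have hf'u : Ng u f' := hfu.conj_of_comm hyu.symm
    have hf's : ∀ t ∈ prev, (Fx t v → Fx t f') ∧ (Ng t v → Ng t f') := fun t ht =>
      ⟨fun h => ((hfs t ht).1 h).conj_of_comm (hprev t ht).2.symm,
        fun h => ((hfs t ht).2 h).conj_of_comm (hprev t ht).2.symm⟩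
    obtain ⟨hfl1, hfl2⟩ := flip_sign hu.inv hye hyu hfu
    have hboth : ∃ a ∈ D, a ≠ 1 ∧ Fx e a ∧ Ng u a ∧ (∀ t ∈ prev, (Fx t v → Fx t a) ∧ (Ng t v → Ng t a)) ∧
        ∃ b ∈ D, b ≠ 1 ∧ Ng e b ∧ Ng u b ∧ ∀ t ∈ prev, (Fx t v → Fx t b) ∧ (Ng t v → Ng t b) := by
      rcases hfe with h | h
      · exact ⟨f, hf, hf1, h, hfu, hfs, f', hf'D, hf'1, hfl1 h, hf'u, hf's⟩
      · exact ⟨f', hf'D, hf'1, hfl2 h, hf'u, hf's, f, hf, hf1, h, hfu, hfs⟩
    obtain ⟨a, haD, ha1, hae, hau, has, b, hbD, hb1, hbe, hbu, hbs⟩ := hboth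
    have hsa : ∀ t ∈ e :: prev, Fx t a ∨ Ng t a := fun t ht => by
      rcases List.mem_cons.mp ht with rfl | ht'
      · exact Or.inl hae
      · exact (hsign t ht').imp (has t ht').1 (has t ht').2
    have hsb : ∀ t ∈ e :: prev, Fx t b ∨ Ng t b := fun t ht => by
      rcases List.mem_cons.mp ht with rfl | ht'
      · exact Or.inr hbe
      · exact (hsign t ht').imp (hbs t ht').1 (hbs t ht').2
    obtain ⟨Va, hVa, hVac, hVas⟩ := ih (e :: prev) hch' a haD ha1 hau hsa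
    obtain ⟨Vb, hVb, hVbc, hVbs⟩ := ih (e :: prev) hch' b hbD hb1 hbu hsb
    have hea : ∀ x ∈ Va, Fx e x := fun x hx => ((hVas x hx).2.2 e (List.mem_cons_self)).1 hae
    have heb : ∀ x ∈ Vb, Ng e x := fun x hx => ((hVbs x hx).2.2 e (List.mem_cons_self)).2 hbe
    have hcomm : ∀ x ∈ Va, ∀ z ∈ Vb, x * z = z * x := by
      intro x hx z hz
      obtain ⟨hxD, hxu, -⟩ := hVas x hx
      obtain ⟨hzD, hzu, -⟩ := hVbs z hz
      obtain ⟨hc1, hc2, -⟩ := hD.dp.comm_inv hxD hzD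
      have hcD : ⁅x, z⁆ ∈ D := by
        rw [commutatorElement_def]
        exact mul_mem (mul_mem (mul_mem hxD hzD) (inv_mem hxD)) (inv_mem hzD)
      have hcu : Fx u ⁅x, z⁆ := by rw [Fx, conjugate_commutatorElement, hxu, hzu, hc1]
      have hce : Ng e ⁅x, z⁆ := by rw [Ng, conjugate_commutatorElement, hea x hx, heb z hz, hc2]
      exact commutatorElement_eq_one_iff_mul_comm.mp (hD.dp.not_both K.odd hcD
        (commute_conj (fix_lemma K hu hCA hD hX hXC hXu hAX heX hcD hcu.commute.symm)) hce)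
    have hle : Vb ≤ Subgroup.centralizer (Va : Set G) := fun z hz x hx => hcomm x hx z hz
    refine ⟨Va ⊔ Vb, hVa.sup hVb hle, ?_, ?_⟩
    · rw [card_sup hle ?_, hVac, hVbc, List.length_cons, pow_succ 2, mul_two, pow_add]
      rw [eq_bot_iff]
      rintro x ⟨hxa, hxb⟩
      exact Subgroup.mem_bot.mpr (hD.dp.not_both K.odd (hVas x hxa).1 (hea x hxa) (heb x hxb))
    intro x hx
    have h2 : x ∈ (↑(Va ⊔ Vb) : Set G) := hx
    rw [Subgroup.coe_mul_of_right_le_normalizer_left Va Vb (le_normalizer_of_le_centralizer hle)] at h2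
    obtain ⟨x1, hx1, x2, hx2, rfl⟩ := h2
    dsimp only at hx ⊢
    obtain ⟨h1D, h1u, h1s⟩ := hVas x1 hx1
    obtain ⟨h2D, h2u, h2s⟩ := hVbs x2 hx2
    have hcm := hcomm x1 hx1 x2 hx2
    have hmul : ∀ t : G, t * (x1 * x2) * t⁻¹ = (t * x1 * t⁻¹) * (t * x2 * t⁻¹) := fun t => by group
    refine ⟨mul_mem h1D h2D, ?_, fun t ht => ⟨fun h => ?_, fun h => ?_⟩⟩
    · rw [Ng, hmul, h1u, h2u, ← mul_inv_rev, hcm]
    · have e1 := (h1s t (List.mem_cons_of_mem _ ht)).1 ((has t ht).1 h)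
      have e2 := (h2s t (List.mem_cons_of_mem _ ht)).1 ((hbs t ht).1 h)
      rw [Fx, hmul, e1, e2]
    · have e1 := (h1s t (List.mem_cons_of_mem _ ht)).2 ((has t ht).2 h)
      have e2 := (h2s t (List.mem_cons_of_mem _ ht)).2 ((hbs t ht).2 h)
      rw [Ng, hmul, e1, e2, ← mul_inv_rev, hcm]

/-- **The width lemma.** -/
theorem width [Finite G] (K : Ctx G p m) {u : G} {A C X : Subgroup G} (hu : Pr p m u A)
    (hCA : C ≤ A) (hC1 : C ≠ ⊥) (hX : IsPGroup 2 X) (hXC : X ≤ Subgroup.centralizer (C : Set G))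
    (hXu : ∀ x ∈ X, x * u = u * x) (hAX : A ≤ Subgroup.normalizer (X : Set G))
    {w y0 : G} (hwX : w ∈ X) (hw : w * w = 1) (hyX : y0 ∈ X) (hy : ⁅y0, w⁆ = u)
    (L : List (G × G)) (hL : Chain u X [w] L) :
    ∃ D V : Subgroup G, CD p C D ∧ V ≤ D ∧ EA p V ∧ Nat.card V = p ^ 2 ^ L.length ∧
      (∀ v ∈ V, Ng u v ∧ Fx w v) ∧ EA p (C ⊔ V) ∧
      Nat.card ↥(C ⊔ V) = Nat.card C * p ^ 2 ^ L.length ∧
      Nat.card C * p ^ 2 ^ L.length ≤ p ^ m := by
  have := Fact.mk K.prime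
  obtain ⟨D, hD⟩ := exists_CD K (hu.ea.le hCA).isPGroup hC1
  have huC : u ∈ Subgroup.centralizer (C : Set G) := fun c hc => hu.comm c (hCA hc)
  obtain ⟨d, hd, hdne⟩ : ∃ d ∈ D, ¬ Fx u d := by
    by_contra! h
    exact hu.ne (hD.faithful u huC (inv_elt_coprime K.ne_two hu.inv) fun d hd => (h d hd).commute)
  obtain ⟨v, hv, hv1, hvu, -⟩ := hD.dp.exists_neg K.odd hu.inv hd (hD.norm u huC d hd) hdne
  have hwu := hXu w hwX
  obtain ⟨f, hf, hf1, hfu, hfw⟩ : ∃ f ∈ D, f ≠ 1 ∧ Ng u f ∧ Fx w f := by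
    by_cases hn : Ng w v
    · exact ⟨y0 * v * y0⁻¹, hD.norm y0 (hXC hyX) v hv, fun h => hv1 (conj_eq_one_iff.mp h),
        hvu.conj_of_comm (hXu y0 hyX).symm, (flip_sign hu.inv hy (hXu y0 hyX) hvu).2 hn⟩
    · obtain ⟨f, hf, hf1, hff, hfs⟩ := hD.dp.exists_fix K.odd hw hv (hD.norm w (hXC hwX) v hv) hn
      exact ⟨f, hf, hf1, (hfs u hwu.symm).2 hvu, hff⟩
  obtain ⟨V, hV, hVc, hVs⟩ := width_aux K hu hCA hD hX hXC hXu hAX L [w] hL f hf hf1 hfu
    (fun t ht => by rw [List.mem_singleton.mp ht]; exact Or.inl hfw)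
  have hVD : V ≤ D := fun x hx => (hVs x hx).1
  have hVsign : ∀ x ∈ V, Ng u x ∧ Fx w x := fun x hx =>
    ⟨(hVs x hx).2.1, ((hVs x hx).2.2 w List.mem_cons_self).1 hfw⟩
  have hle : V ≤ Subgroup.centralizer (C : Set G) := hVD.trans hD.cen
  have hdis : C ⊓ V = ⊥ := by
    rw [eq_bot_iff]
    rintro x ⟨hxC, hxV⟩
    exact Subgroup.mem_bot.mpr (hD.dp.not_both K.odd (hVD hxV) (commute_conj (hu.comm x (hCA hxC)).symm)
      (hVsign x hxV).1)
  have hE := (hu.ea.le hCA).sup hV hle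
  have hcard := card_sup hle hdis
  rw [hVc] at hcard
  refine ⟨D, V, hD, hVD, hV, hVc, hVsign, hE, hcard, ?_⟩
  rw [← hcard]
  have hw1 : w ≠ 1 := by
    rintro rfl
    exact hu.ne (by rw [← hy, commutatorElement_one_right])
  refine K.bound w hw hw1 _ hE ?_
  have hle2 : C ⊔ V ≤ Subgroup.centralizer {w} := sup_le
    (fun c hc => Subgroup.mem_centralizer_singleton_iff.mpr (hXC hwX c hc))
    fun x hx => Subgroup.mem_centralizer_singleton_iff.mpr (hVsign x hx).2.commute.symm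
  exact fun x hx => Subgroup.mem_centralizer_singleton_iff.mp (hle2 hx)

theorem Small.conj_u {u : G} {A P : Subgroup G} (h : Small u A P) {x z : G} (hx : x ∈ P)
    (hz : z ∈ Subgroup.zpowers u) : x * z * x⁻¹ = z := by
  obtain ⟨k, rfl⟩ := Subgroup.mem_zpowers_iff.mp hz
  exact commute_conj ((show Commute x u from h.comm_u x hx).zpow_right k)

theorem Small.comm_mul_left {u : G} {A P : Subgroup G} (h : Small u A P) {x y z : G} (hx : x ∈ P)
    (hy : y ∈ P) (hz : z ∈ P) : ⁅x * y, z⁆ = ⁅x, z⁆ * ⁅y, z⁆ := by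
  have h1 := h.comm x hx z hz
  have h2 := h.comm y hy z hz
  rw [commutatorElement_mul_left_eq_conj_mul, h.conj_u hx h2]
  obtain ⟨i, hi⟩ := Subgroup.mem_zpowers_iff.mp h1
  obtain ⟨j, hj⟩ := Subgroup.mem_zpowers_iff.mp h2
  rw [← hi, ← hj, ← zpow_add, ← zpow_add, add_comm]

theorem Small.comm_symm {u : G} {A P : Subgroup G} (h : Small u A P) (hu : u * u = 1) {x y : G}
    (hx : x ∈ P) (hy : y ∈ P) : ⁅y, x⁆ = ⁅x, y⁆ := by
  rw [← commutatorElement_inv]
  rcases (mem_zpowers_inv hu).mp (h.comm x hx y hy) with e | e <;> rw [e]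
  · exact inv_one
  · exact inv_eq_of_mul_eq_one_left hu

theorem Small.comm_mul_right {u : G} {A P : Subgroup G} (h : Small u A P) (hu : u * u = 1) {x y z : G}
    (hx : x ∈ P) (hy : y ∈ P) (hz : z ∈ P) : ⁅x, y * z⁆ = ⁅x, y⁆ * ⁅x, z⁆ := by
  rw [h.comm_symm hu (mul_mem hy hz) hx, h.comm_mul_left hy hz hx, h.comm_symm hu hx hy,
    h.comm_symm hu hx hz]

theorem Small.mul_self_mul {u : G} {A P : Subgroup G} (h : Small u A P) (hu : u * u = 1) {x y : G}
    (hx : x ∈ P) (hy : y ∈ P) : x * y * (x * y) = x * x * (y * y) * ⁅x, y⁆ := by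
  have h1 : x * y * (x * y) = x * x * (⁅x⁻¹, y⁆ * (y * y)) := by rw [commutatorElement_def]; group
  have h2 : ⁅x⁻¹, y⁆ = ⁅x, y⁆ := by
    have h3 : ⁅x⁻¹, y⁆ * ⁅x, y⁆ = 1 := by
      rw [← h.comm_mul_left (inv_mem hx) hx hy, inv_mul_cancel, commutatorElement_one_left]
    rw [eq_inv_of_mul_eq_one_left h3]
    rcases (mem_zpowers_inv hu).mp (h.comm x hx y hy) with e | e <;> rw [e]
    · exact inv_one
    · exact inv_eq_of_mul_eq_one_left hu
  rw [h1, h2]
  have h3 := h.conj_u (mul_mem hy hy) (h.comm x hx y hy)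
  rw [mul_assoc (x * x) (y * y), mul_inv_eq_iff_eq_mul.mp h3]

/-- The data attached to a pair: `Q = O₂(C(u))` and `P = ⁅Q, A⁆`. -/
structure Data (p m : ℕ) (u : G) (A Q P : Subgroup G) : Prop where
  pr : Pr p m u A
  Qtwo : IsPGroup 2 Q
  Qu : ∀ q ∈ Q, q * u = u * q
  uQ : u ∈ Q
  Qnorm : ∀ g : G, g * u = u * g → g ∈ Subgroup.normalizer (Q : Set G)
  Qcen : ∀ g : G, g * u = u * g → (∀ q ∈ Q, g * q = q * g) → g ∈ Q
  P_eq : P = ⁅Q, A⁆
  small : Small u A P

theorem exists_data [Finite G] (K : Ctx G p m) {u : G} {A : Subgroup G} (hu : Pr p m u A) :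
    ∃ Q P : Subgroup G, Data p m u A Q P := by
  obtain ⟨Q, hQ, hQu, huQ, hQn, hQC⟩ := exists_inv_core K hu.inv hu.ne
  exact ⟨Q, _, hu, hQ, hQu, huQ, hQn, hQC, rfl,
    small_commutator K hu hQ hQu fun a ha => hQn a (hu.comm a ha)⟩

/-- The hyperplanes with a nontrivial centralizer in `P`. -/
def Lam (p : ℕ) (u : G) (A P B : Subgroup G) : Prop :=
  Hyp p A B ∧ ∃ x ∈ P, x ∈ Subgroup.centralizer (B : Set G) ∧ x ∉ Subgroup.zpowers u

variable {u : G} {A Q P : Subgroup G}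

theorem Data.AQ (h : Data p m u A Q P) : A ≤ Subgroup.normalizer (Q : Set G) :=
  fun a ha => h.Qnorm a (h.pr.comm a ha)

theorem Data.PQ (h : Data p m u A Q P) : P ≤ Q :=
  h.P_eq ▸ Coprime.commutator_le_of_le_normalizer h.AQ

/-- The subgroup `P ∩ C(C)`, which is normalized by `A` when `C ≤ A`. -/
theorem Data.AX (h : Data p m u A Q P) {C : Subgroup G} (hCA : C ≤ A) :
    A ≤ Subgroup.normalizer ((P ⊓ Subgroup.centralizer (C : Set G) : Subgroup G) : Set G) :=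
  normalizes_inf_centralizer h.pr.ea hCA h.small.norm

theorem Data.gen [Finite G] (K : Ctx G p m) (h : Data p m u A Q P) {R S : Subgroup G} (hR : R ≤ P)
    (hAR : A ≤ Subgroup.normalizer (R : Set G)) (huS : Subgroup.zpowers u ≤ S)
    (hS : ∀ B, Lam p u A P B → R ⊓ Subgroup.centralizer (B : Set G) ≤ S) : R ≤ S := by
  have := Fact.mk K.prime
  refine le_of_hyperplanes h.pr.ea (K.ne_bot h.pr.card) hAR
    (two_group_coprime K.ne_two (h.small.two.to_le hR)) fun B hB => ?_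
  by_cases hL : Lam p u A P B
  · exact hS B hL
  · intro x hx
    by_contra hxS
    exact hL ⟨hB, x, hR hx.1, hx.2, fun hxu => hxS (huS hxu)⟩

/-- Conjugation by an element outside `B` moves an element of `C_P(B)` modulo `⟨u⟩`. -/
theorem Data.moved [Finite G] (K : Ctx G p m) (h : Data p m u A Q P) {B : Subgroup G} (hB : Hyp p A B)
    {a x : G} (ha : a ∈ A) (haB : a ∉ B) (hx : x ∈ P) (hxB : x ∈ Subgroup.centralizer (B : Set G))
    (hfix : a * x * a⁻¹ * x⁻¹ ∈ Subgroup.zpowers u) : x ∈ Subgroup.zpowers u := by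
  have := Fact.mk K.prime
  have hax : a * x = x * a := by
    rcases (mem_zpowers_inv h.pr.inv).mp hfix with e | e
    · exact mul_inv_eq_iff_eq_mul.mp (mul_inv_eq_one.mp e)
    exfalso
    have e1 : a * x * a⁻¹ = u * x := mul_inv_eq_iff_eq_mul.mp e
    have hpow : ∀ n : ℕ, a ^ n * x * (a ^ n)⁻¹ = u ^ n * x := by
      intro n
      induction n with
      | zero => simp
      | succ n ih =>
        calc a ^ (n + 1) * x * (a ^ (n + 1))⁻¹ = a * (a ^ n * x * (a ^ n)⁻¹) * a⁻¹ := by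
              rw [pow_succ']; group
          _ = (a * u ^ n * a⁻¹) * (a * x * a⁻¹) := by rw [ih]; group
          _ = _ := by
              rw [commute_conj ((show Commute a u from h.pr.comm a ha).pow_right n), e1, pow_succ,
                mul_assoc]
    have h2 := hpow p
    rw [h.pr.ea.pow a ha, inv_one, one_mul, mul_one] at h2
    obtain ⟨k, hk⟩ := K.odd
    rw [hk, pow_succ, pow_mul, sq, h.pr.inv, one_pow, one_mul] at h2
    exact h.pr.ne (mul_eq_right.mp h2.symm)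
  exact h.small.fixed x hx fun b hb => (hB.centralizes h.pr.ea ha haB hxB hax) b hb

/-- Different hyperplanes give commuting centralizers. -/
theorem Data.cross [Finite G] (K : Ctx G p m) (h : Data p m u A Q P) {B B' : Subgroup G}
    (hB : Hyp p A B) (hB' : Hyp p A B') (hne : B ≠ B') {x y : G} (hx : x ∈ P)
    (hxB : x ∈ Subgroup.centralizer (B : Set G)) (hy : y ∈ P)
    (hyB : y ∈ Subgroup.centralizer (B' : Set G)) : x * y = y * x := by
  have := Fact.mk K.prime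
  obtain ⟨a, haB', haB⟩ : ∃ a ∈ B', a ∉ B := by
    by_contra! hle
    refine hne (Subgroup.eq_of_le_of_card_ge hle ?_).symm
    exact le_of_eq (Nat.eq_of_mul_eq_mul_right K.prime.pos (hB.2.trans hB'.2.symm))
  have haA := hB'.1 haB'
  set X := P ⊓ Subgroup.centralizer (B : Set G) with hX
  have hZA : Subgroup.zpowers a ≤ A := Subgroup.zpowers_le.mpr haA
  have hAX : Subgroup.zpowers a ≤ Subgroup.normalizer (X : Set G) := hZA.trans (h.AX hB.1)
  have hcop : (Nat.card ↥(Subgroup.zpowers a)).Coprime (Nat.card X) := by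
    refine Nat.Coprime.coprime_dvd_left (Subgroup.card_dvd_of_le hZA) ?_
    rw [h.pr.card]
    exact ((two_group_coprime K.ne_two (h.small.two.to_le inf_le_left)).pow_right m).symm
  obtain ⟨c, ⟨hcX, hca⟩, g, hg, rfl⟩ := Coprime.exists_eq_centralizer_mul_commutator hAX hcop
    (Or.inl (Coprime.isSolvable_of_isMulCommutative _)) (Subgroup.mem_inf.mpr ⟨hx, hxB⟩)
  have hle : ⁅X, Subgroup.zpowers a⁆ ≤ Subgroup.centralizer {y} := by
    rw [Subgroup.commutator_le]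
    intro k hk b hb
    rw [Subgroup.mem_centralizer_singleton_iff]
    have hbA := hZA hb
    have hby : b * y * b⁻¹ = y :=
      commute_conj (hyB b (Subgroup.zpowers_le.mpr haB' hb))
    set k' := b * k⁻¹ * b⁻¹ with hk'
    have hk'P : k' ∈ P := (Subgroup.le_normalizer_iff.mp h.small.norm) b hbA _ (inv_mem hk.1)
    have h1 : ⁅k', y⁆ = ⁅k⁻¹, y⁆ := by
      have h2 : b * ⁅k⁻¹, y⁆ * b⁻¹ = ⁅k', y⁆ := by rw [conjugate_commutatorElement, hby]
      rw [← h2]
      obtain ⟨i, hi⟩ := Subgroup.mem_zpowers_iff.mp (h.small.comm k⁻¹ (inv_mem hk.1) y hy)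
      rw [← hi]
      exact commute_conj ((show Commute b u from h.pr.comm b hbA).zpow_right i)
    have h3 : ⁅k * k', y⁆ = 1 := by
      rw [h.small.comm_mul_left hk.1 hk'P hy, h1, ← h.small.comm_mul_left hk.1 (inv_mem hk.1) hy,
        mul_inv_cancel, commutatorElement_one_left]
    have e : ⁅k, b⁆ = k * k' := by rw [hk', commutatorElement_def]; group
    rw [e]
    exact commutatorElement_eq_one_iff_mul_comm.mp h3
  have hgy : Commute g y := Subgroup.mem_centralizer_singleton_iff.mp (hle hg)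
  have hc : c ∈ Subgroup.zpowers u := h.moved K hB haA haB hcX.1 hcX.2 (by
    rw [commute_conj (show Commute a c from hca a (Subgroup.mem_zpowers a)), mul_inv_cancel]
    exact one_mem _)
  obtain ⟨i, rfl⟩ := Subgroup.mem_zpowers_iff.mp hc
  exact (((show Commute y u from h.small.comm_u y hy).zpow_right i).symm.mul_left hgy).eq

/-- The centre of `C_P(B)` is inside `⟨u⟩`. -/
theorem Data.centralX [Finite G] (K : Ctx G p m) (h : Data p m u A Q P) {B : Subgroup G}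
    (hB : Hyp p A B) {x : G} (hx : x ∈ P) (hxB : x ∈ Subgroup.centralizer (B : Set G))
    (hc : ∀ y ∈ P, y ∈ Subgroup.centralizer (B : Set G) → x * y = y * x) :
    x ∈ Subgroup.zpowers u := by
  have hle : P ≤ Subgroup.centralizer {x} := by
    refine h.gen K le_rfl h.small.norm
      (Subgroup.zpowers_le.mpr (Subgroup.mem_centralizer_singleton_iff.mpr (h.small.comm_u x hx).symm))
      fun B' hB' y hy => Subgroup.mem_centralizer_singleton_iff.mpr ?_
    rcases eq_or_ne B B' with rfl | hne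
    · exact (hc y hy.1 hy.2).symm
    · exact (h.cross K hB hB'.1 hne hx hxB hy.1 hy.2).symm
  exact h.small.central x hx fun y hy => (Subgroup.mem_centralizer_singleton_iff.mp (hle hy)).symm

theorem Data.dual [Finite G] (K : Ctx G p m) (h : Data p m u A Q P) {B : Subgroup G}
    (hB : Hyp p A B) {x : G} (hx : x ∈ P) (hxB : x ∈ Subgroup.centralizer (B : Set G))
    (hxu : x ∉ Subgroup.zpowers u) :
    ∃ y ∈ P, y ∈ Subgroup.centralizer (B : Set G) ∧ ⁅y, x⁆ = u := by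
  by_contra! hn
  refine hxu (h.centralX K hB hx hxB fun y hy hyB => (commutatorElement_eq_one_iff_mul_comm.mp
    (((mem_zpowers_inv h.pr.inv).mp (h.small.comm y hy x hx)).resolve_right (hn y hy hyB))).symm)

theorem Data.dual2 [Finite G] (K : Ctx G p m) (h : Data p m u A Q P) {B : Subgroup G}
    (hB : Hyp p A B) {a b : G} (ha : a ∈ P) (haB : a ∈ Subgroup.centralizer (B : Set G))
    (hb : b ∈ P) (hbB : b ∈ Subgroup.centralizer (B : Set G))
    (hau : a ∉ Subgroup.zpowers u) (hbu : b ∉ Subgroup.zpowers u)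
    (habu : a * b ∉ Subgroup.zpowers u) :
    ∃ y ∈ P, y ∈ Subgroup.centralizer (B : Set G) ∧ ⁅y, a⁆ = u ∧ ⁅y, b⁆ = 1 := by
  have huu := h.pr.inv
  have hcs : ∀ x ∈ P, ∀ y ∈ P, ⁅x, y⁆ = 1 ∨ ⁅x, y⁆ = u := fun x hx y hy =>
    (mem_zpowers_inv huu).mp (h.small.comm x hx y hy)
  obtain ⟨y1, hy1, hy1B, hy1b⟩ := h.dual K hB hb hbB hbu
  obtain ⟨y2, hy2, hy2B, hy2a⟩ := h.dual K hB ha haB hau
  obtain ⟨y3, hy3, hy3B, hy3ab⟩ := h.dual K hB (mul_mem ha hb) (mul_mem haB hbB) habu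
  rw [h.small.comm_mul_right huu hy3 ha hb] at hy3ab
  rcases hcs y2 hy2 b hb with e2 | e2
  · exact ⟨y2, hy2, hy2B, hy2a, e2⟩
  rcases hcs y1 hy1 a ha with e1 | e1
  · refine ⟨y1 * y2, mul_mem hy1 hy2, mul_mem hy1B hy2B, ?_, ?_⟩
    · rw [h.small.comm_mul_left hy1 hy2 ha, e1, hy2a, one_mul]
    · rw [h.small.comm_mul_left hy1 hy2 hb, hy1b, e2, huu]
  rcases hcs y3 hy3 a ha with e3 | e3 <;> rw [e3] at hy3ab
  · rw [one_mul] at hy3ab
    refine ⟨y1 * y3, mul_mem hy1 hy3, mul_mem hy1B hy3B, ?_, ?_⟩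
    · rw [h.small.comm_mul_left hy1 hy3 ha, e1, e3, mul_one]
    · rw [h.small.comm_mul_left hy1 hy3 hb, hy1b, hy3ab, huu]
  · exact ⟨y3, hy3, hy3B, e3, mul_eq_left.mp hy3ab⟩

/-- An element of `A` in all members of `Λ` is trivial. -/
theorem Data.exists_notMem [Finite G] (K : Ctx G p m) (h : Data p m u A Q P) {a : G} (ha : a ∈ A)
    (ha1 : a ≠ 1) : ∃ B, Lam p u A P B ∧ a ∉ B := by
  have := Fact.mk K.prime
  by_contra! hall
  have hle : P ≤ Subgroup.centralizer {a} := h.gen K le_rfl h.small.norm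
    (Subgroup.zpowers_le.mpr (Subgroup.mem_centralizer_singleton_iff.mpr (h.pr.comm a ha).symm))
    fun B hB x hx => Subgroup.mem_centralizer_singleton_iff.mpr (hx.2 a (hall B hB)).symm
  have hZA : Subgroup.zpowers a ≤ A := Subgroup.zpowers_le.mpr ha
  have hcop : (Nat.card ↥(Subgroup.zpowers a)).Coprime (Nat.card Q) := by
    refine Nat.Coprime.coprime_dvd_left (Subgroup.card_dvd_of_le hZA) ?_
    rw [h.pr.card]
    exact ((two_group_coprime K.ne_two h.Qtwo).pow_right m).symm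
  have : Fact (Nat.Prime 2) := ⟨Nat.prime_two⟩
  have hz : Subgroup.zpowers a ≤ Subgroup.centralizer (Q : Set G) := by
    refine Coprime.le_centralizer_of_commutator_commutator_eq_bot (hZA.trans h.AQ) hcop
      (Or.inr (Coprime.isSolvable_of_isPGroup h.Qtwo)) ?_
    rw [eq_bot_iff]
    have h1 : ⁅Q, Subgroup.zpowers a⁆ ≤ P := h.P_eq ▸ Subgroup.commutator_mono le_rfl hZA
    refine (Subgroup.commutator_mono h1 le_rfl).trans ?_
    rw [le_bot_iff, Coprime.commutator_eq_bot_iff_le_centralizer', Subgroup.zpowers_le]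
    exact fun x hx => Subgroup.mem_centralizer_singleton_iff.mp (hle hx)
  have haQ : a ∈ Q := h.Qcen a (h.pr.comm a ha) fun q hq => (hz (Subgroup.mem_zpowers a) q hq).symm
  exact ha1 (orderOf_eq_one_iff.mp (Nat.eq_one_of_dvd_coprimes (two_elt_coprime K.ne_two h.Qtwo haQ)
    dvd_rfl (orderOf_dvd_of_pow_eq_one (h.pr.ea.pow a ha))))

theorem Data.exists_not_le [Finite G] (K : Ctx G p m) (h : Data p m u A Q P) {D : Subgroup G}
    (hD : D ≤ A) (hD1 : D ≠ ⊥) : ∃ B, Lam p u A P B ∧ ¬ D ≤ B := by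
  obtain ⟨a, ha, ha1⟩ := (Subgroup.bot_or_exists_ne_one D).resolve_left hD1
  obtain ⟨B, hB, hn⟩ := h.exists_notMem K (hD ha) ha1
  exact ⟨B, hB, fun hle => hn (hle ha)⟩

theorem card_inf_hyp [Finite G] [hp : Fact p.Prime] {A B D : Subgroup G} (hA : EA p A) (hB : Hyp p A B)
    (hD : D ≤ A) (hn : ¬ D ≤ B) : Nat.card ↥(D ⊓ B) * p = Nat.card D := by
  refine le_antisymm ?_ (hB.card_le_inf_mul hD)
  obtain ⟨i, hi⟩ := IsPGroup.iff_card.mp (hA.le (inf_le_left.trans hD : D ⊓ B ≤ A)).isPGroup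
  obtain ⟨j, hj⟩ := IsPGroup.iff_card.mp (hA.le hD).isPGroup
  have hlt : i < j := by
    by_contra hle
    push Not at hle
    refine hn (inf_eq_left.mp (Subgroup.eq_of_le_of_card_ge inf_le_left ?_))
    rw [hi, hj]
    exact Nat.pow_le_pow_right hp.out.pos hle
  rw [hi, hj, ← pow_succ]
  exact Nat.pow_le_pow_right hp.out.pos hlt

/-- Two members of `Λ` meeting in a subgroup of index `p²`. -/
theorem Data.exists_two [Finite G] (K : Ctx G p m) (h : Data p m u A Q P) :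
    ∃ B₁ B₂, Lam p u A P B₁ ∧ Lam p u A P B₂ ∧ B₁ ≠ B₂ ∧
      Nat.card ↥(B₁ ⊓ B₂) * (p * p) = p ^ m ∧ B₁ ⊓ B₂ ≠ ⊥ := by
  have := Fact.mk K.prime
  obtain ⟨B₁, hB₁, -⟩ := h.exists_not_le K le_rfl (K.ne_bot h.pr.card)
  obtain ⟨B₂, hB₂, hn⟩ := h.exists_not_le K hB₁.1.1 (K.card_hyp h.pr.card hB₁.1).2
  have hc := card_inf_hyp h.pr.ea hB₂.1 hB₁.1.1 hn
  have hcc : Nat.card ↥(B₁ ⊓ B₂) * (p * p) = p ^ m := by
    rw [← mul_assoc, hc, hB₁.1.2, h.pr.card]
  refine ⟨B₁, B₂, hB₁, hB₂, fun e => hn (le_of_eq e), hcc, fun e => ?_⟩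
  rw [e, Subgroup.card_bot, one_mul, ← pow_two] at hcc
  have := Nat.pow_right_injective K.prime.two_le hcc
  have := K.three_le
  omega

theorem exists_notMem_list [Finite G] (X : Subgroup G) (l : List G) (h : l.length < Nat.card X) :
    ∃ z ∈ X, z ∉ l := by
  classical
  by_contra! hn
  have h2 : Nat.card X ≤ Nat.card (l.toFinset : Finset G) :=
    Nat.card_le_card_of_injective (fun x => ⟨(x : G), List.mem_toFinset.mpr (hn x x.2)⟩)
      fun a b e => Subtype.ext (Subtype.mk.inj e)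
  rw [Nat.card_eq_finsetCard] at h2
  have := l.toFinset_card_le
  omega

/-- For `p ≥ 5` a member of `Λ` yields two commuting elements and an involution. -/
theorem Data.exists_commuting [Finite G] (K : Ctx G p m) (h : Data p m u A Q P) (hp5 : 5 ≤ p)
    {B : Subgroup G} (hB : Lam p u A P B) :
    ∃ w ∈ P ⊓ Subgroup.centralizer (B : Set G), ∃ s ∈ P ⊓ Subgroup.centralizer (B : Set G),
      w * w = 1 ∧ w ∉ Subgroup.zpowers u ∧ s ∉ Subgroup.zpowers u ∧ s * w ∉ Subgroup.zpowers u ∧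
        s * w = w * s := by
  have := Fact.mk K.prime
  have huu := h.pr.inv
  obtain ⟨hBH, x₀, hx₀, hx₀B, hx₀u⟩ := hB
  obtain ⟨a, ha, haB⟩ := hBH.exists_notMem
  set X := P ⊓ Subgroup.centralizer (B : Set G) with hX
  have hx₀X : x₀ ∈ X := ⟨hx₀, hx₀B⟩
  have huX : u ∈ X := by
    obtain ⟨y, hy, hyB, he⟩ := h.dual K hBH hx₀ hx₀B hx₀u
    rw [← he, commutatorElement_def]
    exact mul_mem (mul_mem (mul_mem ⟨hy, hyB⟩ hx₀X) (inv_mem ⟨hy, hyB⟩)) (inv_mem hx₀X)
  have hconj : ∀ n : ℕ, a ^ n * x₀ * (a ^ n)⁻¹ ∈ X := fun n =>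
    (Subgroup.le_normalizer_iff.mp (h.AX hBH.1)) _ (pow_mem ha n) _ hx₀X
  have hcard : 12 ≤ Nat.card X := by
    have hinj : ∀ n k : ℕ, n < p → k < n → a ^ n * x₀ * (a ^ n)⁻¹ * (a ^ k * x₀ * (a ^ k)⁻¹)⁻¹
        ∉ Subgroup.zpowers u := by
      intro n k hn hk hmem
      refine hx₀u (h.moved K hBH (pow_mem ha (n - k)) ?_ hx₀ hx₀B ?_)
      · intro hc
        refine haB ?_
        have hordne : a ≠ 1 := fun e => haB (e ▸ one_mem _)
        have hord := orderOf_eq_prime (h.pr.ea.pow a ha) hordne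
        obtain ⟨j, hj⟩ := exists_pow_eq_self_of_coprime (x := a) (n := n - k) (by
          rw [hord]
          exact (K.prime.coprime_iff_not_dvd.mpr fun hd =>
            absurd (Nat.le_of_dvd (by omega) hd) (by omega)).symm)
        exact hj ▸ pow_mem hc j
      · have hcm : Commute (a ^ k) u := (show Commute a u from h.pr.comm a ha).pow_left k
        obtain ⟨i, hi⟩ := Subgroup.mem_zpowers_iff.mp hmem
        have e : a ^ (n - k) * x₀ * (a ^ (n - k))⁻¹ * x₀⁻¹ =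
            (a ^ k)⁻¹ * (a ^ n * x₀ * (a ^ n)⁻¹ * (a ^ k * x₀ * (a ^ k)⁻¹)⁻¹) * a ^ k := by
          obtain ⟨d, rfl⟩ := Nat.exists_eq_add_of_le hk.le
          rw [Nat.add_sub_cancel_left, pow_add]; group
        rw [e, ← hi, mul_assoc, ← (hcm.zpow_right i).eq, inv_mul_cancel_left]
        exact Subgroup.zpow_mem _ (Subgroup.mem_zpowers u) i
    let f : Option (Fin p) × Bool → X := fun q =>
      (match q.1 with
        | none => 1
        | some n => ⟨_, hconj n⟩) * (if q.2 then ⟨u, huX⟩ else 1)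
    have hf : Function.Injective f := by
      have hT : ∀ b : Bool, ((if b then ⟨u, huX⟩ else 1 : X) : G) ∈ Subgroup.zpowers u := by
        intro b; cases b
        · exact one_mem _
        · exact Subgroup.mem_zpowers u
      have hsame : ∀ b c : Bool, ((if b then ⟨u, huX⟩ else 1 : X) : G) = (if c then ⟨u, huX⟩ else 1 : X) → b = c := by
        intro b c e
        cases b <;> cases c <;> simp [h.pr.ne, h.pr.ne.symm] at e ⊢
      rintro ⟨o, b⟩ ⟨o', c⟩ e
      have e' := congrArg Subtype.val e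
      simp only [f, Subgroup.coe_mul] at e'
      have hno : ∀ (n : Fin p) (b c : Bool), a ^ (n : ℕ) * x₀ * (a ^ (n : ℕ))⁻¹ *
          ((if b then ⟨u, huX⟩ else 1 : X) : G) ≠ (if c then ⟨u, huX⟩ else 1 : X) := by
        intro n b c e
        refine hx₀u ?_
        have h1 : a ^ (n : ℕ) * x₀ * (a ^ (n : ℕ))⁻¹ ∈ Subgroup.zpowers u := by
          rw [eq_mul_inv_of_mul_eq e]; exact mul_mem (hT c) (inv_mem (hT b))
        obtain ⟨i, hi⟩ := Subgroup.mem_zpowers_iff.mp h1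
        have e2 : x₀ = (a ^ (n : ℕ))⁻¹ * (a ^ (n : ℕ) * x₀ * (a ^ (n : ℕ))⁻¹) * a ^ (n : ℕ) := by group
        rw [e2, ← hi, mul_assoc,
          ← (((show Commute a u from h.pr.comm a ha).pow_left (n : ℕ)).zpow_right i).eq,
          inv_mul_cancel_left]
        exact Subgroup.zpow_mem _ (Subgroup.mem_zpowers u) i
      rcases o with _ | n <;> rcases o' with _ | n' <;> dsimp only at e'
      · simp only [Subgroup.coe_one, one_mul] at e'
        rw [hsame b c e']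
      · simp only [Subgroup.coe_one, one_mul] at e'
        exact absurd e'.symm (hno n' c b)
      · simp only [Subgroup.coe_one, one_mul] at e'
        exact absurd e' (hno n b c)
      · have hmem : a ^ (n : ℕ) * x₀ * (a ^ (n : ℕ))⁻¹ * (a ^ (n' : ℕ) * x₀ * (a ^ (n' : ℕ))⁻¹)⁻¹
            ∈ Subgroup.zpowers u := by
          rw [eq_mul_inv_of_mul_eq e']
          have hcu : ∀ z ∈ Subgroup.zpowers u, ∀ x ∈ P, x * z * x⁻¹ = z :=
            fun z hz x hx => h.small.conj_u hx hz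
          have hz := mul_mem (hT c) (inv_mem (hT b))
          rw [show ∀ y c b : G, y * c * b * y⁻¹ = y * (c * b) * y⁻¹ from fun _ _ _ => by group,
            hcu _ hz _ (hconj n').1]
          exact hz
        rcases lt_trichotomy (n : ℕ) n' with hlt | heq | hgt
        · refine absurd ?_ (hinj n' n n'.2 hlt)
          have := inv_mem hmem
          simpa [mul_assoc] using this
        · have hn : n = n' := Fin.ext heq
          subst hn
          rw [hsame b c (mul_left_cancel e')]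
        · exact absurd hmem (hinj n n' n.2 hgt)
    have h1 := Nat.card_le_card_of_injective f hf
    rw [Nat.card_prod, Nat.card_eq_fintype_card, Nat.card_eq_fintype_card, Fintype.card_option,
      Fintype.card_fin, Fintype.card_bool] at h1
    omega
  have hnotT : ∀ z ∈ X, z ∉ Subgroup.zpowers u → z * z = 1 ∨ z * z = u := fun z hz _ =>
    (mem_zpowers_inv huu).mp (h.small.sq z hz.1)
  have hT : ∀ z, z ≠ 1 → z ≠ u → z ∉ Subgroup.zpowers u := fun z h1 h2 hz =>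
    ((mem_zpowers_inv huu).mp hz).elim h1 h2
  -- an involution outside `⟨u⟩`
  obtain ⟨w, hwX, hww, hwu⟩ : ∃ w ∈ X, w * w = 1 ∧ w ∉ Subgroup.zpowers u := by
    by_contra! hno
    have hsq : ∀ z ∈ X, z ∉ Subgroup.zpowers u → z * z = u := fun z hz hzu =>
      (hnotT z hz hzu).resolve_left fun e => hzu (hno z hz e)
    have hanti : ∀ z ∈ X, ∀ t ∈ X, z ∉ Subgroup.zpowers u → t ∉ Subgroup.zpowers u →
        z * t ∉ Subgroup.zpowers u → ⁅z, t⁆ = u := by
      intro z hz t ht h1 h2 h3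
      have e := h.small.mul_self_mul huu hz.1 ht.1
      rw [hsq z hz h1, hsq t ht h2, hsq _ (mul_mem hz ht) h3, huu, one_mul] at e
      exact e.symm
    have hinv : ∀ z ∈ X, z ∉ Subgroup.zpowers u → z⁻¹ = z * u := fun z hz hzu =>
      inv_eq_of_mul_eq_one_right (by rw [← mul_assoc, hsq z hz hzu, huu])
    obtain ⟨x, hx, hxl⟩ := exists_notMem_list X [1, u] (by simp; omega)
    simp only [List.mem_cons, List.not_mem_nil, or_false, not_or] at hxl
    have hxT := hT x hxl.1 hxl.2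
    obtain ⟨y, hy, hyl⟩ := exists_notMem_list X [1, u, x, x * u] (by simp; omega)
    simp only [List.mem_cons, List.not_mem_nil, or_false, not_or] at hyl
    have hyT := hT y hyl.1 hyl.2.1
    have hxyT : x * y ∉ Subgroup.zpowers u := by
      intro hm
      rcases (mem_zpowers_inv huu).mp hm with e | e
      · exact hyl.2.2.2 ((inv_eq_of_mul_eq_one_right e).symm.trans (hinv x hx hxT))
      · refine hyl.2.2.1 ?_
        rw [eq_inv_mul_of_mul_eq e, hinv x hx hxT, mul_assoc, huu, mul_one]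
    have hxy := hanti x hx y hy hxT hyT hxyT
    obtain ⟨z, hz, hzl⟩ := exists_notMem_list X [1, u, x, x * u, y, y * u, x * y, x * y * u]
      (by simp; omega)
    simp only [List.mem_cons, List.not_mem_nil, or_false, not_or] at hzl
    obtain ⟨z1, zu, zx, zxu, zy, zyu, zxy, zxyu⟩ := hzl
    have hzT := hT z z1 zu
    have hxzT : x * z ∉ Subgroup.zpowers u := by
      intro hm
      rcases (mem_zpowers_inv huu).mp hm with e | e
      · exact zxu ((inv_eq_of_mul_eq_one_right e).symm.trans (hinv x hx hxT))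
      · refine zx ?_
        rw [eq_inv_mul_of_mul_eq e, hinv x hx hxT, mul_assoc, huu, mul_one]
    have hyzT : y * z ∉ Subgroup.zpowers u := by
      intro hm
      rcases (mem_zpowers_inv huu).mp hm with e | e
      · exact zyu ((inv_eq_of_mul_eq_one_right e).symm.trans (hinv y hy hyT))
      · refine zy ?_
        rw [eq_inv_mul_of_mul_eq e, hinv y hy hyT, mul_assoc, huu, mul_one]
    have hx3 : x * (y * z) ∉ Subgroup.zpowers u := by
      intro hm
      rw [← mul_assoc] at hm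
      rcases (mem_zpowers_inv huu).mp hm with e | e
      · exact zxyu ((inv_eq_of_mul_eq_one_right e).symm.trans (hinv _ (mul_mem hx hy) hxyT))
      · refine zxy ?_
        rw [eq_inv_mul_of_mul_eq e, hinv _ (mul_mem hx hy) hxyT, mul_assoc, huu, mul_one]
    have h5 := hanti x hx (y * z) (mul_mem hy hz) hxT hyzT hx3
    rw [h.small.comm_mul_right huu hx.1 hy.1 hz.1, hxy, hanti x hx z hz hxT hzT hxzT, huu] at h5
    exact h.pr.ne h5.symm
  obtain ⟨y₀, hy₀, hy₀B, hy₀w⟩ := h.dual K hBH hwX.1 hwX.2 hwu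
  obtain ⟨z, hz, hzl⟩ := exists_notMem_list X
    [1, u, w, w * u, y₀, y₀ * u, y₀ * w, y₀ * (w * u)] (by simp; omega)
  simp only [List.mem_cons, List.not_mem_nil, or_false, not_or] at hzl
  obtain ⟨z1, zu, zw, zwu, zy, zyu, zyw, zywu⟩ := hzl
  have hwi : w⁻¹ = w := inv_eq_of_mul_eq_one_left hww
  have hwcu : w * u = u * w := h.small.comm_u w hwX.1
  have hgood : ∀ s ∈ X, s ≠ 1 → s ≠ u → s ≠ w → s ≠ w * u → s * w = w * s →
      ∃ w ∈ X, ∃ s ∈ X, w * w = 1 ∧ w ∉ Subgroup.zpowers u ∧ s ∉ Subgroup.zpowers u ∧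
        s * w ∉ Subgroup.zpowers u ∧ s * w = w * s := by
    intro s hs h1 h2 h3 h4 hc
    refine ⟨w, hwX, s, hs, hww, hwu, hT s h1 h2, hT _ (fun e => h3 ?_) (fun e => h4 ?_), hc⟩
    · rw [eq_inv_of_mul_eq_one_left e, hwi]
    · rw [eq_mul_inv_of_mul_eq e, hwi, hwcu]
  rcases (mem_zpowers_inv huu).mp (h.small.comm z hz.1 w hwX.1) with e | e
  · exact hgood z hz z1 zu zw zwu (commutatorElement_eq_one_iff_mul_comm.mp e)
  · have hyi : ⁅y₀⁻¹, w⁆ = u := by
      have e3 : ⁅y₀⁻¹, w⁆ * ⁅y₀, w⁆ = 1 := by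
        rw [← h.small.comm_mul_left (inv_mem hy₀) hy₀ hwX.1, inv_mul_cancel, commutatorElement_one_left]
      rw [hy₀w] at e3
      rw [eq_inv_of_mul_eq_one_left e3, inv_eq_of_mul_eq_one_left huu]
    refine hgood (y₀⁻¹ * z) (mul_mem (inv_mem ⟨hy₀, hy₀B⟩) hz) (fun e1 => zy ?_) (fun e1 => zyu ?_)
      (fun e1 => zyw ?_) (fun e1 => zywu ?_) (commutatorElement_eq_one_iff_mul_comm.mp ?_)
    · exact (inv_mul_eq_one.mp e1).symm
    · exact inv_mul_eq_iff_eq_mul.mp e1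
    · exact inv_mul_eq_iff_eq_mul.mp e1
    · exact inv_mul_eq_iff_eq_mul.mp e1
    · rw [h.small.comm_mul_left (inv_mem hy₀) hz.1 hwX.1, hyi, e, huu]

theorem Data.five_false [Finite G] (K : Ctx G p m) (h : Data p m u A Q P) (hp5 : 5 ≤ p) : False := by
  have := Fact.mk K.prime
  have huu := h.pr.inv
  obtain ⟨B, B', hB, hB', hne, hcard, hC1⟩ := h.exists_two K
  obtain ⟨w, hw, s, hs, hww, hwT, hsT, hswT, hsw⟩ := h.exists_commuting K hp5 hB
  obtain ⟨w', hw', t, ht, hw'w, hw'T, htT, htwT, htw⟩ := h.exists_commuting K hp5 hB'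
  set C := B ⊓ B' with hC
  set X := P ⊓ Subgroup.centralizer (C : Set G) with hX
  have hCA : C ≤ A := inf_le_left.trans hB.1.1
  have hXB : ∀ x ∈ P ⊓ Subgroup.centralizer (B : Set G), x ∈ X := fun x hx =>
    ⟨hx.1, fun c hc => hx.2 c hc.1⟩
  have hXB' : ∀ x ∈ P ⊓ Subgroup.centralizer (B' : Set G), x ∈ X := fun x hx =>
    ⟨hx.1, fun c hc => hx.2 c hc.2⟩
  have hcr : ∀ x ∈ P ⊓ Subgroup.centralizer (B : Set G),
      ∀ y ∈ P ⊓ Subgroup.centralizer (B' : Set G), x * y = y * x := fun x hx y hy =>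
    h.cross K hB.1 hB'.1 hne hx.1 hx.2 hy.1 hy.2
  have hfalse : ∀ {w y0 : G} (L : List (G × G)), L.length = 2 → w ∈ X → w * w = 1 → y0 ∈ X →
      ⁅y0, w⁆ = u → Chain u X [w] L → False := by
    intro w y0 L hL h1 h2 h3 h4 h5
    obtain ⟨D, V, -, -, -, -, -, -, -, hle⟩ := width K h.pr hCA hC1 (h.small.two.to_le inf_le_left)
      inf_le_right (fun x hx => h.small.comm_u x hx.1) (h.AX hCA) h1 h2 h3 h4 L h5
    rw [hL, ← hcard] at hle
    have h6 := Nat.le_of_mul_le_mul_left hle Nat.card_pos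
    rw [← pow_two] at h6
    have := (Nat.pow_le_pow_iff_right K.prime.one_lt).mp h6
    omega
  obtain ⟨y0, hy0, hy0B, hy0w⟩ := h.dual K hB.1 hw.1 hw.2 hwT
  obtain ⟨y1, hy1, hy1B, hy1s, hy1w⟩ := h.dual2 K hB.1 hs.1 hs.2 hw.1 hw.2 hsT hwT hswT
  obtain ⟨z0, hz0, hz0B, hz0w⟩ := h.dual K hB'.1 hw'.1 hw'.2 hw'T
  obtain ⟨z1, hz1, hz1B, hz1t, hz1w⟩ := h.dual2 K hB'.1 ht.1 ht.2 hw'.1 hw'.2 htT hw'T htwT
  have hc1 : ∀ {x y : G}, ⁅x, y⁆ = 1 → x * y = y * x := fun e =>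
    commutatorElement_eq_one_iff_mul_comm.mp e
  rcases (mem_zpowers_inv huu).mp (h.small.sq s hs.1) with hss | hss
  · refine hfalse [(s, y1), (w', z0)] rfl (hXB w hw) hww (hXB y0 ⟨hy0, hy0B⟩) hy0w
      ⟨hXB s hs, hss, hXB y1 ⟨hy1, hy1B⟩, hy1s, ?_, hXB' w' hw', hw'w, hXB' z0 ⟨hz0, hz0B⟩, hz0w, ?_,
        trivial⟩
    · simp only [List.mem_singleton, forall_eq]
      exact ⟨hsw, hc1 hy1w⟩
    · simp only [List.mem_cons, List.not_mem_nil, or_false, forall_eq_or_imp, forall_eq]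
      exact ⟨⟨(hcr s hs w' hw').symm, (hcr s hs z0 ⟨hz0, hz0B⟩).symm⟩,
        (hcr w hw w' hw').symm, (hcr w hw z0 ⟨hz0, hz0B⟩).symm⟩
  rcases (mem_zpowers_inv huu).mp (h.small.sq t ht.1) with htt | htt
  · refine hfalse [(t, z1), (w, y0)] rfl (hXB' w' hw') hw'w (hXB' z0 ⟨hz0, hz0B⟩) hz0w
      ⟨hXB' t ht, htt, hXB' z1 ⟨hz1, hz1B⟩, hz1t, ?_, hXB w hw, hww, hXB y0 ⟨hy0, hy0B⟩, hy0w, ?_,
        trivial⟩
    · simp only [List.mem_singleton, forall_eq]
      exact ⟨htw, hc1 hz1w⟩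
    · simp only [List.mem_cons, List.not_mem_nil, or_false, forall_eq_or_imp, forall_eq]
      exact ⟨⟨hcr w hw t ht, hcr y0 ⟨hy0, hy0B⟩ t ht⟩,
        hcr w hw w' hw', hcr y0 ⟨hy0, hy0B⟩ w' hw'⟩
  · have hst : Commute s t := hcr s hs t ht
    have hy1t : ⁅y1, t⁆ = 1 :=
      commutatorElement_eq_one_iff_mul_comm.mpr (hcr y1 ⟨hy1, hy1B⟩ t ht)
    have hy1st : ⁅y1, s * t⁆ = u := by
      rw [h.small.comm_mul_right huu hy1 hs.1 ht.1, hy1s, hy1t, mul_one]
    -- an element inverting `w'` and commuting with `t`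
    obtain ⟨z2, hz2, hz2B, hz2w, hz2t⟩ :=
      h.dual2 K hB'.1 hw'.1 hw'.2 ht.1 ht.2 hw'T htT (htw ▸ htwT)
    refine hfalse [(s * t, y1), (w', z2)] rfl (hXB w hw) hww (hXB y0 ⟨hy0, hy0B⟩) hy0w
      ⟨mul_mem (hXB s hs) (hXB' t ht), ?_, hXB y1 ⟨hy1, hy1B⟩, hy1st, ?_, hXB' w' hw', hw'w,
        hXB' z2 ⟨hz2, hz2B⟩, hz2w, ?_, trivial⟩
    · rw [← sq, hst.mul_pow, sq, sq, hss, htt, huu]
    · simp only [List.mem_singleton, forall_eq]
      exact ⟨((show Commute s w from hsw).mul_left (hcr w hw t ht).symm).eq, hc1 hy1w⟩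
    · simp only [List.mem_cons, List.not_mem_nil, or_false, forall_eq_or_imp, forall_eq]
      refine ⟨⟨(((show Commute s w' from hcr s hs w' hw').mul_left
          (show Commute t w' from htw)).symm).eq, ?_⟩,
        (hcr w hw w' hw').symm, (hcr w hw z2 ⟨hz2, hz2B⟩).symm⟩
      exact (((show Commute s z2 from hcr s hs z2 ⟨hz2, hz2B⟩).mul_left
        (show Commute t z2 from (hc1 hz2t).symm)).symm).eq

end Cfsg.Agent.KlingerMason
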